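import Cfsg.Agent.Lib.Helper45.FPDefs
import Cfsg.Agent.Lib.Helper64.FPARRE
import Cfsg.Agent.Lib.Helper58.FPARRG
import Cfsg.Agent.Lib.Helper94.FPBETA
import Cfsg.Agent.Lib.Helper31.FPCYCEMB
import Cfsg.Agent.Lib.Helper58.FPFIB
import Cfsg.Agent.Lib.Helper77.FPPART0

set_option autoImplicit false

namespace Cfsg.Agent.Lib.Helper45.FP

open Equiv Cfsg.Agent.Lib.Helper45.FP

theorem arr_cast_add_J (J ℓ : ℕ) (hJℓ : J ∣ ℓ) (z : ZMod ℓ) :
    (ZMod.cast (z + (J : ZMod ℓ)) : ZMod J) = ZMod.cast z := by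
  rw [ZMod.cast_add hJℓ, ZMod.cast_natCast hJℓ]
  simp

theorem arr_pow_intertwine {α β : Type*} (w : Perm α) (M : Perm β) (e : β ↪ α)
    (h : ∀ z, w (e z) = e (M z)) (k : ℕ) (z : β) : (w ^ k) (e z) = e ((M ^ k) z) := by
  induction k generalizing z with
  | zero => simp
  | succ k ih => rw [pow_succ, pow_succ, Perm.mul_apply, Perm.mul_apply, h, ih]

theorem arr_pow_add (J ℓ : ℕ) (hJℓ : J ∣ ℓ) (M : Perm (ZMod ℓ)) (k : ZMod J)
    (h : ∀ z : ZMod ℓ, (ZMod.cast z : ZMod J) = k → M z = z + (J : ZMod ℓ)) (i : ℕ) (z : ZMod ℓ)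
    (hz : (ZMod.cast z : ZMod J) = k) :
    (M ^ i) z = z + i • (J : ZMod ℓ) ∧ (ZMod.cast ((M ^ i) z) : ZMod J) = k := by
  induction i with
  | zero => simp [hz]
  | succ i ih =>
    obtain ⟨h1, h2⟩ := ih
    have h3 : (M ^ (i + 1)) z = M ((M ^ i) z) := by rw [pow_succ', Perm.mul_apply]
    rw [h3, h _ h2, h1]
    constructor
    · rw [succ_nsmul]; ring
    · rw [arr_cast_add_J J ℓ hJℓ, ← h1]; exact h2

/-- the element of a given class mapped to a given point of the fibre -/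
theorem arr_surj {α : Type*} [Fintype α] [DecidableEq α] (J m ℓ : ℕ) [NeZero ℓ]
    (β : ZMod J × ZMod m ≃ ZMod ℓ) (hβ : ∀ k y, (ZMod.cast (β (k, y)) : ZMod J) = k)
    (G : ZMod J → Finset α) (hGc : ∀ k, (G k).card = m) [NeZero m]
    (e : ZMod ℓ ↪ α) (heG : ∀ z : ZMod ℓ, e z ∈ G (ZMod.cast z)) (k : ZMod J) (x : α)
    (hx : x ∈ G k) : ∃ z : ZMod ℓ, (ZMod.cast z : ZMod J) = k ∧ e z = x := by
  classical
  -- the image of `y ↦ e (β (k, y))` is a subset of `G k` with `m` elements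
  have hinj : Function.Injective (fun y : ZMod m => e (β (k, y))) := by
    intro y y' h
    have := β.injective (e.injective h)
    exact (Prod.mk.inj this).2
  have hsub : Finset.image (fun y : ZMod m => e (β (k, y))) Finset.univ ⊆ G k := by
    intro a ha
    obtain ⟨y, -, rfl⟩ := Finset.mem_image.1 ha
    have := heG (β (k, y))
    rwa [hβ] at this
  have hcard : (Finset.image (fun y : ZMod m => e (β (k, y))) Finset.univ).card = (G k).card := by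
    rw [Finset.card_image_of_injective _ hinj, Finset.card_univ, ZMod.card, hGc]
  have heq := Finset.eq_of_subset_of_card_le hsub (le_of_eq hcard.symm)
  rw [← heq] at hx
  obtain ⟨y, -, rfl⟩ := Finset.mem_image.1 hx
  exact ⟨β (k, y), hβ k y, rfl⟩

/-- ARR: the arrangement (assembly of PART0, FIB, BETA, CYCEMB, ARRG, ARRE) -/
theorem ARR {α : Type*} [Fintype α] [DecidableEq α] (p : ℕ) [Fact p.Prime] (w : Perm α)
    (hw : ∀ x, ∃ i : ℕ, Function.minimalPeriod w x = p ^ i)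
    (J μ ℓ : ℕ) (hℓ : ℓ = J * (p * μ)) [NeZero ℓ] (hcard : ℓ ≤ Fintype.card α)
    (hμpow : ∃ b : ℕ, μ = p ^ b)
    (x₁ : α) (hx₁ : Function.minimalPeriod w x₁ = p * μ)
    (hmax : ∀ x, Function.minimalPeriod w x ∣ p * μ) :
    ∃ (e : ZMod ℓ ↪ α) (M : Perm (ZMod ℓ)),
      (∀ z, w (e z) = e (M z)) ∧
      (∀ z : ZMod ℓ, (ZMod.cast (M z) : ZMod J) = ZMod.cast z) ∧
      (∀ z : ZMod ℓ, (ZMod.cast z : ZMod J) = 0 → M z = z + (J : ZMod ℓ)) ∧
      (((∀ z : ZMod ℓ, (ZMod.cast z : ZMod J) = 1 → M z = z + (J : ZMod ℓ)) ∧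
          (∀ z : ZMod ℓ, (M ^ μ) (z + (J : ZMod ℓ)) = (M ^ μ) z + (J : ZMod ℓ))) ∨
        (∀ z : ZMod ℓ, (ZMod.cast z : ZMod J) ≠ 0 → (M ^ μ) z = z)) := by
  have hp : p.Prime := Fact.out
  have hℓ0 : ℓ ≠ 0 := NeZero.ne ℓ
  have hJ0 : J ≠ 0 := by
    rintro rfl
    simp at hℓ; exact hℓ0 hℓ
  have hμ0 : μ ≠ 0 := by
    rintro rfl
    simp at hℓ; exact hℓ0 hℓ
  have : NeZero J := ⟨hJ0⟩
  have : NeZero (p * μ) := ⟨Nat.mul_ne_zero hp.ne_zero hμ0⟩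
  have hJℓ : J ∣ ℓ := ⟨p * μ, hℓ⟩
  have hpart : ∀ (k : ℕ) (X : Finset α), (∀ x ∈ X, w x ∈ X) → k * (p * μ) ≤ X.card →
      ∃ F : Fin k → Finset α, (∀ i, F i ⊆ X) ∧ (∀ i, ∀ x ∈ F i, w x ∈ F i) ∧
        (∀ i, (F i).card = p * μ) ∧ (∀ i j, i ≠ j → Disjoint (F i) (F j)) :=
    fun k X hX hc => Cfsg.Agent.Lib.Helper77.FP.PART0 p w hw (p * μ) k X hX hc (fun x _ => hmax x)
  obtain ⟨G, hG, hGc, hGd, hx₁G, hGalt⟩ := Cfsg.Agent.Lib.Helper58.FP.ARRG p w hw J μ (hℓ ▸ hcard) hμpow x₁ hx₁ hmax hpart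
  have hfib : ∀ F : Finset α, (∀ x ∈ F, w x ∈ F) → F.card = p * μ →
      ∃ γ : ZMod (p * μ) ↪ α, (∀ y, γ y ∈ F) ∧
        ((∀ y, w (γ y) = γ (y + 1)) ∨ (∀ x ∈ F, (w ^ μ) x = x)) :=
    fun F hF hFc => Cfsg.Agent.Lib.Helper58.FP.FIB p w μ hμpow hw (fun x₀ hx₀ => Cfsg.Agent.Lib.Helper31.FP.CYCEMB w x₀ (p * μ) hx₀) F hF hFc
      (fun x _ => hmax x)
  have hbeta := Cfsg.Agent.Lib.Helper94.FP.BETA J (p * μ) ℓ hℓ
  obtain ⟨e, M, hwe, hM0, heG, hdich⟩ := Cfsg.Agent.Lib.Helper64.FP.ARRE p w J μ ℓ hℓ G hG hGc hGd hfib hbeta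
  obtain ⟨β, hβ1, -⟩ := hbeta
  -- a class containing a point of period `p * μ` is of the first kind
  have hkind : ∀ (k : ZMod J) (x : α), x ∈ G k → Function.minimalPeriod w x = p * μ →
      ∀ z : ZMod ℓ, (ZMod.cast z : ZMod J) = k → M z = z + (J : ZMod ℓ) := by
    intro k x hx hper
    rcases hdich k with h | h
    · exact h
    · exfalso
      obtain ⟨z₀, hz₀, rfl⟩ := arr_surj J (p * μ) ℓ β hβ1 G hGc e heG k x hx
      have h1 : (w ^ μ) (e z₀) = e z₀ := by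
        rw [arr_pow_intertwine w M e hwe, h z₀ hz₀]
      have h2 : Function.IsPeriodicPt w μ (e z₀) := by
        unfold Function.IsPeriodicPt Function.IsFixedPt
        rw [Equiv.Perm.iterate_eq_pow]; exact h1
      have h3 := h2.minimalPeriod_dvd
      rw [hper] at h3
      have h4 := Nat.le_of_dvd (Nat.pos_of_ne_zero hμ0) h3
      have h5 : 2 * μ ≤ p * μ := Nat.mul_le_mul_right μ hp.two_le
      omega
  refine ⟨e, M, hwe, hM0, hkind 0 x₁ hx₁G hx₁, ?_⟩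
  rcases hGalt with ⟨x₂, hx₂G, hx₂, -⟩ | hGalt
  · left
    refine ⟨hkind 1 x₂ hx₂G hx₂, ?_⟩
    intro z
    rcases hdich (ZMod.cast z) with h | h
    · have h1 := (arr_pow_add J ℓ hJℓ M _ h μ z rfl).1
      have h2 := (arr_pow_add J ℓ hJℓ M _ h μ (z + (J : ZMod ℓ)) (arr_cast_add_J J ℓ hJℓ z)).1
      rw [h1, h2]; ring
    · rw [h z rfl, h (z + (J : ZMod ℓ)) (arr_cast_add_J J ℓ hJℓ z)]
  · right
    intro z hz
    have h1 := hGalt _ hz (e z) (heG z)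
    rw [arr_pow_intertwine w M e hwe] at h1
    exact e.injective h1

end Cfsg.Agent.Lib.Helper45.FP
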