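import Mathlib

set_option autoImplicit false

namespace Cfsg.Agent.Lib.Helper45.FP

open Equiv

/-- translation by `1` on `ZMod ℓ` -/
def rot (ℓ : ℕ) : Perm (ZMod ℓ) := Equiv.addRight 1

theorem rot_apply (ℓ : ℕ) (x : ZMod ℓ) : rot ℓ x = x + 1 := rfl

/-- the 3-cycle `a → b → c → a` (when `a, b, c` are distinct) -/
def cyc3 {α : Type*} [DecidableEq α] (a b c : α) : Perm α := swap a b * swap b c

/-- `(a, b)` is a good pair for `p`: the product is not a `p`-element and the
subgroup generated is not solvable. -/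
def Good {α : Type*} (p : ℕ) (a b : Perm α) : Prop :=
  (¬ ∃ k : ℕ, orderOf (a * b) = p ^ k) ∧
    ¬ Group.IsSolvable ↥(Subgroup.closure ({a, b} : Set (Perm α)))

/-- some even conjugate of `w` is good with `u` -/
def P {α : Type*} [DecidableEq α] [Fintype α] (p : ℕ) (u w : Perm α) : Prop :=
  ∃ g : Perm α, Equiv.Perm.sign g = 1 ∧ Good p u (g * w * g⁻¹)

end Cfsg.Agent.Lib.Helper45.FP
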