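import Cfsg.Agent.Lib.Helper45.FPDefs

set_option autoImplicit false

namespace Cfsg.Agent.Lib.Helper45.FP

open Equiv Cfsg.Agent.Lib.Helper45.FP

theorem rot_pow_apply (ℓ : ℕ) (k : ℕ) (x : ZMod ℓ) : (rot ℓ ^ k) x = x + (k : ZMod ℓ) := by
  induction k generalizing x with
  | zero => simp
  | succ k ih =>
    rw [pow_succ, Perm.mul_apply, rot_apply, ih]
    push_cast; ring

theorem cast_add_J (J ℓ : ℕ) (hJℓ : J ∣ ℓ) (z : ZMod ℓ) :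
    (ZMod.cast (z + (J : ZMod ℓ)) : ZMod J) = ZMod.cast z := by
  rw [ZMod.cast_add hJℓ, ZMod.cast_natCast hJℓ]
  simp

theorem pow_on_class (J ℓ : ℕ) (hJℓ : J ∣ ℓ) (M : Perm (ZMod ℓ)) (k : ZMod J)
    (h : ∀ z : ZMod ℓ, (ZMod.cast z : ZMod J) = k → M z = z + (J : ZMod ℓ)) (i : ℕ) (z : ZMod ℓ)
    (hz : (ZMod.cast z : ZMod J) = k) :
    (M ^ i) z = z + ((J * i : ℕ) : ZMod ℓ) ∧ (ZMod.cast ((M ^ i) z) : ZMod J) = k := by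
  induction i with
  | zero => simp [hz]
  | succ i ih =>
    obtain ⟨h1, h2⟩ := ih
    have h3 : (M ^ (i + 1)) z = M ((M ^ i) z) := by rw [pow_succ', Perm.mul_apply]
    rw [h3, h _ h2, h1]
    constructor
    · push_cast; ring
    · rw [cast_add_J J ℓ hJℓ, ← h1]; exact h2

theorem comm_identity {G : Type*} [Group G] (t E C : G) (ht : t⁻¹ = t) (hEC : E * C = C * E) :
    t * E * t * C * (t * E * t)⁻¹ * C⁻¹ =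
      t * (E * t * E⁻¹) * (E * (C * t * C⁻¹) * E⁻¹) * (C * t * C⁻¹) := by
  have key : C⁻¹ * E⁻¹ * C = E⁻¹ := by
    have : C⁻¹ * E⁻¹ = E⁻¹ * C⁻¹ := by rw [← mul_inv_rev, hEC, mul_inv_rev]
    rw [this]; group
  have h1 : t * (E * t * E⁻¹) * (E * (C * t * C⁻¹) * E⁻¹) * (C * t * C⁻¹) =
      t * E * t * C * t * (C⁻¹ * E⁻¹ * C) * t * C⁻¹ := by group
  have h2 : t * E * t * C * (t * E * t)⁻¹ * C⁻¹ = t * E * t * C * t⁻¹ * E⁻¹ * t⁻¹ * C⁻¹ := by group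
  rw [h1, h2, key, ht]

/-- M3B1: regime B, formula for the commutator -/
theorem M3B1 (p J μ ℓ : ℕ) [Fact p.Prime] (hp3 : 3 ≤ p) (hℓ : ℓ = J * (p * μ)) [NeZero ℓ]
    (hpJ : p ∣ J)
    (M : Perm (ZMod ℓ))
    (hM1 : ∀ x : ZMod ℓ, (ZMod.cast x : ZMod J) = 0 → M x = x + (J : ZMod ℓ))
    (hM1' : ∀ x : ZMod ℓ, (ZMod.cast x : ZMod J) = 1 → M x = x + (J : ZMod ℓ))
    (hMJ : ∀ x : ZMod ℓ, (M ^ μ) (x + (J : ZMod ℓ)) = (M ^ μ) x + (J : ZMod ℓ)) :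
    (swap (0 : ZMod ℓ) ((J : ZMod ℓ) + 1) * M * swap (0 : ZMod ℓ) ((J : ZMod ℓ) + 1)) ^ μ *
        rot ℓ ^ J *
        ((swap (0 : ZMod ℓ) ((J : ZMod ℓ) + 1) * M * swap (0 : ZMod ℓ) ((J : ZMod ℓ) + 1)) ^ μ)⁻¹ *
        (rot ℓ ^ J)⁻¹ =
      swap (0 : ZMod ℓ) ((J : ZMod ℓ) + 1) *
        swap ((J * μ : ℕ) : ZMod ℓ) (((J * μ : ℕ) : ZMod ℓ) + (J : ZMod ℓ) + 1) *
        swap (((J * μ : ℕ) : ZMod ℓ) + (J : ZMod ℓ))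
          (((J * μ : ℕ) : ZMod ℓ) + 2 * (J : ZMod ℓ) + 1) *
        swap (J : ZMod ℓ) (2 * (J : ZMod ℓ) + 1) := by
  have hJℓ : J ∣ ℓ := ⟨p * μ, hℓ⟩
  have hJ1 : 1 < J := by
    have hp : p.Prime := Fact.out
    have hJ0 : J ≠ 0 := by
      rintro rfl
      simp at hℓ; exact (NeZero.ne ℓ) hℓ
    have := Nat.le_of_dvd (Nat.pos_of_ne_zero hJ0) hpJ
    omega
  have : Fact (1 < J) := ⟨hJ1⟩
  -- classes
  have c0 : (ZMod.cast (0 : ZMod ℓ) : ZMod J) = 0 := by simp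
  have cJ : (ZMod.cast ((J : ZMod ℓ)) : ZMod J) = 0 := by
    rw [ZMod.cast_natCast hJℓ]; simp
  have cb : (ZMod.cast ((J : ZMod ℓ) + 1) : ZMod J) = 1 := by
    rw [ZMod.cast_add hJℓ, cJ, ZMod.cast_one hJℓ]; simp
  have cbJ : (ZMod.cast ((J : ZMod ℓ) + 1 + (J : ZMod ℓ)) : ZMod J) = 1 := by
    rw [cast_add_J J ℓ hJℓ, cb]
  -- values of `E = M ^ μ`
  have e0 := (pow_on_class J ℓ hJℓ M 0 hM1 μ 0 c0).1
  have eJ := (pow_on_class J ℓ hJℓ M 0 hM1 μ (J : ZMod ℓ) cJ).1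
  have eb := (pow_on_class J ℓ hJℓ M 1 hM1' μ ((J : ZMod ℓ) + 1) cb).1
  have ebJ := (pow_on_class J ℓ hJℓ M 1 hM1' μ ((J : ZMod ℓ) + 1 + (J : ZMod ℓ)) cbJ).1
  -- commutation
  have hEC : M ^ μ * rot ℓ ^ J = rot ℓ ^ J * M ^ μ := by
    ext x
    rw [Perm.mul_apply, Perm.mul_apply, rot_pow_apply, rot_pow_apply, hMJ]
  have hpow : (swap (0 : ZMod ℓ) ((J : ZMod ℓ) + 1) * M * swap (0 : ZMod ℓ) ((J : ZMod ℓ) + 1)) ^ μ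
      = swap (0 : ZMod ℓ) ((J : ZMod ℓ) + 1) * M ^ μ * swap (0 : ZMod ℓ) ((J : ZMod ℓ) + 1) := by
    have h := conj_pow (a := swap (0 : ZMod ℓ) ((J : ZMod ℓ) + 1)) (b := M) (i := μ)
    rw [Equiv.swap_inv] at h
    exact h
  rw [hpow, comm_identity _ _ _ (Equiv.swap_inv _ _) hEC]
  rw [← Equiv.swap_apply_apply (rot ℓ ^ J), ← Equiv.swap_apply_apply (M ^ μ),
    ← Equiv.swap_apply_apply (M ^ μ)]
  rw [rot_pow_apply, rot_pow_apply]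
  simp only [zero_add]
  rw [e0, eb, eJ, ebJ]
  have r2 : (J : ZMod ℓ) + 1 + ((J * μ : ℕ) : ZMod ℓ) = ((J * μ : ℕ) : ZMod ℓ) + (J : ZMod ℓ) + 1 := by
    ring
  have r4 : (J : ZMod ℓ) + ((J * μ : ℕ) : ZMod ℓ) = ((J * μ : ℕ) : ZMod ℓ) + (J : ZMod ℓ) := by ring
  have r5 : (J : ZMod ℓ) + 1 + (J : ZMod ℓ) + ((J * μ : ℕ) : ZMod ℓ) =
      ((J * μ : ℕ) : ZMod ℓ) + 2 * (J : ZMod ℓ) + 1 := by ring
  have r6 : (J : ZMod ℓ) + 1 + (J : ZMod ℓ) = 2 * (J : ZMod ℓ) + 1 := by ring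
  rw [r5, r6, r2, r4, zero_add]

end Cfsg.Agent.Lib.Helper45.FP
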