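import Cfsg.Agent.Lib.Helper45.FPDefs
import Cfsg.Agent.Lib.Lead.FPALTNS
import Cfsg.Agent.Lib.Lead.FPFIX
import Cfsg.Agent.Lib.Helper45.FPM3B1
import Cfsg.Agent.Lib.Helper31.FPM3B2
import Cfsg.Agent.Lib.Helper77.FPM3C
import Cfsg.Agent.Lib.Helper8.FPMNP
import Cfsg.Agent.Lib.Helper31.FPPRIM
import Cfsg.Agent.Lib.Helper31.FPSPO
import Cfsg.Agent.Lib.Helper8.FPT1E
import Cfsg.Agent.Lib.Helper31.FPT1O

set_option autoImplicit false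

namespace Cfsg.Agent.Lib.Helper45.FP

open Equiv Cfsg.Agent.Lib.Helper45.FP

/-- a subgroup containing `rot` and a 3-cycle with unit displacement is not solvable -/
theorem good_nonsolv (ℓ : ℕ) [NeZero ℓ] (h5 : 5 ≤ ℓ) (G : Subgroup (Perm (ZMod ℓ)))
    (hc : rot ℓ ∈ G) (θ : Perm (ZMod ℓ)) (hθ : θ ∈ G) (h3 : θ.IsThreeCycle) (x₀ : ZMod ℓ)
    (hunit : IsUnit (θ x₀ - x₀)) : ¬ Group.IsSolvable ↥G := by
  apply Cfsg.Agent.Lib.Lead.FP.ALTNS (by rw [ZMod.card]; exact h5) G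
  exact Cfsg.Agent.Lib.Helper31.FP.PRIM ℓ G hc θ hθ h3 x₀ hunit

theorem good_unit_of_coprime {p a : ℕ} (hp : p.Prime) (k : ℕ) (hk : ¬ p ∣ k) :
    IsUnit ((k : ℕ) : ZMod (p ^ a)) := by
  rw [ZMod.isUnit_iff_coprime]
  exact Nat.Coprime.pow_right a ((Nat.Prime.coprime_iff_not_dvd hp).2 hk).symm

/-- GOODT: the two `T1` models are good -/
theorem GOODT (p ℓ : ℕ) [Fact p.Prime] (hp3 : 3 ≤ p) [NeZero ℓ] (h5 : 5 ≤ ℓ)
    (hℓpow : ∃ a : ℕ, ℓ = p ^ a) :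
    Good p (rot ℓ) (swap (1 : ZMod ℓ) 2 * rot ℓ * (swap (1 : ZMod ℓ) 2)⁻¹) ∧
    Good p (rot ℓ) (swap (0 : ZMod ℓ) 2 * swap (2 : ZMod ℓ) 4 * rot ℓ *
      (swap (0 : ZMod ℓ) 2 * swap (2 : ZMod ℓ) 4)⁻¹) := by
  have hp : p.Prime := Fact.out
  obtain ⟨a, rfl⟩ := hℓpow
  have ha : a ≠ 0 := by
    rintro rfl
    simp at h5
  have hpodd : Odd p := hp.odd_of_ne_two (by omega)
  have hodd : Odd (p ^ a) := hpodd.pow
  have hdvd : p ∣ Fintype.card (ZMod (p ^ a)) := by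
    rw [ZMod.card]; exact dvd_pow_self p ha
  obtain ⟨o1, o2, o3, o4⟩ := Cfsg.Agent.Lib.Helper31.FP.T1O (p ^ a) hodd h5
  obtain ⟨e1, e2, e3, e4⟩ := Cfsg.Agent.Lib.Helper8.FP.T1E (p ^ a) hodd h5
  constructor
  · rw [Equiv.swap_inv]
    refine ⟨Cfsg.Agent.Lib.Lead.FP.FIX p hp3 hdvd _ 2 2 o1 (fun x hx => Or.inl (o2 x hx)), ?_⟩
    apply good_nonsolv (p ^ a) h5 _ (Subgroup.subset_closure (by simp))
      ((rot (p ^ a))⁻¹ * (swap (1 : ZMod (p ^ a)) 2 * rot (p ^ a) * swap (1 : ZMod (p ^ a)) 2))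
      ?_ o3 0
    · rw [o4]; simp
    · exact Subgroup.mul_mem _ (Subgroup.inv_mem _ (Subgroup.subset_closure (by simp)))
        (Subgroup.subset_closure (by simp))
  · refine ⟨Cfsg.Agent.Lib.Lead.FP.FIX p hp3 hdvd _ 2 4 e1 e2, ?_⟩
    apply good_nonsolv (p ^ a) h5 _ (Subgroup.subset_closure (by simp))
      (((rot (p ^ a))⁻¹) ^ 2 * (swap (0 : ZMod (p ^ a)) 2 * swap (2 : ZMod (p ^ a)) 4 * rot (p ^ a) *
        (swap (0 : ZMod (p ^ a)) 2 * swap (2 : ZMod (p ^ a)) 4)⁻¹) ^ 2) ?_ e3 0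
    · rw [e4]
      have h4 : IsUnit ((4 : ℕ) : ZMod (p ^ a)) := by
        apply good_unit_of_coprime hp
        intro hd
        have h2 : p ∣ 2 * 2 := by simpa using hd
        rcases (Nat.Prime.dvd_mul hp).1 h2 with h | h <;>
          · have := Nat.le_of_dvd (by norm_num) h; omega
      simpa using h4
    · exact Subgroup.mul_mem _ (Subgroup.pow_mem _ (Subgroup.inv_mem _
        (Subgroup.subset_closure (by simp))) 2)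
        (Subgroup.pow_mem _ (Subgroup.subset_closure (by simp)) 2)

/-- GOODM: the perturbed model is good in regimes B and C -/
theorem GOODM (p J μ ℓ : ℕ) [Fact p.Prime] (hp3 : 3 ≤ p) (hℓ : ℓ = J * (p * μ)) [NeZero ℓ]
    (hpJ : p ∣ J) (hℓpow : ∃ a : ℕ, ℓ = p ^ a) (hμpow : ∃ b : ℕ, μ = p ^ b)
    (M : Perm (ZMod ℓ))
    (hM0 : ∀ z : ZMod ℓ, (ZMod.cast (M z) : ZMod J) = ZMod.cast z)
    (hM1 : ∀ z : ZMod ℓ, (ZMod.cast z : ZMod J) = 0 → M z = z + (J : ZMod ℓ))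
    (hreg : ((∀ z : ZMod ℓ, (ZMod.cast z : ZMod J) = 1 → M z = z + (J : ZMod ℓ)) ∧
          (∀ z : ZMod ℓ, (M ^ μ) (z + (J : ZMod ℓ)) = (M ^ μ) z + (J : ZMod ℓ))) ∨
        (∀ z : ZMod ℓ, (ZMod.cast z : ZMod J) ≠ 0 → (M ^ μ) z = z)) :
    Good p (rot ℓ) (swap (0 : ZMod ℓ) ((J : ZMod ℓ) + 1) * M *
      (swap (0 : ZMod ℓ) ((J : ZMod ℓ) + 1))⁻¹) := by
  have hp : p.Prime := Fact.out
  rw [Equiv.swap_inv]
  have hℓ0 : ℓ ≠ 0 := NeZero.ne ℓ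
  have hJ0 : J ≠ 0 := by
    rintro rfl
    simp at hℓ; exact hℓ0 hℓ
  have hμ0 : μ ≠ 0 := by
    rintro rfl
    simp at hℓ; exact hℓ0 hℓ
  have hJp : p ≤ J := Nat.le_of_dvd (Nat.pos_of_ne_zero hJ0) hpJ
  have hm3 : 3 ≤ p * μ := by
    have : p * 1 ≤ p * μ := Nat.mul_le_mul_left p (Nat.pos_of_ne_zero hμ0)
    omega
  have h5 : 5 ≤ ℓ := by
    rw [hℓ]
    have : 3 * 3 ≤ J * (p * μ) := Nat.mul_le_mul (by omega) hm3
    omega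
  obtain ⟨a, ha⟩ := hℓpow
  have ha0 : a ≠ 0 := by
    rintro rfl
    simp at ha; omega
  have hpodd : Odd p := hp.odd_of_ne_two (by omega)
  have hodd : Odd ℓ := by rw [ha]; exact hpodd.pow
  have hdvd : p ∣ Fintype.card (ZMod ℓ) := by
    rw [ZMod.card, ha]; exact dvd_pow_self p ha0
  obtain ⟨n1, n2⟩ := Cfsg.Agent.Lib.Helper8.FP.MNP J (p * μ) ℓ hℓ hodd h5 hm3 M hM0 hM1
  refine ⟨Cfsg.Agent.Lib.Lead.FP.FIX p hp3 hdvd _ _ 1 n1 n2, ?_⟩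
  rcases hreg with ⟨hM1', hMJ⟩ | hMC
  · -- regime B
    have hspo : ∀ (σ τ : Perm (ZMod ℓ)) (x : ZMod ℓ), σ x ≠ x → τ x ≠ x →
        (∀ y, σ y ≠ y → τ y ≠ y → y = x) →
        (σ * τ * σ⁻¹ * τ⁻¹).IsThreeCycle ∧ (σ * τ * σ⁻¹ * τ⁻¹) x = σ x :=
      fun σ τ x h1 h2 h3 => Cfsg.Agent.Lib.Helper31.FP.SPO σ τ x h1 h2 h3
    have b1 := Cfsg.Agent.Lib.Helper45.FP.M3B1 p J μ ℓ hp3 hℓ hpJ M hM1 hM1' hMJ
    obtain ⟨b2, b3⟩ := Cfsg.Agent.Lib.Helper31.FP.M3B2 p J μ ℓ hp3 hℓ hpJ hμpow hspo _ b1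
    refine good_nonsolv ℓ h5 _ (Subgroup.subset_closure (by simp)) _ ?_ b2
      (((J * μ : ℕ) : ZMod ℓ) + (J : ZMod ℓ)) ?_
    · have hv : swap (0 : ZMod ℓ) ((J : ZMod ℓ) + 1) * M * swap (0 : ZMod ℓ) ((J : ZMod ℓ) + 1) ∈
          Subgroup.closure ({rot ℓ, swap (0 : ZMod ℓ) ((J : ZMod ℓ) + 1) * M *
            swap (0 : ZMod ℓ) ((J : ZMod ℓ) + 1)} : Set (Perm (ZMod ℓ))) :=
        Subgroup.subset_closure (by simp)
      have hc : rot ℓ ∈ Subgroup.closure ({rot ℓ, swap (0 : ZMod ℓ) ((J : ZMod ℓ) + 1) * M *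
            swap (0 : ZMod ℓ) ((J : ZMod ℓ) + 1)} : Set (Perm (ZMod ℓ))) :=
        Subgroup.subset_closure (by simp)
      have hε := Subgroup.mul_mem _ (Subgroup.mul_mem _ (Subgroup.mul_mem _
        (Subgroup.pow_mem _ hv μ) (Subgroup.pow_mem _ hc J))
        (Subgroup.inv_mem _ (Subgroup.pow_mem _ hv μ))) (Subgroup.inv_mem _ (Subgroup.pow_mem _ hc J))
      have hε' := Subgroup.mul_mem _ (Subgroup.mul_mem _ (Subgroup.pow_mem _ hc (J * μ - 1)) hε)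
        (Subgroup.inv_mem _ (Subgroup.pow_mem _ hc (J * μ - 1)))
      exact Subgroup.mul_mem _ (Subgroup.mul_mem _ (Subgroup.mul_mem _ hε hε')
        (Subgroup.inv_mem _ hε)) (Subgroup.inv_mem _ hε')
    · rw [b3]
      have h1 : IsUnit (((J + 1 : ℕ) : ℕ) : ZMod ℓ) := by
        rw [ha]
        apply good_unit_of_coprime hp
        intro hd
        have : p ∣ 1 := (Nat.dvd_add_right hpJ).1 hd
        have := Nat.le_of_dvd (by norm_num) this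
        omega
      have h2 : ((J * μ : ℕ) : ZMod ℓ) + 2 * (J : ZMod ℓ) + 1 - (((J * μ : ℕ) : ZMod ℓ) + (J : ZMod ℓ))
          = ((J + 1 : ℕ) : ZMod ℓ) := by
        push_cast; ring
      rw [h2]; exact h1
  · -- regime C
    have hspo : ∀ (σ τ : Perm (ZMod ℓ)) (x : ZMod ℓ), σ x ≠ x → τ x ≠ x →
        (∀ y, σ y ≠ y → τ y ≠ y → y = x) →
        (σ * τ * σ⁻¹ * τ⁻¹).IsThreeCycle ∧ (σ * τ * σ⁻¹ * τ⁻¹) x = σ x :=
      fun σ τ x h1 h2 h3 => Cfsg.Agent.Lib.Helper31.FP.SPO σ τ x h1 h2 h3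
    obtain ⟨θ, hθ, h3, x, hx⟩ := Cfsg.Agent.Lib.Helper77.FP.M3C p J μ ℓ hp3 hℓ hpJ ⟨a, ha⟩ hspo M hM1 hMC
    exact good_nonsolv ℓ h5 _ (Subgroup.subset_closure (by simp)) θ hθ h3 x hx

end Cfsg.Agent.Lib.Helper45.FP
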