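import Cfsg.Agent.Lib.Helper45.FPDefs

set_option autoImplicit false

namespace Cfsg.Agent.Lib.Helper45.FP

open Equiv Cfsg.Agent.Lib.Helper45.FP

theorem cert_comm_mem {G : Type*} [Group G] (H : Subgroup G) (s t : G) (hs : s ∈ H) (ht : t ∈ H) :
    s * t * s⁻¹ * t⁻¹ ∈ ⁅H, H⁆ := by
  have h := Subgroup.commutator_mem_commutator hs ht
  rwa [commutatorElement_def] at h

theorem cert_not_solvable {G : Type*} [Group G] (x y z : G) (hx : x ≠ 1)
    (key : x = z * (x * (y * x * y⁻¹) * x⁻¹ * (y * x * y⁻¹)⁻¹) * z⁻¹) : ¬ Group.IsSolvable G := by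
  refine not_isSolvable_of_mem_derivedSeries hx fun n => ?_
  induction n with
  | zero => exact Subgroup.mem_top x
  | succ n ih =>
    rw [key]
    have hn : (derivedSeries G (n + 1)).Normal := derivedSeries_normal G (n + 1)
    apply hn.conj_mem
    exact cert_comm_mem _ _ _ ih ((derivedSeries_normal _ _).conj_mem _ ih _)

theorem five_ne_three_pow (k : ℕ) : (5 : ℕ) ≠ 3 ^ k := by
  intro h
  rcases k with _ | k
  · simp at h
  · have : 3 ∣ 5 := by rw [h]; exact dvd_pow_self 3 (Nat.succ_ne_zero k)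
    omega

theorem good3_of_cert {α : Type*} [DecidableEq α] [Fintype α] (a b : Perm α)
    (h5 : (a * b) ^ 5 = 1) (h1 : a * b ≠ 1) (ha : a ≠ 1)
    (y z : Perm α) (hy : y ∈ Subgroup.closure ({a, b} : Set (Perm α)))
    (hz : z ∈ Subgroup.closure ({a, b} : Set (Perm α)))
    (key : a = z * (a * (y * a * y⁻¹) * a⁻¹ * (y * a * y⁻¹)⁻¹) * z⁻¹) : Good 3 a b := by
  constructor
  · rintro ⟨k, hk⟩
    have : Fact (Nat.Prime 5) := ⟨by norm_num⟩
    rw [orderOf_eq_prime h5 h1] at hk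
    exact five_ne_three_pow k hk
  · have haH : a ∈ Subgroup.closure ({a, b} : Set (Perm α)) := Subgroup.subset_closure (by simp)
    apply cert_not_solvable (G := ↥(Subgroup.closure ({a, b} : Set (Perm α))))
      ⟨a, haH⟩ ⟨y, hy⟩ ⟨z, hz⟩
    · intro h
      exact ha (congrArg Subtype.val h)
    · apply Subtype.ext
      simpa using key

theorem fin6_perm_ext {f g : Perm (Fin 6)} (h0 : f 0 = g 0) (h1 : f 1 = g 1) (h2 : f 2 = g 2)
    (h3 : f 3 = g 3) (h4 : f 4 = g 4) (h5 : f 5 = g 5) : f = g := by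
  ext i; fin_cases i <;> simp_all

theorem fin5_perm_ext {f g : Perm (Fin 5)} (h0 : f 0 = g 0) (h1 : f 1 = g 1) (h2 : f 2 = g 2)
    (h3 : f 3 = g 3) (h4 : f 4 = g 4) : f = g := by
  ext i; fin_cases i <;> simp_all

set_option maxRecDepth 100000 in
/-- S3A -/
theorem S3A : Good 3 (cyc3 (0 : Fin 6) 1 2 * cyc3 (3 : Fin 6) 4 5)
    (cyc3 (0 : Fin 6) 1 3 * cyc3 (2 : Fin 6) 5 4) := by
  apply good3_of_cert _ _ (by unfold cyc3; decide) (by unfold cyc3; decide) (by unfold cyc3; decide)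
    ((cyc3 (0 : Fin 6) 1 3 * cyc3 (2 : Fin 6) 5 4) * (cyc3 (0 : Fin 6) 1 2 * cyc3 (3 : Fin 6) 4 5)⁻¹ *
      (cyc3 (0 : Fin 6) 1 3 * cyc3 (2 : Fin 6) 5 4))
    (cyc3 (0 : Fin 6) 1 3 * cyc3 (2 : Fin 6) 5 4)
  · exact Subgroup.mul_mem _ (Subgroup.mul_mem _ (Subgroup.subset_closure (by simp))
      (Subgroup.inv_mem _ (Subgroup.subset_closure (by simp)))) (Subgroup.subset_closure (by simp))
  · exact Subgroup.subset_closure (by simp)
  · unfold cyc3; decide

set_option maxRecDepth 100000 in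
/-- S3B -/
theorem S3B : Good 3 (cyc3 (0 : Fin 6) 1 2 * cyc3 (3 : Fin 6) 4 5) (cyc3 (0 : Fin 6) 2 3) := by
  apply good3_of_cert _ _ (by unfold cyc3; decide) (by unfold cyc3; decide) (by unfold cyc3; decide)
    ((cyc3 (0 : Fin 6) 2 3)⁻¹)
    (cyc3 (0 : Fin 6) 2 3 * (cyc3 (0 : Fin 6) 1 2 * cyc3 (3 : Fin 6) 4 5) * (cyc3 (0 : Fin 6) 2 3)⁻¹)
  · exact Subgroup.inv_mem _ (Subgroup.subset_closure (by simp))
  · exact Subgroup.mul_mem _ (Subgroup.mul_mem _ (Subgroup.subset_closure (by simp))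
      (Subgroup.subset_closure (by simp))) (Subgroup.inv_mem _ (Subgroup.subset_closure (by simp)))
  · unfold cyc3; decide

set_option maxRecDepth 100000 in
/-- S3D -/
theorem S3D : Good 3 (cyc3 (0 : Fin 5) 1 2) (cyc3 (2 : Fin 5) 3 4) := by
  apply good3_of_cert _ _ (by unfold cyc3; decide) (by unfold cyc3; decide) (by unfold cyc3; decide)
    (cyc3 (2 : Fin 5) 3 4 * (cyc3 (0 : Fin 5) 1 2)⁻¹ * cyc3 (2 : Fin 5) 3 4)
    (cyc3 (2 : Fin 5) 3 4)
  · exact Subgroup.mul_mem _ (Subgroup.mul_mem _ (Subgroup.subset_closure (by simp))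
      (Subgroup.inv_mem _ (Subgroup.subset_closure (by simp)))) (Subgroup.subset_closure (by simp))
  · exact Subgroup.subset_closure (by simp)
  · unfold cyc3; decide

end Cfsg.Agent.Lib.Helper45.FP
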