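import Cfsg.Agent.Lib.Helper45.FPDefs
import Cfsg.Agent.Lib.Helper31.FPODDP
import Cfsg.Agent.Lib.Helper64.FPPL1
import Cfsg.Agent.Lib.Helper8.FPPL2
import Cfsg.Agent.Lib.Helper77.FPPL4
import Cfsg.Agent.Lib.Helper77.FPRESTR
import Cfsg.Agent.Lib.Helper45.FPS3Pairs
import Cfsg.Agent.Lib.Helper94.FPS3N
import Cfsg.Agent.Lib.Helper73.FPSYMM

set_option autoImplicit false

namespace Cfsg.Agent.Lib.Helper45.FP

open Equiv Cfsg.Agent.Lib.Helper45.FP

theorem s3_parity {α : Type*} [Fintype α] [DecidableEq α] (p : ℕ) (u w h π₀ : Perm α)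
    (hgood : Good p u (h * w * h⁻¹)) (hπ₀ : Equiv.Perm.sign π₀ = -1) (hcomm : π₀ * w = w * π₀) :
    P p u w := by
  rcases Int.units_eq_one_or (Equiv.Perm.sign h) with hs | hs
  · exact ⟨h, hs, hgood⟩
  · refine ⟨h * π₀, by rw [map_mul, hs, hπ₀]; simp, ?_⟩
    have : h * π₀ * w * (h * π₀)⁻¹ = h * w * h⁻¹ := by
      rw [mul_assoc h π₀ w, hcomm]; group
    rw [this]; exact hgood

theorem s3_period_moved {α : Type*} [Fintype α] [DecidableEq α] (w : Perm α) (hw3 : w ^ 3 = 1)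
    (x : α) (hx : w x ≠ x) : Function.minimalPeriod w x = 3 := by
  have h1 : Function.IsPeriodicPt w 3 x := by
    unfold Function.IsPeriodicPt Function.IsFixedPt
    rw [Equiv.Perm.iterate_eq_pow, hw3]; rfl
  have h2 := h1.minimalPeriod_dvd
  rcases (Nat.dvd_prime Nat.prime_three).1 h2 with h | h
  · exfalso
    rw [Function.minimalPeriod_eq_one_iff_isFixedPt] at h
    exact hx h
  · exact h

theorem s3_period_fixed {α : Type*} [Fintype α] [DecidableEq α] (w : Perm α)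
    (x : α) (hx : w x = x) : Function.minimalPeriod w x = 1 := by
  rw [Function.minimalPeriod_eq_one_iff_isFixedPt]; exact hx

theorem s3_pow_fixed {α : Type*} (w : Perm α) (x : α) (hx : w x = x) (k : ℕ) : (w ^ k) x = x := by
  induction k with
  | zero => simp
  | succ k ih => rw [pow_succ, Perm.mul_apply, hx, ih]

/-- odd permutation commuting with `w` from two moved orbits -/
theorem s3_odd_moved {α : Type*} [Fintype α] [DecidableEq α] (w : Perm α) (hw3 : w ^ 3 = 1)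
    (x y : α) (hx : w x ≠ x) (hy : w y ≠ y) (hxy : ∀ k : ℕ, (w ^ k) x ≠ y) :
    ∃ π₀ : Perm α, Equiv.Perm.sign π₀ = -1 ∧ π₀ * w = w * π₀ := by
  apply Cfsg.Agent.Lib.Helper31.FP.ODDP w x y
  · rw [s3_period_moved w hw3 x hx, s3_period_moved w hw3 y hy]
  · rw [s3_period_moved w hw3 x hx]; decide
  · exact hxy

/-- odd permutation commuting with `w` from two fixed points -/
theorem s3_odd_fixed {α : Type*} [Fintype α] [DecidableEq α] (w : Perm α)
    (x y : α) (hx : w x = x) (hy : w y = y) (hxy : x ≠ y) :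
    ∃ π₀ : Perm α, Equiv.Perm.sign π₀ = -1 ∧ π₀ * w = w * π₀ := by
  apply Cfsg.Agent.Lib.Helper31.FP.ODDP w x y
  · rw [s3_period_fixed w x hx, s3_period_fixed w y hy]
  · rw [s3_period_fixed w x hx]; decide
  · intro k; rw [s3_pow_fixed w x hx]; exact hxy

/-- the case where `u` has two orbits of length `3` -/
theorem s3_A {α : Type*} [Fintype α] [DecidableEq α] (u w : Perm α) (hw : w ≠ 1)
    (hu3 : u ^ 3 = 1) (hw3 : w ^ 3 = 1) (x y : α) (hx : u x ≠ x) (hy : u y ≠ y)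
    (hxy : ∀ k : ℕ, (u ^ k) x ≠ y) (h6 : 6 ≤ Fintype.card α) : P 3 u w := by
  rcases Cfsg.Agent.Lib.Helper94.FP.S3N w hw3 hw 3 (by omega) with ⟨x', y', hx', hy', hxy', -⟩ | ⟨x', hx', f, hf⟩
  · obtain ⟨ι, h, hA, hB⟩ := Cfsg.Agent.Lib.Helper64.FP.PL1 u w hu3 hw3 x y hx hy hxy x' y' hx' hy' hxy'
    have hgood := Cfsg.Agent.Lib.Helper77.FP.RESTR 3 Nat.prime_three ι _ _ u (h * w * h⁻¹) hA hB Cfsg.Agent.Lib.Helper45.FP.S3A
    obtain ⟨π₀, hπ₀, hcomm⟩ := s3_odd_moved w hw3 x' y' hx' hy' hxy'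
    exact s3_parity 3 u w h π₀ hgood hπ₀ hcomm
  · have h01 : f 0 ≠ f 1 := fun h => by
      have := f.injective h; simp at this
    have h02 : f 0 ≠ f 2 := fun h => by
      have := f.injective h; simp at this
    have h12 : f 1 ≠ f 2 := fun h => by
      have := f.injective h; simp at this
    obtain ⟨ι, h, hA, hB⟩ := Cfsg.Agent.Lib.Helper8.FP.PL2 u w hu3 hw3 x y hx hy hxy x' (f 0) (f 1) (f 2) hx'
      (hf 0) (hf 1) (hf 2) h01 h02 h12
    have hgood := Cfsg.Agent.Lib.Helper77.FP.RESTR 3 Nat.prime_three ι _ _ u (h * w * h⁻¹) hA hB Cfsg.Agent.Lib.Helper45.FP.S3B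
    obtain ⟨π₀, hπ₀, hcomm⟩ := s3_odd_fixed w (f 0) (f 1) (hf 0) (hf 1) h01
    exact s3_parity 3 u w h π₀ hgood hπ₀ hcomm

/-- S3TOP -/
theorem S3TOP {n : ℕ} (hn : 5 ≤ n) (u w : Perm (Fin n)) (hu : u ≠ 1) (hw : w ≠ 1)
    (hu3 : u ^ 3 = 1) (hw3 : w ^ 3 = 1) : P 3 u w := by
  have hcard : 2 + 3 ≤ Fintype.card (Fin n) := by rw [Fintype.card_fin]; omega
  rcases Cfsg.Agent.Lib.Helper94.FP.S3N u hu3 hu 2 hcard with ⟨x, y, hx, hy, hxy, h6⟩ | ⟨x, hx, f, hf⟩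
  · exact s3_A u w hw hu3 hw3 x y hx hy hxy h6
  · rcases Cfsg.Agent.Lib.Helper94.FP.S3N w hw3 hw 2 hcard with ⟨x', y', hx', hy', hxy', h6⟩ | ⟨x', hx', f', hf'⟩
    · exact Cfsg.Agent.Lib.Helper73.FP.SYMM 3 u w (s3_A w u hu hw3 hu3 x' y' hx' hy' hxy' h6)
    · have h01 : f 0 ≠ f 1 := fun h => by
        have := f.injective h; simp at this
      have h01' : f' 0 ≠ f' 1 := fun h => by
        have := f'.injective h; simp at this
      obtain ⟨ι, h, hA, hB⟩ := Cfsg.Agent.Lib.Helper77.FP.PL4 u w hu3 hw3 x (f 0) (f 1) hx (hf 0) (hf 1) h01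
        x' (f' 0) (f' 1) hx' (hf' 0) (hf' 1) h01'
      have hgood := Cfsg.Agent.Lib.Helper77.FP.RESTR 3 Nat.prime_three ι _ _ u (h * w * h⁻¹) hA hB Cfsg.Agent.Lib.Helper45.FP.S3D
      obtain ⟨π₀, hπ₀, hcomm⟩ := s3_odd_fixed w (f' 0) (f' 1) (hf' 0) (hf' 1) h01'
      exact s3_parity 3 u w h π₀ hgood hπ₀ hcomm

end Cfsg.Agent.Lib.Helper45.FP
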