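import Cfsg.Agent.Lib.Helper45.FPDefs

set_option autoImplicit false

namespace Cfsg.Agent.Lib.Helper45.FP.Skel

open Equiv Cfsg.Agent.Lib.Helper45.FP

/-! ## General lemmas -/

/-- SPO: two permutations whose supports meet in exactly one point `x`. -/
theorem SPO {α : Type*} [DecidableEq α] [Fintype α] (σ τ : Perm α) (x : α)
    (hσ : σ x ≠ x) (hτ : τ x ≠ x) (h : ∀ y, σ y ≠ y → τ y ≠ y → y = x) :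
    (σ * τ * σ⁻¹ * τ⁻¹).IsThreeCycle ∧ (σ * τ * σ⁻¹ * τ⁻¹) x = σ x := by sorry

/-- PRIM: a subgroup of `Perm (ZMod ℓ)` containing the translation and a 3-cycle with a unit
displacement contains the alternating group. -/
theorem PRIM (ℓ : ℕ) [NeZero ℓ] (G : Subgroup (Perm (ZMod ℓ))) (hc : rot ℓ ∈ G)
    (θ : Perm (ZMod ℓ)) (hθ : θ ∈ G) (h3 : θ.IsThreeCycle) (x₀ : ZMod ℓ)
    (hunit : IsUnit (θ x₀ - x₀)) : alternatingGroup (ZMod ℓ) ≤ G := by sorry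

/-- ALTNS -/
theorem ALTNS {α : Type*} [Fintype α] [DecidableEq α] (h5 : 5 ≤ Fintype.card α)
    (G : Subgroup (Perm α)) (h : alternatingGroup α ≤ G) : ¬ Group.IsSolvable ↥G := by sorry

/-- FIX -/
theorem FIX {α : Type*} [Fintype α] [DecidableEq α] (p : ℕ) [Fact p.Prime] (hp3 : 3 ≤ p)
    (hdvd : p ∣ Fintype.card α) (f : Perm α) (a b : α) (ha : f a = a)
    (hsub : ∀ x, f x = x → x = a ∨ x = b) : ¬ ∃ k : ℕ, orderOf f = p ^ k := by sorry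

/-- RESTR -/
theorem RESTR {α β : Type*} [Fintype α] [DecidableEq α] [Fintype β] [DecidableEq β] (p : ℕ)
    (hp : p.Prime) (ι : β ↪ α) (a b : Perm β) (A B : Perm α) (hA : ∀ z, A (ι z) = ι (a z))
    (hB : ∀ z, B (ι z) = ι (b z)) (h : Good p a b) : Good p A B := by sorry

/-- SYMM -/
theorem SYMM {α : Type*} [Fintype α] [DecidableEq α] (p : ℕ) (u w : Perm α) (h : P p w u) :
    P p u w := by sorry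

/-- CYCEMB -/
theorem CYCEMB {α : Type*} [Fintype α] [DecidableEq α] (u : Perm α) (x₀ : α) (ℓ : ℕ) [NeZero ℓ]
    (h : Function.minimalPeriod u x₀ = ℓ) :
    ∃ ι : ZMod ℓ ↪ α, ι 0 = x₀ ∧ ∀ z, u (ι z) = ι (z + 1) := by sorry

/-- ODDP -/
theorem ODDP {α : Type*} [Fintype α] [DecidableEq α] (w : Perm α) (x y : α)
    (hper : Function.minimalPeriod w x = Function.minimalPeriod w y)
    (hodd : Odd (Function.minimalPeriod w x)) (hxy : ∀ k : ℕ, (w ^ k) x ≠ y) :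
    ∃ π₀ : Perm α, Equiv.Perm.sign π₀ = -1 ∧ π₀ * w = w * π₀ := by sorry

/-- ODDC -/
theorem ODDC {α : Type*} [Fintype α] [DecidableEq α] (p : ℕ) [Fact p.Prime] (w : Perm α) (a : ℕ)
    (S : Finset α) (hS : ∀ x ∈ S, w x ∈ S) (hcard : S.card = p ^ a)
    (hper : ∀ x ∈ S, ∃ i < a, Function.minimalPeriod w x = p ^ i) :
    ∃ x ∈ S, ∃ y ∈ S, Function.minimalPeriod w x = Function.minimalPeriod w y ∧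
      ∀ k : ℕ, (w ^ k) x ≠ y := by sorry

/-! ## Model lemmas on `ZMod ℓ` -/

/-- MNP: fixed points of `rot * (t * M * t)` -/
theorem MNP (J m ℓ : ℕ) (hℓ : ℓ = J * m) (hodd : Odd ℓ) (h5 : 5 ≤ ℓ) [NeZero ℓ] (hm3 : 3 ≤ m)
    (M : Perm (ZMod ℓ))
    (hM0 : ∀ x : ZMod ℓ, (ZMod.cast (M x) : ZMod J) = ZMod.cast x)
    (hM1 : ∀ x : ZMod ℓ, (ZMod.cast x : ZMod J) = 0 → M x = x + (J : ZMod ℓ)) :
    (rot ℓ * (swap (0 : ZMod ℓ) ((J : ZMod ℓ) + 1) * M * swap (0 : ZMod ℓ) ((J : ZMod ℓ) + 1)))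
        ((J : ZMod ℓ) + 1) = (J : ZMod ℓ) + 1 ∧
    ∀ x : ZMod ℓ,
      (rot ℓ * (swap (0 : ZMod ℓ) ((J : ZMod ℓ) + 1) * M * swap (0 : ZMod ℓ) ((J : ZMod ℓ) + 1))) x
        = x → x = (J : ZMod ℓ) + 1 ∨ x = 1 := by sorry

/-- M3C: regime C -/
theorem M3C (p J μ ℓ : ℕ) [Fact p.Prime] (hp3 : 3 ≤ p) (hℓ : ℓ = J * (p * μ)) [NeZero ℓ]
    (hpJ : p ∣ J) (hℓpow : ∃ a : ℕ, ℓ = p ^ a)
    (hspo : ∀ (σ τ : Perm (ZMod ℓ)) (x : ZMod ℓ), σ x ≠ x → τ x ≠ x →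
      (∀ y, σ y ≠ y → τ y ≠ y → y = x) → (σ * τ * σ⁻¹ * τ⁻¹).IsThreeCycle ∧ (σ * τ * σ⁻¹ * τ⁻¹) x = σ x)
    (M : Perm (ZMod ℓ))
    (hM1 : ∀ x : ZMod ℓ, (ZMod.cast x : ZMod J) = 0 → M x = x + (J : ZMod ℓ))
    (hMC : ∀ x : ZMod ℓ, (ZMod.cast x : ZMod J) ≠ 0 → (M ^ μ) x = x) :
    ∃ θ ∈ Subgroup.closure ({rot ℓ, swap (0 : ZMod ℓ) ((J : ZMod ℓ) + 1) * M *
        swap (0 : ZMod ℓ) ((J : ZMod ℓ) + 1)} : Set (Perm (ZMod ℓ))),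
      θ.IsThreeCycle ∧ ∃ x : ZMod ℓ, IsUnit (θ x - x) := by sorry

/-- M3B1: regime B, formula for the commutator -/
theorem M3B1 (p J μ ℓ : ℕ) [Fact p.Prime] (hp3 : 3 ≤ p) (hℓ : ℓ = J * (p * μ)) [NeZero ℓ]
    (hpJ : p ∣ J)
    (M : Perm (ZMod ℓ))
    (hM1 : ∀ x : ZMod ℓ, (ZMod.cast x : ZMod J) = 0 → M x = x + (J : ZMod ℓ))
    (hM1' : ∀ x : ZMod ℓ, (ZMod.cast x : ZMod J) = 1 → M x = x + (J : ZMod ℓ))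
    (hMJ : ∀ x : ZMod ℓ, (M ^ μ) (x + (J : ZMod ℓ)) = (M ^ μ) x + (J : ZMod ℓ)) :
    (swap (0 : ZMod ℓ) ((J : ZMod ℓ) + 1) * M * swap (0 : ZMod ℓ) ((J : ZMod ℓ) + 1)) ^ μ *
        rot ℓ ^ J *
        ((swap (0 : ZMod ℓ) ((J : ZMod ℓ) + 1) * M * swap (0 : ZMod ℓ) ((J : ZMod ℓ) + 1)) ^ μ)⁻¹ *
        (rot ℓ ^ J)⁻¹ =
      swap (0 : ZMod ℓ) ((J : ZMod ℓ) + 1) *
        swap ((J * μ : ℕ) : ZMod ℓ) (((J * μ : ℕ) : ZMod ℓ) + (J : ZMod ℓ) + 1) *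
        swap (((J * μ : ℕ) : ZMod ℓ) + (J : ZMod ℓ))
          (((J * μ : ℕ) : ZMod ℓ) + 2 * (J : ZMod ℓ) + 1) *
        swap (J : ZMod ℓ) (2 * (J : ZMod ℓ) + 1) := by sorry

/-- M3B2: regime B, the 3-cycle -/
theorem M3B2 (p J μ ℓ : ℕ) [Fact p.Prime] (hp3 : 3 ≤ p) (hℓ : ℓ = J * (p * μ)) [NeZero ℓ]
    (hpJ : p ∣ J) (hμpow : ∃ b : ℕ, μ = p ^ b)
    (hspo : ∀ (σ τ : Perm (ZMod ℓ)) (x : ZMod ℓ), σ x ≠ x → τ x ≠ x →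
      (∀ y, σ y ≠ y → τ y ≠ y → y = x) → (σ * τ * σ⁻¹ * τ⁻¹).IsThreeCycle ∧ (σ * τ * σ⁻¹ * τ⁻¹) x = σ x)
    (ε : Perm (ZMod ℓ))
    (hε : ε = swap (0 : ZMod ℓ) ((J : ZMod ℓ) + 1) *
        swap ((J * μ : ℕ) : ZMod ℓ) (((J * μ : ℕ) : ZMod ℓ) + (J : ZMod ℓ) + 1) *
        swap (((J * μ : ℕ) : ZMod ℓ) + (J : ZMod ℓ))
          (((J * μ : ℕ) : ZMod ℓ) + 2 * (J : ZMod ℓ) + 1) *
        swap (J : ZMod ℓ) (2 * (J : ZMod ℓ) + 1)) :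
    (ε * (rot ℓ ^ (J * μ - 1) * ε * (rot ℓ ^ (J * μ - 1))⁻¹) * ε⁻¹ *
        (rot ℓ ^ (J * μ - 1) * ε * (rot ℓ ^ (J * μ - 1))⁻¹)⁻¹).IsThreeCycle ∧
      (ε * (rot ℓ ^ (J * μ - 1) * ε * (rot ℓ ^ (J * μ - 1))⁻¹) * ε⁻¹ *
        (rot ℓ ^ (J * μ - 1) * ε * (rot ℓ ^ (J * μ - 1))⁻¹)⁻¹)
          (((J * μ : ℕ) : ZMod ℓ) + (J : ZMod ℓ)) =
        ((J * μ : ℕ) : ZMod ℓ) + 2 * (J : ZMod ℓ) + 1 := by sorry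

/-- T1O -/
theorem T1O (ℓ : ℕ) [NeZero ℓ] (hodd : Odd ℓ) (h5 : 5 ≤ ℓ) :
    (rot ℓ * (swap (1 : ZMod ℓ) 2 * rot ℓ * swap (1 : ZMod ℓ) 2)) 2 = 2 ∧
    (∀ x : ZMod ℓ, (rot ℓ * (swap (1 : ZMod ℓ) 2 * rot ℓ * swap (1 : ZMod ℓ) 2)) x = x → x = 2) ∧
    ((rot ℓ)⁻¹ * (swap (1 : ZMod ℓ) 2 * rot ℓ * swap (1 : ZMod ℓ) 2)).IsThreeCycle ∧
    ((rot ℓ)⁻¹ * (swap (1 : ZMod ℓ) 2 * rot ℓ * swap (1 : ZMod ℓ) 2)) 0 = 1 := by sorry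

/-- T1E -/
theorem T1E (ℓ : ℕ) [NeZero ℓ] (hodd : Odd ℓ) (h5 : 5 ≤ ℓ) :
    (rot ℓ * (swap (0 : ZMod ℓ) 2 * swap (2 : ZMod ℓ) 4 * rot ℓ *
        (swap (0 : ZMod ℓ) 2 * swap (2 : ZMod ℓ) 4)⁻¹)) 2 = 2 ∧
    (∀ x : ZMod ℓ, (rot ℓ * (swap (0 : ZMod ℓ) 2 * swap (2 : ZMod ℓ) 4 * rot ℓ *
        (swap (0 : ZMod ℓ) 2 * swap (2 : ZMod ℓ) 4)⁻¹)) x = x → x = 2 ∨ x = 4) ∧
    (((rot ℓ)⁻¹) ^ 2 * (swap (0 : ZMod ℓ) 2 * swap (2 : ZMod ℓ) 4 * rot ℓ *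
        (swap (0 : ZMod ℓ) 2 * swap (2 : ZMod ℓ) 4)⁻¹) ^ 2).IsThreeCycle ∧
    (((rot ℓ)⁻¹) ^ 2 * (swap (0 : ZMod ℓ) 2 * swap (2 : ZMod ℓ) 4 * rot ℓ *
        (swap (0 : ZMod ℓ) 2 * swap (2 : ZMod ℓ) 4)⁻¹) ^ 2) 0 = 4 := by sorry

/-! ## Arrangement lemmas -/

/-- PART0 (includes the greedy tiling lemma) -/
theorem PART0 {α : Type*} [Fintype α] [DecidableEq α] (p : ℕ) [Fact p.Prime] (w : Perm α)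
    (hw : ∀ x, ∃ i : ℕ, Function.minimalPeriod w x = p ^ i) (m k : ℕ)
    (X : Finset α) (hX : ∀ x ∈ X, w x ∈ X) (hcard : k * m ≤ X.card)
    (hdiv : ∀ x ∈ X, Function.minimalPeriod w x ∣ m) :
    ∃ F : Fin k → Finset α, (∀ i, F i ⊆ X) ∧ (∀ i, ∀ x ∈ F i, w x ∈ F i) ∧
      (∀ i, (F i).card = m) ∧ (∀ i j, i ≠ j → Disjoint (F i) (F j)) := by sorry

/-- BETA -/
theorem BETA (J m ℓ : ℕ) (hℓ : ℓ = J * m) [NeZero ℓ] :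
    ∃ β : ZMod J × ZMod m ≃ ZMod ℓ,
      (∀ k y, (ZMod.cast (β (k, y)) : ZMod J) = k) ∧
      (∀ k y, β (k, y + 1) = β (k, y) + (J : ZMod ℓ)) := by sorry

/-- FIB -/
theorem FIB {α : Type*} [Fintype α] [DecidableEq α] (p : ℕ) [Fact p.Prime] (w : Perm α)
    (μ : ℕ) (hμpow : ∃ b : ℕ, μ = p ^ b)
    (hw : ∀ x, ∃ i : ℕ, Function.minimalPeriod w x = p ^ i)
    (hcyc : ∀ x₀ : α, Function.minimalPeriod w x₀ = p * μ →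
      ∃ ι : ZMod (p * μ) ↪ α, ι 0 = x₀ ∧ ∀ z, w (ι z) = ι (z + 1))
    (F : Finset α) (hF : ∀ x ∈ F, w x ∈ F) (hcard : F.card = p * μ)
    (hdiv : ∀ x ∈ F, Function.minimalPeriod w x ∣ p * μ) :
    ∃ γ : ZMod (p * μ) ↪ α, (∀ y, γ y ∈ F) ∧
      ((∀ y, w (γ y) = γ (y + 1)) ∨ (∀ x ∈ F, (w ^ μ) x = x)) := by sorry

/-- ARRG: the fibres -/
theorem ARRG {α : Type*} [Fintype α] [DecidableEq α] (p : ℕ) [Fact p.Prime] (w : Perm α)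
    (hw : ∀ x, ∃ i : ℕ, Function.minimalPeriod w x = p ^ i)
    (J μ : ℕ) [NeZero J] (hcard : J * (p * μ) ≤ Fintype.card α) (hμpow : ∃ b : ℕ, μ = p ^ b)
    (x₁ : α) (hx₁ : Function.minimalPeriod w x₁ = p * μ)
    (hmax : ∀ x, Function.minimalPeriod w x ∣ p * μ)
    (hpart : ∀ (k : ℕ) (X : Finset α), (∀ x ∈ X, w x ∈ X) → k * (p * μ) ≤ X.card →
      ∃ F : Fin k → Finset α, (∀ i, F i ⊆ X) ∧ (∀ i, ∀ x ∈ F i, w x ∈ F i) ∧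
        (∀ i, (F i).card = p * μ) ∧ (∀ i j, i ≠ j → Disjoint (F i) (F j))) :
    ∃ G : ZMod J → Finset α, (∀ k, ∀ x ∈ G k, w x ∈ G k) ∧ (∀ k, (G k).card = p * μ) ∧
      (∀ k k', k ≠ k' → Disjoint (G k) (G k')) ∧ x₁ ∈ G 0 ∧
      ((∃ x₂ ∈ G 1, Function.minimalPeriod w x₂ = p * μ ∧ (1 : ZMod J) ≠ 0) ∨
        (∀ k, k ≠ 0 → ∀ x ∈ G k, (w ^ μ) x = x)) := by sorry

/-- ARRE: coordinates -/
theorem ARRE {α : Type*} [Fintype α] [DecidableEq α] (p : ℕ) (w : Perm α) (J μ ℓ : ℕ)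
    (hℓ : ℓ = J * (p * μ)) [NeZero ℓ]
    (G : ZMod J → Finset α) (hG : ∀ k, ∀ x ∈ G k, w x ∈ G k) (hGc : ∀ k, (G k).card = p * μ)
    (hGd : ∀ k k', k ≠ k' → Disjoint (G k) (G k'))
    (hfib : ∀ F : Finset α, (∀ x ∈ F, w x ∈ F) → F.card = p * μ →
      ∃ γ : ZMod (p * μ) ↪ α, (∀ y, γ y ∈ F) ∧
        ((∀ y, w (γ y) = γ (y + 1)) ∨ (∀ x ∈ F, (w ^ μ) x = x)))
    (hbeta : ∃ β : ZMod J × ZMod (p * μ) ≃ ZMod ℓ,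
      (∀ k y, (ZMod.cast (β (k, y)) : ZMod J) = k) ∧
      (∀ k y, β (k, y + 1) = β (k, y) + (J : ZMod ℓ))) :
    ∃ (e : ZMod ℓ ↪ α) (M : Perm (ZMod ℓ)),
      (∀ z, w (e z) = e (M z)) ∧
      (∀ z : ZMod ℓ, (ZMod.cast (M z) : ZMod J) = ZMod.cast z) ∧
      (∀ z : ZMod ℓ, e z ∈ G (ZMod.cast z)) ∧
      (∀ k : ZMod J, (∀ z : ZMod ℓ, (ZMod.cast z : ZMod J) = k → M z = z + (J : ZMod ℓ)) ∨
        (∀ z : ZMod ℓ, (ZMod.cast z : ZMod J) = k → (M ^ μ) z = z)) := by sorry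

/-- ARR: the arrangement (assembly of PART0, FIB, BETA, CYCEMB, ARRG, ARRE) -/
theorem ARR {α : Type*} [Fintype α] [DecidableEq α] (p : ℕ) [Fact p.Prime] (w : Perm α)
    (hw : ∀ x, ∃ i : ℕ, Function.minimalPeriod w x = p ^ i)
    (J μ ℓ : ℕ) (hℓ : ℓ = J * (p * μ)) [NeZero ℓ] (hcard : ℓ ≤ Fintype.card α)
    (hμpow : ∃ b : ℕ, μ = p ^ b)
    (x₁ : α) (hx₁ : Function.minimalPeriod w x₁ = p * μ)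
    (hmax : ∀ x, Function.minimalPeriod w x ∣ p * μ) :
    ∃ (e : ZMod ℓ ↪ α) (M : Perm (ZMod ℓ)),
      (∀ z, w (e z) = e (M z)) ∧
      (∀ z : ZMod ℓ, (ZMod.cast (M z) : ZMod J) = ZMod.cast z) ∧
      (∀ z : ZMod ℓ, (ZMod.cast z : ZMod J) = 0 → M z = z + (J : ZMod ℓ)) ∧
      (((∀ z : ZMod ℓ, (ZMod.cast z : ZMod J) = 1 → M z = z + (J : ZMod ℓ)) ∧
          (∀ z : ZMod ℓ, (M ^ μ) (z + (J : ZMod ℓ)) = (M ^ μ) z + (J : ZMod ℓ))) ∨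
        (∀ z : ZMod ℓ, (ZMod.cast z : ZMod J) ≠ 0 → (M ^ μ) z = z)) := by sorry

/-! ## Good models (assemblies) -/

/-- GOODT: the two `T1` models are good -/
theorem GOODT (p ℓ : ℕ) [Fact p.Prime] (hp3 : 3 ≤ p) [NeZero ℓ] (h5 : 5 ≤ ℓ)
    (hℓpow : ∃ a : ℕ, ℓ = p ^ a) :
    Good p (rot ℓ) (swap (1 : ZMod ℓ) 2 * rot ℓ * (swap (1 : ZMod ℓ) 2)⁻¹) ∧
    Good p (rot ℓ) (swap (0 : ZMod ℓ) 2 * swap (2 : ZMod ℓ) 4 * rot ℓ *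
      (swap (0 : ZMod ℓ) 2 * swap (2 : ZMod ℓ) 4)⁻¹) := by sorry

/-- GOODM: the perturbed model is good in regimes B and C -/
theorem GOODM (p J μ ℓ : ℕ) [Fact p.Prime] (hp3 : 3 ≤ p) (hℓ : ℓ = J * (p * μ)) [NeZero ℓ]
    (hpJ : p ∣ J) (hℓpow : ∃ a : ℕ, ℓ = p ^ a) (hμpow : ∃ b : ℕ, μ = p ^ b)
    (M : Perm (ZMod ℓ))
    (hM0 : ∀ z : ZMod ℓ, (ZMod.cast (M z) : ZMod J) = ZMod.cast z)
    (hM1 : ∀ z : ZMod ℓ, (ZMod.cast z : ZMod J) = 0 → M z = z + (J : ZMod ℓ))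
    (hreg : ((∀ z : ZMod ℓ, (ZMod.cast z : ZMod J) = 1 → M z = z + (J : ZMod ℓ)) ∧
          (∀ z : ZMod ℓ, (M ^ μ) (z + (J : ZMod ℓ)) = (M ^ μ) z + (J : ZMod ℓ))) ∨
        (∀ z : ZMod ℓ, (ZMod.cast z : ZMod J) ≠ 0 → (M ^ μ) z = z)) :
    Good p (rot ℓ) (swap (0 : ZMod ℓ) ((J : ZMod ℓ) + 1) * M *
      (swap (0 : ZMod ℓ) ((J : ZMod ℓ) + 1))⁻¹) := by sorry

/-- TOPMAIN: the case where `u` has a cycle of length at least `5` -/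
theorem TOPMAIN {n : ℕ} (p : ℕ) [Fact p.Prime] (hp3 : 3 ≤ p) (u w : Perm (Fin n))
    (hu : ∃ k : ℕ, orderOf u = p ^ k) (hw : ∃ k : ℕ, orderOf w = p ^ k)
    (x₀ : Fin n) (h5 : 5 ≤ Function.minimalPeriod u x₀)
    (x₁ : Fin n) (hm : 1 < Function.minimalPeriod w x₁)
    (hmax : ∀ x, Function.minimalPeriod w x ≤ Function.minimalPeriod w x₁)
    (hmℓ : Function.minimalPeriod w x₁ ≤ Function.minimalPeriod u x₀) : P p u w := by sorry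

/-! ## The case of elements of order `3` -/

/-- S3A -/
theorem S3A : Good 3 (cyc3 (0 : Fin 6) 1 2 * cyc3 (3 : Fin 6) 4 5)
    (cyc3 (0 : Fin 6) 1 3 * cyc3 (2 : Fin 6) 5 4) := by sorry

/-- S3B -/
theorem S3B : Good 3 (cyc3 (0 : Fin 6) 1 2 * cyc3 (3 : Fin 6) 4 5) (cyc3 (0 : Fin 6) 2 3) := by
  sorry

/-- S3D -/
theorem S3D : Good 3 (cyc3 (0 : Fin 5) 1 2) (cyc3 (2 : Fin 5) 3 4) := by sorry

/-- PL1 -/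
theorem PL1 {α : Type*} [Fintype α] [DecidableEq α] (u w : Perm α) (hu3 : u ^ 3 = 1)
    (hw3 : w ^ 3 = 1)
    (x y : α) (hx : u x ≠ x) (hy : u y ≠ y) (hxy : ∀ k : ℕ, (u ^ k) x ≠ y)
    (x' y' : α) (hx' : w x' ≠ x') (hy' : w y' ≠ y') (hxy' : ∀ k : ℕ, (w ^ k) x' ≠ y') :
    ∃ (ι : Fin 6 ↪ α) (h : Perm α),
      (∀ z, u (ι z) = ι ((cyc3 (0 : Fin 6) 1 2 * cyc3 (3 : Fin 6) 4 5) z)) ∧
      (∀ z, (h * w * h⁻¹) (ι z) = ι ((cyc3 (0 : Fin 6) 1 3 * cyc3 (2 : Fin 6) 5 4) z)) := by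
  sorry

/-- PL2 -/
theorem PL2 {α : Type*} [Fintype α] [DecidableEq α] (u w : Perm α) (hu3 : u ^ 3 = 1)
    (hw3 : w ^ 3 = 1)
    (x y : α) (hx : u x ≠ x) (hy : u y ≠ y) (hxy : ∀ k : ℕ, (u ^ k) x ≠ y)
    (x' y₁ y₂ y₃ : α) (hx' : w x' ≠ x') (h1 : w y₁ = y₁) (h2 : w y₂ = y₂) (h3 : w y₃ = y₃)
    (h12 : y₁ ≠ y₂) (h13 : y₁ ≠ y₃) (h23 : y₂ ≠ y₃) :
    ∃ (ι : Fin 6 ↪ α) (h : Perm α),
      (∀ z, u (ι z) = ι ((cyc3 (0 : Fin 6) 1 2 * cyc3 (3 : Fin 6) 4 5) z)) ∧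
      (∀ z, (h * w * h⁻¹) (ι z) = ι ((cyc3 (0 : Fin 6) 2 3) z)) := by sorry

/-- PL4 -/
theorem PL4 {α : Type*} [Fintype α] [DecidableEq α] (u w : Perm α) (hu3 : u ^ 3 = 1)
    (hw3 : w ^ 3 = 1)
    (x z₁ z₂ : α) (hx : u x ≠ x) (hz1 : u z₁ = z₁) (hz2 : u z₂ = z₂) (hz : z₁ ≠ z₂)
    (x' y₁ y₂ : α) (hx' : w x' ≠ x') (h1 : w y₁ = y₁) (h2 : w y₂ = y₂) (h12 : y₁ ≠ y₂) :
    ∃ (ι : Fin 5 ↪ α) (h : Perm α),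
      (∀ z, u (ι z) = ι ((cyc3 (0 : Fin 5) 1 2) z)) ∧
      (∀ z, (h * w * h⁻¹) (ι z) = ι ((cyc3 (2 : Fin 5) 3 4) z)) := by sorry

/-- S3N -/
theorem S3N {α : Type*} [Fintype α] [DecidableEq α] (u : Perm α) (hu3 : u ^ 3 = 1) (hu : u ≠ 1)
    (k : ℕ) (hk : k + 3 ≤ Fintype.card α) :
    (∃ x y, u x ≠ x ∧ u y ≠ y ∧ (∀ j : ℕ, (u ^ j) x ≠ y) ∧ 6 ≤ Fintype.card α) ∨
      (∃ x, u x ≠ x ∧ ∃ f : Fin k ↪ α, ∀ i, u (f i) = f i) := by sorry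

/-- S3TOP -/
theorem S3TOP {n : ℕ} (hn : 5 ≤ n) (u w : Perm (Fin n)) (hu : u ≠ 1) (hw : w ≠ 1)
    (hu3 : u ^ 3 = 1) (hw3 : w ^ 3 = 1) : P 3 u w := by sorry

end Cfsg.Agent.Lib.Helper45.FP.Skel
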