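import Cfsg.Agent.Lib.Helper45.FPDefs
import Cfsg.Agent.Lib.Helper45.FPARR
import Cfsg.Agent.Lib.Helper31.FPCYCEMB
import Cfsg.Agent.Lib.Helper45.FPGOOD
import Cfsg.Agent.Lib.Helper77.FPODDC
import Cfsg.Agent.Lib.Helper31.FPODDP
import Cfsg.Agent.Lib.Helper77.FPRESTR

set_option autoImplicit false

namespace Cfsg.Agent.Lib.Helper45.FP

open Equiv Cfsg.Agent.Lib.Helper45.FP

theorem tm_per_pow {α : Type*} [Fintype α] [DecidableEq α] {p : ℕ} (hp : p.Prime) (u : Perm α)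
    (hu : ∃ k : ℕ, orderOf u = p ^ k) (x : α) : ∃ i : ℕ, Function.minimalPeriod u x = p ^ i := by
  obtain ⟨k, hk⟩ := hu
  have h1 : Function.IsPeriodicPt u (orderOf u) x := by
    unfold Function.IsPeriodicPt Function.IsFixedPt
    rw [Equiv.Perm.iterate_eq_pow, pow_orderOf_eq_one]; rfl
  have h2 := h1.minimalPeriod_dvd
  rw [hk] at h2
  obtain ⟨i, -, hi⟩ := (Nat.dvd_prime_pow hp).1 h2
  exact ⟨i, hi⟩

theorem tm_exists_perm_extend {α β : Type*} [Fintype α] [DecidableEq α] (e ι : β ↪ α) :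
    ∃ h : Perm α, ∀ z, h (e z) = ι z := by
  classical
  let e' : {x // x ∈ Set.range e} ≃ {x // x ∈ Set.range ι} :=
    (Equiv.ofInjective e e.injective).symm.trans (Equiv.ofInjective ι ι.injective)
  refine ⟨e'.extendSubtype, fun z => ?_⟩
  rw [Equiv.extendSubtype_apply_of_mem e' (e z) ⟨z, rfl⟩]
  have : (Equiv.ofInjective e e.injective).symm ⟨e z, ⟨z, rfl⟩⟩ = z := by
    apply e.injective
    exact (Equiv.apply_ofInjective_symm e.injective ⟨e z, ⟨z, rfl⟩⟩)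
  simp [e', this]

theorem tm_transport {α β : Type*} [Fintype α] [DecidableEq α] [Fintype β] [DecidableEq β]
    (p : ℕ) (hp : p.Prime) (u w : Perm α) (ι e : β ↪ α) (c M : Perm β)
    (hu : ∀ z, u (ι z) = ι (c z))
    (hw : ∀ z, w (e z) = e (M z)) (h₀ : Perm α) (hh₀ : ∀ z, h₀ (e z) = ι z) (σ : Perm β)
    (hgood : Good p c (σ * M * σ⁻¹)) :
    Good p u ((σ.viaFintypeEmbedding ι * h₀) * w * (σ.viaFintypeEmbedding ι * h₀)⁻¹) := by
  refine Cfsg.Agent.Lib.Helper77.FP.RESTR p hp ι c (σ * M * σ⁻¹) u _ hu ?_ hgood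
  intro z
  have h1 : ∀ y, (σ.viaFintypeEmbedding ι * h₀) (e y) = ι (σ y) := by
    intro y
    rw [Perm.mul_apply, hh₀, Equiv.Perm.viaFintypeEmbedding_apply_image]
  have h2 : (σ.viaFintypeEmbedding ι * h₀)⁻¹ (ι z) = e (σ⁻¹ z) := by
    rw [Perm.inv_eq_iff_eq, h1]
    simp
  rw [Perm.mul_apply, Perm.mul_apply, h2, hw, h1]
  simp

/-- TOPMAIN: the case where `u` has a cycle of length at least `5` -/
theorem TOPMAIN {n : ℕ} (p : ℕ) [Fact p.Prime] (hp3 : 3 ≤ p) (u w : Perm (Fin n))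
    (hu : ∃ k : ℕ, orderOf u = p ^ k) (hw : ∃ k : ℕ, orderOf w = p ^ k)
    (x₀ : Fin n) (h5 : 5 ≤ Function.minimalPeriod u x₀)
    (x₁ : Fin n) (hm : 1 < Function.minimalPeriod w x₁)
    (hmax : ∀ x, Function.minimalPeriod w x ≤ Function.minimalPeriod w x₁)
    (hmℓ : Function.minimalPeriod w x₁ ≤ Function.minimalPeriod u x₀) : P p u w := by
  have hp : p.Prime := Fact.out
  have hp1 : 1 < p := hp.one_lt
  obtain ⟨a, ha⟩ := tm_per_pow hp u hu x₀
  obtain ⟨b, hb⟩ := tm_per_pow hp w hw x₁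
  have hb0 : b ≠ 0 := by
    rintro rfl
    rw [hb] at hm; simp at hm
  have hba : b ≤ a := by
    rw [ha, hb] at hmℓ
    exact (Nat.pow_le_pow_iff_right hp1).1 hmℓ
  have hwper : ∀ x, ∃ i : ℕ, Function.minimalPeriod w x = p ^ i := tm_per_pow hp w hw
  have hℓ : p ^ a = p ^ (a - b) * (p * p ^ (b - 1)) := by
    rw [← pow_succ', ← pow_add]
    congr 1; omega
  have hℓ0 : NeZero (p ^ a) := ⟨(pow_pos hp.pos a).ne'⟩
  obtain ⟨ι, -, hι⟩ := Cfsg.Agent.Lib.Helper31.FP.CYCEMB u x₀ (p ^ a) ha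
  have hcard : p ^ a ≤ Fintype.card (Fin n) := by
    have := Fintype.card_le_of_embedding ι
    rwa [ZMod.card] at this
  have hx₁ : Function.minimalPeriod w x₁ = p * p ^ (b - 1) := by
    rw [hb, ← pow_succ']; congr 1; omega
  have hmaxdvd : ∀ x, Function.minimalPeriod w x ∣ p * p ^ (b - 1) := by
    intro x
    obtain ⟨i, hi⟩ := hwper x
    have h1 := hmax x
    rw [hi, hb] at h1
    have h2 : i ≤ b := (Nat.pow_le_pow_iff_right hp1).1 h1
    rw [hi, ← pow_succ']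
    exact pow_dvd_pow p (by omega)
  obtain ⟨e, M, hwe, hM0, hM1, hreg⟩ := Cfsg.Agent.Lib.Helper45.FP.ARR p w hwper (p ^ (a - b)) (p ^ (b - 1)) (p ^ a) hℓ
    hcard ⟨b - 1, rfl⟩ x₁ hx₁ hmaxdvd
  obtain ⟨h₀, hh₀⟩ := tm_exists_perm_extend e ι
  have hιrot : ∀ z, u (ι z) = ι (rot (p ^ a) z) := fun z => by rw [hι, rot_apply]
  have h5' : 5 ≤ p ^ a := by rw [← ha]; exact h5
  -- it suffices to find `h` with `Good p u (h * w * h⁻¹)` of sign `1`
  rcases Nat.eq_or_lt_of_le hba with hab | hab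
  · -- `T1`: `J = 1`, `M = rot`
    have hJ : p ^ (a - b) = 1 := by rw [hab]; simp
    have hM : M = rot (p ^ a) := by
      ext z
      have h0 : (ZMod.cast z : ZMod (p ^ (a - b))) = 0 := by
        rw [hJ]; exact Subsingleton.elim _ _
      rw [hM1 z h0, rot_apply, hJ]; simp
    subst hM
    obtain ⟨hg1, hg2⟩ := Cfsg.Agent.Lib.Helper45.FP.GOODT p (p ^ a) hp3 h5' ⟨a, rfl⟩
    have h2 : (2 : ZMod (p ^ a)) ≠ 0 := by
      have := (ZMod.natCast_eq_zero_iff 2 (p ^ a)).not.2 (by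
        intro hdvd; have := Nat.le_of_dvd (by norm_num) hdvd; omega)
      exact_mod_cast this
    have h12 : (1 : ZMod (p ^ a)) ≠ 2 := by
      intro h
      have h' : (1 : ZMod (p ^ a)) = 0 := by
        have : (2 : ZMod (p ^ a)) - 1 = 1 := by ring
        rw [← this, ← h]; ring
      have := (ZMod.natCast_eq_zero_iff 1 (p ^ a)).not.2 (by
        intro hdvd; have := Nat.le_of_dvd (by norm_num) hdvd; omega)
      exact this (by exact_mod_cast h')
    have h24 : (2 : ZMod (p ^ a)) ≠ 4 := by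
      intro h
      apply h2
      have : (4 : ZMod (p ^ a)) - 2 = 2 := by ring
      rw [← this, ← h]; ring
    have h02 : (0 : ZMod (p ^ a)) ≠ 2 := fun h => h2 h.symm
    have hs1 : Equiv.Perm.sign (swap (1 : ZMod (p ^ a)) 2) = -1 := Equiv.Perm.sign_swap h12
    have hs2 : Equiv.Perm.sign (swap (0 : ZMod (p ^ a)) 2 * swap (2 : ZMod (p ^ a)) 4) = 1 := by
      rw [map_mul, Equiv.Perm.sign_swap h02, Equiv.Perm.sign_swap h24]; simp
    have t1 := tm_transport p hp u w ι e (rot (p ^ a)) (rot (p ^ a)) hιrot hwe h₀ hh₀ _ hg1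
    have t2 := tm_transport p hp u w ι e (rot (p ^ a)) (rot (p ^ a)) hιrot hwe h₀ hh₀ _ hg2
    rcases Int.units_eq_one_or (Equiv.Perm.sign h₀) with hs | hs
    · refine ⟨_, ?_, t2⟩
      rw [map_mul, Equiv.Perm.viaFintypeEmbedding_sign, hs2, hs]; simp
    · refine ⟨_, ?_, t1⟩
      rw [map_mul, Equiv.Perm.viaFintypeEmbedding_sign, hs1, hs]; simp
  · -- regimes B, C
    have hpJ : p ∣ p ^ (a - b) := dvd_pow_self p (by omega)
    have hg := Cfsg.Agent.Lib.Helper45.FP.GOODM p (p ^ (a - b)) (p ^ (b - 1)) (p ^ a) hp3 hℓ hpJ ⟨a, rfl⟩ ⟨b - 1, rfl⟩ M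
      hM0 hM1 hreg
    have t1 := tm_transport p hp u w ι e (rot (p ^ a)) M hιrot hwe h₀ hh₀ _ hg
    rcases Int.units_eq_one_or (Equiv.Perm.sign
      ((swap (0 : ZMod (p ^ a)) ((p ^ (a - b) : ℕ) + 1)).viaFintypeEmbedding ι * h₀)) with hs | hs
    · exact ⟨_, hs, t1⟩
    · -- fix the parity with an odd permutation commuting with `w`
      have hS : ∀ x ∈ (Finset.univ.map e), w x ∈ (Finset.univ.map e) := by
        intro x hx
        obtain ⟨z, -, rfl⟩ := Finset.mem_map.1 hx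
        rw [hwe]
        exact Finset.mem_map.2 ⟨M z, Finset.mem_univ _, rfl⟩
      have hScard : (Finset.univ.map e).card = p ^ a := by
        rw [Finset.card_map, Finset.card_univ, ZMod.card]
      have hSper : ∀ x ∈ (Finset.univ.map e), ∃ i < a, Function.minimalPeriod w x = p ^ i := by
        intro x _
        obtain ⟨i, hi⟩ := hwper x
        have h1 := hmax x
        rw [hi, hb] at h1
        have h2 : i ≤ b := (Nat.pow_le_pow_iff_right hp1).1 h1
        exact ⟨i, by omega, hi⟩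
      obtain ⟨x, -, y, -, hxy, hdiff⟩ := Cfsg.Agent.Lib.Helper77.FP.ODDC p w a (Finset.univ.map e) hS hScard hSper
      have hodd : Odd (Function.minimalPeriod w x) := by
        obtain ⟨i, hi⟩ := hwper x
        rw [hi]
        exact (hp.odd_of_ne_two (by omega)).pow
      obtain ⟨π₀, hπ₀, hcomm⟩ := Cfsg.Agent.Lib.Helper31.FP.ODDP w x y hxy hodd hdiff
      refine ⟨(swap (0 : ZMod (p ^ a)) ((p ^ (a - b) : ℕ) + 1)).viaFintypeEmbedding ι * h₀ * π₀,
        ?_, ?_⟩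
      · rw [map_mul, hs, hπ₀]; simp
      · have : (swap (0 : ZMod (p ^ a)) ((p ^ (a - b) : ℕ) + 1)).viaFintypeEmbedding ι * h₀ * π₀ * w *
            ((swap (0 : ZMod (p ^ a)) ((p ^ (a - b) : ℕ) + 1)).viaFintypeEmbedding ι * h₀ * π₀)⁻¹ =
            (swap (0 : ZMod (p ^ a)) ((p ^ (a - b) : ℕ) + 1)).viaFintypeEmbedding ι * h₀ * w *
            ((swap (0 : ZMod (p ^ a)) ((p ^ (a - b) : ℕ) + 1)).viaFintypeEmbedding ι * h₀)⁻¹ := by
          rw [mul_assoc _ π₀ w, hcomm]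
          group
        rw [this]
        exact t1

end Cfsg.Agent.Lib.Helper45.FP
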