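import Mathlib
import Cfsg.Agent.Lib.Helper45.HADefs

/-! HALL-ALT piece All (project of helper45; S2538/S2535/S2534).
PLACEHOLDER: replace the `sorry`(s) in THIS file; keep theorem names and statements byte-identical;
keep the namespace; auxiliary lemmas go ABOVE the theorems and MUST start with the prefix `all_`.
Paper proofs: see the note (topic "HALL-ALT"). -/

set_option autoImplicit false

namespace Cfsg.Agent.Lib.Helper45.HA

open Equiv Cfsg.Agent.Lib.Helper13

theorem all_prime_mem {Ω : Type*} [Finite Ω] (π : Set ℕ) (hA2 : ¬ HS.A2 π (Nat.card Ω))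
    (p : ℕ) (hp : p.Prime) (hdvd : p ∣ Nat.card (Perm Ω)) : p ∈ π := by
  rw [Nat.card_perm] at hdvd
  have hle : p ≤ Nat.card Ω := (Nat.Prime.dvd_factorial hp).1 hdvd
  by_contra hn
  exact hA2 ⟨p, hp, hle, hn⟩

theorem all_not_prime_dvd_one (p : ℕ) (hp : p.Prime) (hd : p ∣ 1) : False :=
  absurd (Nat.le_of_dvd one_pos hd) (not_le.2 hp.one_lt)

theorem hall_eq_top {Ω : Type*} [Finite Ω] (π : Set ℕ) (H : Subgroup (Perm Ω))
    (hH : Cfsg.IsPiHall π H) (hA2 : ¬ HS.A2 π (Nat.card Ω)) : H = ⊤ := by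
  rw [← Subgroup.index_eq_one]
  by_contra hne
  obtain ⟨p, hp, hpd⟩ := Nat.exists_prime_and_dvd hne
  exact hH.2 p hp (all_prime_mem π hA2 p hp (dvd_trans hpd (Subgroup.index_dvd_card H))) hpd

theorem hall_top_of_card_le_one {Ω : Type*} [Finite Ω] (π : Set ℕ) (h : Nat.card Ω ≤ 1) :
    Cfsg.IsPiHall π (⊤ : Subgroup (Perm Ω)) := by
  have h1 : Nat.card (Perm Ω) = 1 := by
    rw [Nat.card_perm]
    have h01 : Nat.card Ω = 0 ∨ Nat.card Ω = 1 := by omega
    rcases h01 with h0 | h0 <;> rw [h0] <;> rfl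
  refine ⟨fun p hp hd => ?_, fun p hp _ hd => ?_⟩
  · rw [Subgroup.card_top, h1] at hd
    exact (all_not_prime_dvd_one p hp hd).elim
  · rw [Subgroup.index_top] at hd
    exact all_not_prime_dvd_one p hp hd

theorem lift_of_all {Ω : Type*} [Finite Ω] (π : Set ℕ) (K : Subgroup (Perm Ω))
    (hA2 : ¬ HS.A2 π (Nat.card Ω)) (hK : Cfsg.IsPiHallOf π K (altG Ω)) : Lift π K := by
  obtain ⟨hKA, hK1, hK2⟩ := hK
  have hrel : K.relIndex (altG Ω) = 1 := by
    by_contra hne
    obtain ⟨p, hp, hpd⟩ := Nat.exists_prime_and_dvd hne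
    have h1 : p ∣ Nat.card (Perm Ω) :=
      dvd_trans hpd (dvd_trans (Subgroup.relIndex_dvd_card K (altG Ω))
        (Subgroup.card_subgroup_dvd_card (altG Ω)))
    exact hK2 p hp (all_prime_mem π hA2 p hp h1) hpd
  have hAK : altG Ω ≤ K := Subgroup.relIndex_eq_one.1 hrel
  refine ⟨⊤, ⟨fun p hp hd => ?_, fun p hp _ hd => ?_⟩, ?_⟩
  · rw [Subgroup.card_top] at hd
    exact all_prime_mem π hA2 p hp hd
  · rw [Subgroup.index_top] at hd
    exact all_not_prime_dvd_one p hp hd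
  · rw [top_inf_eq]
    exact le_antisymm hAK hKA

end Cfsg.Agent.Lib.Helper45.HA
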