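import Mathlib
import Cfsg.Agent.Lib.Helper45.HADefs

/-! HALL-ALT piece AltEven (project of helper45; S2538/S2535/S2534), proved by helper17.
Theorem names and statements are those of the placeholder; auxiliary lemmas have the prefix `ae_`.
Paper proofs: see the note (topic "HALL-ALT"). -/

set_option autoImplicit false

namespace Cfsg.Agent.Lib.Helper45.HA

open Equiv Cfsg.Agent.Lib.Helper13

theorem ae_inf_normal {G : Type*} [Group G] (M₁ M₂ N : Subgroup G) [hN : N.Normal] (g : G)
    (hg : M₂ = M₁.map (MulAut.conj g).toMonoidHom) :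
    M₂ ⊓ N = (M₁ ⊓ N).map (MulAut.conj g).toMonoidHom := by
  ext y
  constructor
  · rintro ⟨hy1, hy2⟩
    rw [hg] at hy1
    obtain ⟨m, hm, rfl⟩ := Subgroup.mem_map.mp hy1
    refine Subgroup.mem_map.mpr ⟨m, ⟨hm, ?_⟩, rfl⟩
    have h := hN.conj_mem' _ hy2 g
    have e : g⁻¹ * ((MulAut.conj g).toMonoidHom m) * g = m := by
      simp [MulAut.conj_apply, mul_assoc]
    rwa [e] at h
  · intro hy
    obtain ⟨m, ⟨hm1, hm2⟩, rfl⟩ := Subgroup.mem_map.mp hy
    refine ⟨?_, ?_⟩
    · rw [hg]; exact Subgroup.mem_map.mpr ⟨m, hm1, rfl⟩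
    · have h := hN.conj_mem _ hm2 g
      simpa [MulAut.conj_apply] using h

theorem ae_map_mul {G : Type*} [Group G] (M : Subgroup G) (g x : G) (hx : x ∈ M) :
    M.map (MulAut.conj (g * x)).toMonoidHom = M.map (MulAut.conj g).toMonoidHom := by
  ext y
  constructor
  · intro hy
    obtain ⟨m, hm, rfl⟩ := Subgroup.mem_map.mp hy
    refine Subgroup.mem_map.mpr ⟨x * m * x⁻¹, M.mul_mem (M.mul_mem hx hm) (M.inv_mem hx), ?_⟩
    simp [MulAut.conj_apply, mul_assoc]
  · intro hy
    obtain ⟨m, hm, rfl⟩ := Subgroup.mem_map.mp hy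
    refine Subgroup.mem_map.mpr ⟨x⁻¹ * m * x, M.mul_mem (M.mul_mem (M.inv_mem hx) hm) hx, ?_⟩
    simp [MulAut.conj_apply, mul_assoc]

/-- parity fix: conjugate Hall subgroups (`2 ∈ π`) of the symmetric group have intersections with
the alternating group that are conjugate by an even permutation -/
theorem alt_conj_even {Ω : Type*} [Finite Ω] (π : Set ℕ) (h2 : 2 ∈ π)
    (M₁ M₂ : Subgroup (Perm Ω)) (hM₁ : Cfsg.IsPiHall π M₁) (g : Perm Ω)
    (hg : M₂ = M₁.map (MulAut.conj g).toMonoidHom) :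
    ∃ g' ∈ altG Ω, M₂ ⊓ altG Ω = (M₁ ⊓ altG Ω).map (MulAut.conj g').toMonoidHom := by
  classical
  have : Fintype Ω := Fintype.ofFinite Ω
  by_cases hgA : g ∈ altG Ω
  · exact ⟨g, hgA, ae_inf_normal M₁ M₂ (altG Ω) g hg⟩
  · have hsg : Equiv.Perm.sign g ≠ 1 := fun h => hgA ((mem_altG Ω g).mpr h)
    have hnt : Nontrivial Ω := by
      by_contra h
      rw [not_nontrivial_iff_subsingleton] at h
      apply hsg
      have : g = 1 := Subsingleton.elim _ _
      rw [this, map_one]
    have hidx : (altG Ω).index = 2 := by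
      rw [altG_eq]; exact alternatingGroup.index_eq_two
    have hex : ∃ x ∈ M₁, x ∉ altG Ω := by
      by_contra hcon
      push Not at hcon
      have hle : M₁ ≤ altG Ω := hcon
      have := Subgroup.index_dvd_of_le hle
      rw [hidx] at this
      exact hM₁.2 2 Nat.prime_two h2 this
    obtain ⟨x, hxM, hxA⟩ := hex
    have hsx : Equiv.Perm.sign x ≠ 1 := fun h => hxA ((mem_altG Ω x).mpr h)
    refine ⟨g * x, ?_, ?_⟩
    · rw [mem_altG, map_mul]
      rcases Int.units_eq_one_or (Equiv.Perm.sign g) with h | h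
      · exact absurd h hsg
      · rcases Int.units_eq_one_or (Equiv.Perm.sign x) with h' | h'
        · exact absurd h' hsx
        · rw [h, h']; rfl
    · exact ae_inf_normal M₁ M₂ (altG Ω) (g * x) (by rw [hg, ae_map_mul M₁ g x hxM])

end Cfsg.Agent.Lib.Helper45.HA
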