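import Mathlib
import Cfsg.Agent.Lib.Helper45.HADefs
import Cfsg.Agent.Lib.Helper13.HSBlock

/-! HALL-ALT piece Block8 (project of helper45; S2538/S2535/S2534).
Proved by helper88 (auxiliary lemma `b8_main`).
Paper proofs: see the note (topic "HALL-ALT"). -/

set_option autoImplicit false

namespace Cfsg.Agent.Lib.Helper45.HA

open Equiv Cfsg.Agent.Lib.Helper13

open scoped Pointwise in
theorem b8_main {Ω : Type*} [Fintype Ω] [DecidableEq Ω] (K : Subgroup (Perm Ω))
    (h8 : Nat.card Ω = 8) (htr : MulAction.IsPretransitive ↥K Ω)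
    (hnp : ¬ MulAction.IsPreprimitive ↥K Ω) (g : Perm Ω) (hg : g ∈ K) (h3 : g.IsThreeCycle) :
    ∃ B : Set Ω, B.ncard = 4 ∧ K ≤ Wsub B := by
  classical
  have hex : ∃ B : Set Ω, MulAction.IsBlock ↥K B ∧ ¬ MulAction.IsTrivialBlock B := by
    by_contra hcon
    push Not at hcon
    exact hnp { toIsPretransitive := htr, isTrivialBlock_of_isBlock := fun {B} hB => hcon B hB }
  obtain ⟨B₀, hB₀, hnt⟩ := hex
  have hns : ¬ B₀.Subsingleton := fun h => hnt (Or.inl h)
  have hnu : B₀ ≠ Set.univ := fun h => hnt (Or.inr h)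
  have hne : B₀.Nonempty := by
    by_contra h
    rw [Set.not_nonempty_iff_eq_empty] at h
    exact hns (h ▸ Set.subsingleton_empty)
  have hdvd : B₀.ncard ∣ 8 := h8 ▸ hB₀.ncard_dvd_card hne
  have h1 : 1 < B₀.ncard := by
    rw [Set.one_lt_ncard_iff_nontrivial]
    exact Set.not_subsingleton_iff.mp hns
  have hlt : B₀.ncard < 8 := by
    rw [← h8, ← Set.ncard_univ]
    exact Set.ncard_lt_ncard (Set.ssubset_univ_iff.mpr hnu)
  have hc : g.IsCycle := h3.isCycle
  have hcard3 : g.support.card = 3 := h3.card_support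
  obtain ⟨x, hx⟩ := hc.nonempty_support
  have hxs : g x ≠ x := Perm.mem_support.mp hx
  obtain ⟨b, hb⟩ := hne
  obtain ⟨t, ht⟩ := htr.exists_smul_eq b x
  have hB' : MulAction.IsBlock ↥K (t • B₀) := hB₀.translate t
  have hxB' : x ∈ t • B₀ := ⟨b, hb, ht⟩
  have hcardB' : (t • B₀).ncard = B₀.ncard :=
    Set.ncard_image_of_injective _ (MulAction.injective t)
  have h4 : (t • B₀).ncard = 4 := by
    by_cases hmv : g • (t • B₀) = t • B₀
    · have hsub : (g.support : Set Ω) ⊆ t • B₀ := by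
        intro y hy
        obtain ⟨i, hi⟩ := hc.exists_zpow_eq hxs (Perm.mem_support.mp (Finset.mem_coe.mp hy))
        rw [← hi]
        have hst : g ∈ MulAction.stabilizer (Perm Ω) (t • B₀) :=
          MulAction.mem_stabilizer_iff.mpr hmv
        have hst' : g ^ i ∈ MulAction.stabilizer (Perm Ω) (t • B₀) := zpow_mem hst i
        have h2 : (g ^ i) • (t • B₀) = t • B₀ := MulAction.mem_stabilizer_iff.mp hst'
        rw [← h2]
        exact ⟨x, hxB', rfl⟩
      have h3le : 3 ≤ (t • B₀).ncard := by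
        rw [← hcard3, ← Set.ncard_coe_finset]
        exact Set.ncard_le_ncard hsub
      rw [hcardB'] at h3le ⊢
      have hmem : B₀.ncard ∈ Nat.divisors 8 := Nat.mem_divisors.2 ⟨hdvd, by norm_num⟩
      have hd8 : Nat.divisors 8 = {1, 2, 4, 8} := by decide
      rw [hd8] at hmem
      simp only [Finset.mem_insert, Finset.mem_singleton] at hmem
      omega
    · have hd := HS.block_moved K (t • B₀) hB' g hg hc x hxB' hxs hmv
      rw [hcardB', hcard3] at hd
      exfalso
      have h5 : B₀.ncard ∣ Nat.gcd 3 8 := Nat.dvd_gcd hd hdvd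
      have h6 : Nat.gcd 3 8 = 1 := by decide
      rw [h6, Nat.dvd_one] at h5
      omega
  refine ⟨t • B₀, h4, ?_⟩
  intro σ hσ
  rw [mem_Wsub]
  intro y z
  have hσB : ∀ w : Ω, σ w ∈ σ • (t • B₀) ↔ w ∈ t • B₀ := fun w => Set.smul_mem_smul_set_iff
  rcases hB'.smul_eq_or_disjoint ⟨σ, hσ⟩ with heq | hdis
  · have heq' : σ • (t • B₀) = t • B₀ := heq
    have h5 : ∀ w : Ω, σ w ∈ t • B₀ ↔ w ∈ t • B₀ := by
      intro w
      have h9 := hσB w
      rw [heq'] at h9
      exact h9
    rw [h5 y, h5 z]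
  · have hdis' : Disjoint (σ • (t • B₀)) (t • B₀) := hdis
    have hcompl : σ • (t • B₀) = (t • B₀)ᶜ := by
      apply Set.eq_of_subset_of_ncard_le
      · exact Set.subset_compl_iff_disjoint_right.2 hdis'
      · have h6 : (σ • (t • B₀)).ncard = (t • B₀).ncard :=
          Set.ncard_image_of_injective _ (MulAction.injective σ)
        have h7 : ((t • B₀)ᶜ).ncard = Nat.card Ω - (t • B₀).ncard := Set.ncard_compl _
        omega
      · exact Set.toFinite _
    have h5 : ∀ w : Ω, σ w ∈ t • B₀ ↔ w ∉ t • B₀ := by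
      intro w
      have h9 := hσB w
      rw [hcompl, Set.mem_compl_iff] at h9
      tauto
    rw [h5 y, h5 z, not_iff_not]

/-- a transitive imprimitive group of degree 8 containing a 3-cycle preserves a partition into
two 4-sets -/
theorem block8 {Ω : Type*} [Fintype Ω] [DecidableEq Ω] (K : Subgroup (Perm Ω))
    (h8 : Nat.card Ω = 8) (htr : MulAction.IsPretransitive ↥K Ω)
    (hnp : ¬ MulAction.IsPreprimitive ↥K Ω) (g : Perm Ω) (hg : g ∈ K) (h3 : g.IsThreeCycle) :
    ∃ B : Set Ω, B.ncard = 4 ∧ K ≤ Wsub B := by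
  exact b8_main K h8 htr hnp g hg h3

end Cfsg.Agent.Lib.Helper45.HA
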