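import Mathlib
import Cfsg.Agent.Lib.Helper45.HADefs

/-! HALL-ALT piece Bridge (project of helper45; S2538/S2535/S2534).
Filled in by helper73 (statements byte-identical; auxiliary lemmas carry the prefix `bridge_`).
Paper proofs: see the note (topic "HALL-ALT"). -/

set_option autoImplicit false

namespace Cfsg.Agent.Lib.Helper45.HA

open Equiv Cfsg.Agent.Lib.Helper13

theorem bridge_mem_map_subtype {G : Type*} [Group G] (A : Subgroup G) (M : Subgroup ↥A) (x : ↥A) :
    (x : G) ∈ M.map A.subtype ↔ x ∈ M := by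
  constructor
  · rintro ⟨y, hy, hyx⟩
    have : y = x := Subtype.ext hyx
    rwa [← this]
  · intro hx
    exact ⟨x, hx, rfl⟩

theorem hall_subgroupOf {G : Type*} [Group G] (π : Set ℕ) (A K : Subgroup G) (hK : K ≤ A) :
    Cfsg.IsPiHall π (K.subgroupOf A) ↔ Cfsg.IsPiHallOf π K A := by
  have hcard : Nat.card ↥(K.subgroupOf A) = Nat.card ↥K :=
    Nat.card_congr (Subgroup.subgroupOfEquivOfLe hK).toEquiv
  unfold Cfsg.IsPiHall Cfsg.IsPiHallOf
  rw [hcard]
  constructor
  · rintro ⟨h1, h2⟩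
    exact ⟨hK, h1, h2⟩
  · rintro ⟨-, h1, h2⟩
    exact ⟨h1, h2⟩

theorem hall_map_subtype {G : Type*} [Group G] (π : Set ℕ) (A : Subgroup G) (M : Subgroup ↥A) :
    Cfsg.IsPiHall π M ↔ Cfsg.IsPiHallOf π (M.map A.subtype) A := by
  have hle : M.map A.subtype ≤ A := Subgroup.map_subtype_le M
  have hcard : Nat.card ↥(M.map A.subtype) = Nat.card ↥M :=
    (Nat.card_congr (M.equivMapOfInjective A.subtype A.subtype_injective).toEquiv).symm
  have hrel : (M.map A.subtype).relIndex A = M.index := by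
    unfold Subgroup.relIndex
    have : (M.map A.subtype).subgroupOf A = M := by
      ext x
      rw [Subgroup.mem_subgroupOf]
      exact bridge_mem_map_subtype A M x
    rw [this]
  unfold Cfsg.IsPiHall Cfsg.IsPiHallOf
  rw [hcard, hrel]
  constructor
  · rintro ⟨h1, h2⟩
    exact ⟨hle, h1, h2⟩
  · rintro ⟨-, h1, h2⟩
    exact ⟨h1, h2⟩

theorem eq_subgroupOf_iff {G : Type*} [Group G] (A M₀ : Subgroup G) (M : Subgroup ↥A) :
    M = M₀.subgroupOf A ↔ M₀ ⊓ A = M.map A.subtype := by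
  constructor
  · intro h
    subst h
    ext x
    constructor
    · rintro ⟨hx0, hxA⟩
      exact ⟨⟨x, hxA⟩, Subgroup.mem_subgroupOf.mpr hx0, rfl⟩
    · rintro ⟨y, hy, rfl⟩
      exact ⟨Subgroup.mem_subgroupOf.mp hy, y.2⟩
  · intro h
    ext x
    rw [Subgroup.mem_subgroupOf, ← bridge_mem_map_subtype A M x, ← h]
    constructor
    · intro hx
      exact hx.1
    · intro hx
      exact ⟨hx, x.2⟩

theorem conj_subtype {G : Type*} [Group G] (A : Subgroup G) (H K : Subgroup ↥A) (g : G)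
    (hg : g ∈ A)
    (h : K.map A.subtype = (H.map A.subtype).map (MulAut.conj g).toMonoidHom) :
    K = H.map (MulAut.conj (⟨g, hg⟩ : ↥A)).toMonoidHom := by
  ext x
  rw [← bridge_mem_map_subtype A K x, h]
  constructor
  · rintro ⟨y, ⟨z, hz, rfl⟩, hyx⟩
    refine ⟨z, hz, ?_⟩
    apply Subtype.ext
    simpa using hyx
  · rintro ⟨z, hz, rfl⟩
    refine ⟨(z : G), ⟨z, hz, rfl⟩, ?_⟩
    simp

theorem hallOf_top {G : Type*} [Group G] (π : Set ℕ) (K : Subgroup G) :
    Cfsg.IsPiHallOf π K ⊤ ↔ Cfsg.IsPiHall π K := by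
  unfold Cfsg.IsPiHall Cfsg.IsPiHallOf
  rw [Subgroup.relIndex_top_right]
  constructor
  · rintro ⟨-, h1, h2⟩
    exact ⟨h1, h2⟩
  · rintro ⟨h1, h2⟩
    exact ⟨le_top, h1, h2⟩

end Cfsg.Agent.Lib.Helper45.HA
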