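import Mathlib
import Cfsg.Agent.Lib.Helper45.HADefs
import Cfsg.Agent.Lib.Helper13.HSChoose

/-! HALL-ALT piece Choose (project of helper45; S2538/S2535/S2534).
Placeholder filled by helper31 (theorem names and statements byte-identical);
auxiliary lemmas are ABOVE the theorems and start with the prefix `ch_`.
Paper proofs: see the note (topic "HALL-ALT"). -/

set_option autoImplicit false

namespace Cfsg.Agent.Lib.Helper45.HA

open Equiv Cfsg.Agent.Lib.Helper13

set_option backward.isDefEq.respectTransparency false in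
open scoped Pointwise in
theorem ch_stab_index {Ω : Type*} [Fintype Ω] [DecidableEq Ω] (M : Subgroup (Perm Ω))
    (s : Set Ω) (hn : 3 ≤ Nat.card Ω) (hs : ∀ h ∈ M, ∀ x ∈ s, h x ∈ s) :
    ∃ S : Subgroup (alternatingGroup Ω), M.subgroupOf (alternatingGroup Ω) ≤ S ∧
      S.index = Nat.choose (Nat.card Ω) s.ncard := by
  have hsfin : s.Finite := Set.toFinite s
  obtain ⟨t, ht⟩ : ∃ t : Set.powersetCard Ω s.ncard, (t : Set Ω) = s := by
    refine ⟨⟨hsfin.toFinset, ?_⟩, ?_⟩
    · rw [Set.powersetCard.mem_iff]; exact (Set.ncard_eq_toFinset_card s hsfin).symm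
    · ext x
      simp
  have := Set.powersetCard.isPretransitive_alternatingGroup (α := Ω) (n := s.ncard) hn
  refine ⟨MulAction.stabilizer (alternatingGroup Ω) t, ?_, ?_⟩
  · intro h hh
    rw [Subgroup.mem_subgroupOf] at hh
    rw [Set.powersetCard.stabilizer_coe, MulAction.mem_stabilizer_iff, ht]
    refine Set.eq_of_subset_of_ncard_le ?_ ?_ (Set.toFinite _)
    · rintro _ ⟨x, hx, rfl⟩
      exact hs (h : Perm Ω) hh x hx
    · rw [Set.ncard_smul_set]
  · rw [MulAction.index_stabilizer_of_transitive, Set.powersetCard.card]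

/-- an invariant set of a Hall `π`-subgroup of the alternating group has `π'`-binomial -/
theorem hallA_choose {Ω : Type*} [Finite Ω] (π : Set ℕ) (K : Subgroup (Perm Ω))
    (hK : Cfsg.IsPiHallOf π K (altG Ω)) (s : Set Ω)
    (hs : ∀ k ∈ K, ∀ x ∈ s, k x ∈ s) (h3 : 3 ≤ Nat.card Ω) (p : ℕ) (hp : p.Prime)
    (hpπ : p ∈ π) : ¬ p ∣ Nat.choose (Nat.card Ω) s.ncard := by
  classical
  have hfin : Fintype Ω := Fintype.ofFinite Ω
  obtain ⟨-, -, hidx⟩ := hK
  rw [altG_eq] at hidx
  obtain ⟨S, hle, hS⟩ := ch_stab_index K s h3 hs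
  intro hdvd
  rw [← hS] at hdvd
  exact hidx p hp hpπ (dvd_trans hdvd (Subgroup.index_dvd_of_le hle))

end Cfsg.Agent.Lib.Helper45.HA
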