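import Mathlib
import Cfsg.Agent.Lib.Helper45.HADefs

/-! HALL-ALT piece Max (project of helper45; S2538/S2535/S2534).
PLACEHOLDER: replace the `sorry`(s) in THIS file; keep theorem names and statements byte-identical;
keep the namespace; auxiliary lemmas go ABOVE the theorems and MUST start with the prefix `hmax_`.
Paper proofs: see the note (topic "HALL-ALT"). -/

set_option autoImplicit false

namespace Cfsg.Agent.Lib.Helper45.HA

open Equiv Cfsg.Agent.Lib.Helper13

/-- a `π`-subgroup containing a Hall `π`-subgroup of `A` meets `A` in that Hall subgroup -/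
theorem hallOf_max {G : Type*} [Group G] [Finite G] (π : Set ℕ) (A K D : Subgroup G)
    (hK : Cfsg.IsPiHallOf π K A) (hKD : K ≤ D)
    (hD : ∀ p : ℕ, p.Prime → p ∣ Nat.card D → p ∈ π) : D ⊓ A = K := by
  obtain ⟨hKA, _, hK3⟩ := hK
  have hKE : K ≤ D ⊓ A := le_inf hKD hKA
  have h1 : K.relIndex (D ⊓ A) = 1 := by
    rw [Nat.eq_one_iff_not_exists_prime_dvd]
    intro p hp hdvd
    have hpD : p ∣ Nat.card D :=
      dvd_trans hdvd (dvd_trans (Subgroup.relIndex_dvd_card K (D ⊓ A))
        (Subgroup.card_dvd_of_le inf_le_left))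
    have hpA : p ∣ K.relIndex A := by
      rw [← Subgroup.relIndex_mul_relIndex K (D ⊓ A) A hKE inf_le_right]
      exact dvd_mul_of_dvd_left hdvd _
    exact hK3 p hp (hD p hp hpD) hpA
  exact le_antisymm (Subgroup.relIndex_eq_one.1 h1) hKE

/-- a `π`-subgroup containing a Hall `π`-subgroup equals it -/
theorem hall_max {G : Type*} [Group G] [Finite G] (π : Set ℕ) (H D : Subgroup G)
    (hH : Cfsg.IsPiHall π H) (hHD : H ≤ D)
    (hD : ∀ p : ℕ, p.Prime → p ∣ Nat.card D → p ∈ π) : D = H := by
  obtain ⟨_, hH2⟩ := hH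
  have h1 : H.relIndex D = 1 := by
    rw [Nat.eq_one_iff_not_exists_prime_dvd]
    intro p hp hdvd
    have hpD : p ∣ Nat.card D := dvd_trans hdvd (Subgroup.relIndex_dvd_card H D)
    have hpI : p ∣ H.index := by
      rw [← Subgroup.relIndex_mul_index hHD]
      exact dvd_mul_of_dvd_left hdvd _
    exact hH2 p hp (hD p hp hpD) hpI
  exact le_antisymm (Subgroup.relIndex_eq_one.1 h1) hHD

end Cfsg.Agent.Lib.Helper45.HA
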