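import Mathlib
import Cfsg.Agent.Lib.Helper45.HADefs
import Cfsg.Agent.Lib.Helper45.HAMax
import Cfsg.Agent.Lib.Helper13.HAGMax

/-! HALL-ALT piece Conj7 (project of helper45; S2538/S2535/S2534).
PLACEHOLDER: replace the `sorry`(s) in THIS file; keep theorem names and statements byte-identical;
keep the namespace; auxiliary lemmas go ABOVE the theorems and MUST start with the prefix `cc7_`.
Paper proofs: see the note (topic "HALL-ALT"). -/

set_option autoImplicit false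

namespace Cfsg.Agent.Lib.Helper45.HA

open Equiv Cfsg.Agent.Lib.Helper13

open scoped Pointwise in
/-- a set as an element of `Set.powersetCard` -/
theorem cc7_exists_powersetCard {Ω : Type*} [Finite Ω] (s : Set Ω) (n : ℕ) (hn : s.ncard = n) :
    ∃ t : Set.powersetCard Ω n, (t : Set Ω) = s := by
  classical
  subst hn
  have : Fintype Ω := Fintype.ofFinite Ω
  have hsfin : s.Finite := Set.toFinite s
  refine ⟨⟨hsfin.toFinset, ?_⟩, ?_⟩
  · rw [Set.powersetCard.mem_iff]; exact (Set.ncard_eq_toFinset_card s hsfin).symm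
  · ext x
    simp

open scoped Pointwise in
/-- the index of a set stabiliser -/
theorem cc7_stab_index {Ω : Type*} [Finite Ω] (s : Set Ω) :
    (MulAction.stabilizer (Perm Ω) s).index = Nat.choose (Nat.card Ω) s.ncard := by
  classical
  obtain ⟨t, ht⟩ := cc7_exists_powersetCard s s.ncard rfl
  have := Set.powersetCard.isPretransitive (α := Ω) (n := s.ncard)
  have h1 : MulAction.stabilizer (Perm Ω) s = MulAction.stabilizer (Perm Ω) t := by
    rw [Set.powersetCard.stabilizer_coe, ht]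
  rw [h1, MulAction.index_stabilizer_of_transitive, Set.powersetCard.card]

open scoped Pointwise in
/-- two sets of the same size are conjugate under `Perm Ω` -/
theorem cc7_exists_smul {Ω : Type*} [Finite Ω] (s s' : Set Ω) (h : s.ncard = s'.ncard) :
    ∃ g : Perm Ω, g • s = s' := by
  classical
  obtain ⟨t, ht⟩ := cc7_exists_powersetCard s s.ncard rfl
  obtain ⟨t', ht'⟩ := cc7_exists_powersetCard s' s.ncard h.symm
  have := Set.powersetCard.isPretransitive (α := Ω) (n := s.ncard)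
  obtain ⟨g, hg⟩ := MulAction.exists_smul_eq (Perm Ω) t t'
  refine ⟨g, ?_⟩
  have h1 : ((g • t : Set.powersetCard Ω s.ncard) : Finset Ω) = g • (t : Finset Ω) :=
    Set.powersetCard.coe_smul
  rw [hg] at h1
  have h2 : ((t' : Finset Ω) : Set Ω) = ((g • (t : Finset Ω) : Finset Ω) : Set Ω) := by rw [h1]
  rw [Finset.coe_smul_finset] at h2
  rw [← ht, ← ht']
  exact h2.symm

open scoped Pointwise in
/-- a subgroup leaving `s` invariant lies in the set stabiliser -/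
theorem cc7_le_stab {Ω : Type*} [Finite Ω] (H : Subgroup (Perm Ω)) (s : Set Ω)
    (hs : ∀ h ∈ H, ∀ x ∈ s, h x ∈ s) : H ≤ MulAction.stabilizer (Perm Ω) s := by
  intro h hh
  rw [MulAction.mem_stabilizer_iff]
  refine Set.eq_of_subset_of_ncard_le ?_ ?_ (Set.toFinite _)
  · rintro _ ⟨x, hx, rfl⟩
    exact hs h hh x hx
  · rw [Set.ncard_smul_set]

open scoped Pointwise in
/-- the stabiliser of a 3-set in degree 7 has order 144, a `{2,3}`-number -/
theorem cc7_stab_pi {Ω : Type*} [Finite Ω] (π : Set ℕ) (h7 : Nat.card Ω = 7) (hCd : HS.Cd π 7)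
    (s : Set Ω) (hs : s.ncard = 3) (p : ℕ) (hp : p.Prime)
    (hpd : p ∣ Nat.card (MulAction.stabilizer (Perm Ω) s)) : p ∈ π := by
  have hidx : (MulAction.stabilizer (Perm Ω) s).index = 35 := by
    rw [cc7_stab_index, h7, hs]
    rfl
  have hcard : Nat.card (Perm Ω) = 5040 := by
    rw [Nat.card_perm, h7]
    rfl
  have hmul := Subgroup.card_mul_index (MulAction.stabilizer (Perm Ω) s)
  rw [hidx, hcard] at hmul
  have h144 : Nat.card (MulAction.stabilizer (Perm Ω) s) = 144 := by omega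
  rw [h144] at hpd
  have h23 : p = 2 ∨ p = 3 := by
    have e : (144 : ℕ) = 2 ^ 4 * 3 ^ 2 := by norm_num
    rw [e] at hpd
    rcases (Nat.Prime.dvd_mul hp).mp hpd with h | h
    · left
      exact (Nat.prime_dvd_prime_iff_eq hp Nat.prime_two).mp (hp.dvd_of_dvd_pow h)
    · right
      exact (Nat.prime_dvd_prime_iff_eq hp Nat.prime_three).mp (hp.dvd_of_dvd_pow h)
  have hle : p ≤ 7 := by
    rcases h23 with h | h <;> omega
  exact (hCd.2 p hp hle).2 h23

open scoped Pointwise in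
theorem cc7_conj {Ω : Type*} [Finite Ω] (π : Set ℕ) (h7 : Nat.card Ω = 7) (hCd : HS.Cd π 7)
    (H₁ H₂ : Subgroup (Perm Ω)) (h₁ : Cfsg.IsPiHall π H₁) (h₂ : Cfsg.IsPiHall π H₂)
    (s₁ s₂ : Set Ω) (hs₁ : s₁.ncard = 3) (hs₂ : s₂.ncard = 3)
    (hi₁ : ∀ h ∈ H₁, ∀ x ∈ s₁, h x ∈ s₁) (hi₂ : ∀ h ∈ H₂, ∀ x ∈ s₂, h x ∈ s₂) :
    ∃ g : Perm Ω, H₂ = H₁.map (MulAut.conj g).toMonoidHom := by
  have hT₁ : MulAction.stabilizer (Perm Ω) s₁ = H₁ :=
    (Cfsg.Agent.Lib.Helper13.HA.hall_max π H₁ _ h₁ (cc7_le_stab H₁ s₁ hi₁)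
      (fun p hp hpd => cc7_stab_pi π h7 hCd s₁ hs₁ p hp hpd)).symm
  have hT₂ : MulAction.stabilizer (Perm Ω) s₂ = H₂ :=
    (Cfsg.Agent.Lib.Helper13.HA.hall_max π H₂ _ h₂ (cc7_le_stab H₂ s₂ hi₂)
      (fun p hp hpd => cc7_stab_pi π h7 hCd s₂ hs₂ p hp hpd)).symm
  obtain ⟨g, hg⟩ := cc7_exists_smul s₁ s₂ (by rw [hs₁, hs₂])
  refine ⟨g, ?_⟩
  rw [← hT₁, ← hT₂, ← hg]
  exact MulAction.stabilizer_smul_eq_stabilizer_map_conj g s₁

theorem conj_seven {Ω : Type*} [Finite Ω] (π : Set ℕ) (h7 : Nat.card Ω = 7) (hCd : HS.Cd π 7)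
    (H₁ H₂ : Subgroup (Perm Ω)) (h₁ : Cfsg.IsPiHall π H₁) (h₂ : Cfsg.IsPiHall π H₂)
    (s₁ s₂ : Set Ω) (hs₁ : s₁.ncard = 3) (hs₂ : s₂.ncard = 3)
    (hi₁ : ∀ h ∈ H₁, ∀ x ∈ s₁, h x ∈ s₁) (hi₂ : ∀ h ∈ H₂, ∀ x ∈ s₂, h x ∈ s₂) :
    ∃ g : Perm Ω, H₂ = H₁.map (MulAut.conj g).toMonoidHom := by
  exact cc7_conj π h7 hCd H₁ H₂ h₁ h₂ s₁ s₂ hs₁ hs₂ hi₁ hi₂

end Cfsg.Agent.Lib.Helper45.HA
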