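import Mathlib
import Cfsg.Agent.Lib.Helper45.HADefs
import Cfsg.Agent.Lib.Helper13.HSExist

/-! HALL-ALT piece W8 (project of helper45; S2538/S2535/S2534).
PLACEHOLDER: replace the `sorry`(s) in THIS file; keep theorem names and statements byte-identical;
keep the namespace; auxiliary lemmas go ABOVE the theorems and MUST start with the prefix `w8_`.
Paper proofs: see the note (topic "HALL-ALT"). -/

set_option autoImplicit false

namespace Cfsg.Agent.Lib.Helper45.HA

open Equiv Cfsg.Agent.Lib.Helper13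

theorem w8_mem_image {Ω : Type*} (g : Perm Ω) (B : Set Ω) (x : Ω) :
    x ∈ g '' B ↔ g⁻¹ x ∈ B := by
  constructor
  · rintro ⟨y, hy, rfl⟩
    simpa using hy
  · intro h
    exact ⟨g⁻¹ x, h, by simp⟩

theorem w8_conj_mem {Ω : Type*} (B : Set Ω) (g τ : Perm Ω) (hτ : τ ∈ Wsub B) :
    g * τ * g⁻¹ ∈ Wsub (g '' B) := by
  intro x y
  rw [w8_mem_image, w8_mem_image, w8_mem_image, w8_mem_image]
  have h := hτ (g⁻¹ x) (g⁻¹ y)
  have e : ∀ z : Ω, g⁻¹ ((g * τ * g⁻¹) z) = τ (g⁻¹ z) := by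
    intro z
    simp [Perm.mul_apply]
  rw [e x, e y]
  exact h

open scoped Pointwise in
theorem w8_smul_eq_iff {Ω : Type*} (B : Set Ω) (σ : Perm Ω) :
    σ • B = B ↔ ∀ y, y ∈ B ↔ σ y ∈ B := by
  constructor
  · intro h y
    constructor
    · intro hy
      rw [← h]
      exact ⟨y, hy, rfl⟩
    · intro hy
      rw [← h] at hy
      obtain ⟨z, hz, hzy⟩ := hy
      have e : z = y := σ.injective hzy
      rwa [← e]
  · intro h
    ext x
    constructor
    · rintro ⟨z, hz, rfl⟩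
      exact (h z).1 hz
    · intro hx
      refine ⟨σ⁻¹ x, (h _).2 (by simpa using hx), by simp⟩

theorem w8_exists_pc {Ω : Type*} [Finite Ω] (B : Set Ω) (n : ℕ) (hB : B.ncard = n) :
    ∃ t : Set.powersetCard Ω n, (t : Set Ω) = B := by
  classical
  have hBfin : B.Finite := Set.toFinite B
  refine ⟨⟨hBfin.toFinset, ?_⟩, ?_⟩
  · rw [Set.powersetCard.mem_iff, ← hB]
    exact (Set.ncard_eq_toFinset_card B hBfin).symm
  · ext x
    simp

open scoped Pointwise in
theorem w8_index {Ω : Type*} [Finite Ω] (h8 : Nat.card Ω = 8) (B : Set Ω) (hB : B.ncard = 4) :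
    (Wsub B).index = 35 := by
  classical
  have : Fintype Ω := Fintype.ofFinite Ω
  have hBc : (Bᶜ).ncard = 4 := by
    have h := Set.ncard_add_ncard_compl B
    rw [hB, h8] at h
    omega
  obtain ⟨t, ht⟩ := w8_exists_pc B 4 hB
  obtain ⟨t', ht'⟩ := w8_exists_pc Bᶜ 4 hBc
  have htrans := Set.powersetCard.isPretransitive (α := Ω) (n := 4)
  obtain ⟨τ, hτ⟩ := MulAction.exists_smul_eq (Perm Ω) t t'
  have hτB : τ • B = Bᶜ := by
    rw [← ht', ← ht, ← hτ, ← Set.powersetCard.coe_coe, ← Set.powersetCard.coe_coe,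
      Set.powersetCard.coe_smul, Finset.coe_smul_finset]
  have hQ : ∀ y, y ∈ B ↔ τ y ∉ B := by
    intro y
    have h1 : τ y ∈ τ • B ↔ y ∈ B := Set.smul_mem_smul_set_iff
    rw [hτB] at h1
    exact h1.symm
  have hS : ∀ σ : Perm Ω, σ ∈ MulAction.stabilizer (Perm Ω) t ↔ ∀ y, y ∈ B ↔ σ y ∈ B := by
    intro σ
    rw [Set.powersetCard.stabilizer_coe, MulAction.mem_stabilizer_iff, ht, w8_smul_eq_iff]
  have hSidx : (MulAction.stabilizer (Perm Ω) t).index = 70 := by
    rw [MulAction.index_stabilizer_of_transitive, Set.powersetCard.card, h8]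
    rfl
  have hSW : MulAction.stabilizer (Perm Ω) t ≤ Wsub B := by
    intro σ hσ x y
    rw [← (hS σ).1 hσ x, ← (hS σ).1 hσ y]
  have hτW : τ ∈ Wsub B := by
    intro x y
    rw [hQ x, hQ y, not_iff_not]
  obtain ⟨b, hb⟩ : B.Nonempty := by
    apply Set.nonempty_of_ncard_ne_zero
    rw [hB]
    norm_num
  have hrel : (MulAction.stabilizer (Perm Ω) t).relIndex (Wsub B) = 2 := by
    rw [Subgroup.relIndex_eq_two_iff]
    refine ⟨τ, hτW, fun σ hσ => ?_⟩
    by_cases hσb : σ b ∈ B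
    · have hP : ∀ y, y ∈ B ↔ σ y ∈ B := by
        intro y
        have h := hσ b y
        simp only [hb, hσb, true_iff] at h
        exact h
      refine Or.inr ⟨(hS σ).2 hP, fun hc => ?_⟩
      have h1 := ((hS (σ * τ)).1 hc b).1 hb
      rw [Perm.mul_apply] at h1
      exact (hQ b).1 hb ((hP (τ b)).2 h1)
    · have hQσ : ∀ y, y ∈ B ↔ σ y ∉ B := by
        intro y
        have h := hσ b y
        simp only [hb, hσb, true_iff, false_iff] at h
        exact h
      refine Or.inl ⟨(hS (σ * τ)).2 (fun y => ?_), fun hc => hσb (((hS σ).1 hc b).1 hb)⟩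
      rw [Perm.mul_apply, hQ y, hQσ (τ y), not_not]
  have h1 := Subgroup.relIndex_mul_index hSW
  rw [hrel, hSidx] at h1
  omega

/-- the stabiliser of a partition of 8 points into two 4-sets is a Hall `{2,3}`-subgroup -/
theorem hall8_W {Ω : Type*} [Finite Ω] (π : Set ℕ) (h8 : Nat.card Ω = 8) (hCd : HS.Cd π 8)
    (B : Set Ω) (hB : B.ncard = 4) : Cfsg.IsPiHall π (Wsub B) := by
  have hidx := w8_index h8 B hB
  have hcard : Nat.card (Wsub B) = 1152 := by
    have h1 := (Wsub B).card_mul_index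
    rw [hidx, Nat.card_perm, h8] at h1
    have h2 : Nat.factorial 8 = 1152 * 35 := by decide
    omega
  obtain ⟨-, hπ⟩ := hCd
  refine ⟨?_, ?_⟩
  · intro p hp hdvd
    rw [hcard] at hdvd
    have h23 := HS.exist_prime_dvd_1152 hp hdvd
    exact (hπ p hp (by rcases h23 with rfl | rfl <;> omega)).mpr h23
  · intro p hp hpπ hdvd
    rw [hidx] at hdvd
    have h57 := HS.exist_prime_dvd_35 hp hdvd
    have h23 := (hπ p hp (by rcases h57 with rfl | rfl <;> omega)).mp hpπ
    rcases h57 with rfl | rfl <;> rcases h23 with h | h <;> omega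

theorem wsub_map_conj {Ω : Type*} (B : Set Ω) (g : Perm Ω) :
    (Wsub B).map (MulAut.conj g).toMonoidHom = Wsub (g '' B) := by
  ext σ
  rw [Subgroup.mem_map]
  constructor
  · rintro ⟨τ, hτ, rfl⟩
    exact w8_conj_mem B g τ hτ
  · intro hσ
    refine ⟨g⁻¹ * σ * g, ?_, ?_⟩
    · have h := w8_conj_mem (g '' B) g⁻¹ σ hσ
      have e : (⇑(g⁻¹ : Perm Ω)) '' (g '' B) = B := by
        ext x
        rw [w8_mem_image, w8_mem_image, inv_inv]
        simp
      rw [e, inv_inv] at h
      exact h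
    · show g * (g⁻¹ * σ * g) * g⁻¹ = σ
      group

end Cfsg.Agent.Lib.Helper45.HA
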