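import Mathlib
import Cfsg.Agent.Lib.Helper45.HADefs
import Cfsg.Agent.Lib.Helper45.HAMax
import Cfsg.Agent.Lib.Helper45.HAW8

/-! HALL-ALT piece Conj8 (project of helper45; S2538/S2535/S2534).
Filled in by helper20 (job 2387); it uses the pieces `hall_max` (HAMax) and `hall8_W`,
`wsub_map_conj` (HAW8). Auxiliary lemmas start with the prefix `cc8_`.
Paper proofs: see the note (topic "HALL-ALT"). -/

set_option autoImplicit false

namespace Cfsg.Agent.Lib.Helper45.HA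

open Equiv Cfsg.Agent.Lib.Helper13

open scoped Pointwise in
/-- two sets of the same size are moved to one another by a permutation -/
theorem cc8_exists_image {Ω : Type*} [Finite Ω] (s t : Set Ω) (h : s.ncard = t.ncard) :
    ∃ g : Perm Ω, g '' s = t := by
  classical
  have : Fintype Ω := Fintype.ofFinite Ω
  have hsfin : s.Finite := Set.toFinite s
  have htfin : t.Finite := Set.toFinite t
  obtain ⟨s', hs'⟩ : ∃ s' : Set.powersetCard Ω s.ncard, (s' : Set Ω) = s := by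
    refine ⟨⟨hsfin.toFinset, ?_⟩, ?_⟩
    · rw [Set.powersetCard.mem_iff]; exact (Set.ncard_eq_toFinset_card s hsfin).symm
    · ext x
      simp
  obtain ⟨t', ht'⟩ : ∃ t' : Set.powersetCard Ω s.ncard, (t' : Set Ω) = t := by
    refine ⟨⟨htfin.toFinset, ?_⟩, ?_⟩
    · rw [Set.powersetCard.mem_iff, h]; exact (Set.ncard_eq_toFinset_card t htfin).symm
    · ext x
      simp
  have := Set.powersetCard.isPretransitive (α := Ω) (n := s.ncard)
  obtain ⟨g, hg⟩ := MulAction.exists_smul_eq (Perm Ω) s' t'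
  refine ⟨g, ?_⟩
  rw [← hs', ← ht', ← hg]
  change g • ((s' : Finset Ω) : Set Ω) =
    (((g • s' : Set.powersetCard Ω s.ncard) : Finset Ω) : Set Ω)
  rw [Set.powersetCard.coe_smul, Finset.coe_smul_finset]

theorem conj_eight {Ω : Type*} [Finite Ω] (π : Set ℕ) (h8 : Nat.card Ω = 8) (hCd : HS.Cd π 8)
    (H₁ H₂ : Subgroup (Perm Ω)) (h₁ : Cfsg.IsPiHall π H₁) (h₂ : Cfsg.IsPiHall π H₂)
    (B₁ B₂ : Set Ω) (hB₁ : B₁.ncard = 4) (hB₂ : B₂.ncard = 4)
    (hi₁ : H₁ ≤ Wsub B₁) (hi₂ : H₂ ≤ Wsub B₂) :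
    ∃ g : Perm Ω, H₂ = H₁.map (MulAut.conj g).toMonoidHom := by
  have e₁ : Wsub B₁ = H₁ := hall_max π H₁ (Wsub B₁) h₁ hi₁ (hall8_W π h8 hCd B₁ hB₁).1
  have e₂ : Wsub B₂ = H₂ := hall_max π H₂ (Wsub B₂) h₂ hi₂ (hall8_W π h8 hCd B₂ hB₂).1
  obtain ⟨g, hg⟩ := cc8_exists_image B₁ B₂ (hB₁.trans hB₂.symm)
  refine ⟨g, ?_⟩
  rw [← e₁, ← e₂, wsub_map_conj, hg]

end Cfsg.Agent.Lib.Helper45.HA
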