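import Mathlib
import Cfsg.Agent.Lib.Helper45.HADefs
import Cfsg.Agent.Lib.Helper45.HAMax

/-! HALL-ALT piece ConjCc (project of helper45; S2538/S2535/S2534).
PLACEHOLDER: replace the `sorry`(s) in THIS file; keep theorem names and statements byte-identical;
keep the namespace; auxiliary lemmas go ABOVE the theorems and MUST start with the prefix `ccc_`.
Paper proofs: see the note (topic "HALL-ALT"). -/

set_option autoImplicit false

namespace Cfsg.Agent.Lib.Helper45.HA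

open Equiv Cfsg.Agent.Lib.Helper13

/-- the order of a point stabilizer in the symmetric group -/
theorem ccc_card_stab {Ω : Type*} [Finite Ω] (ω : Ω) :
    Nat.card (MulAction.stabilizer (Perm Ω) ω) * Nat.card Ω = (Nat.card Ω).factorial := by
  have h1 := Subgroup.card_mul_index (MulAction.stabilizer (Perm Ω) ω)
  rw [MulAction.index_stabilizer_of_transitive, Nat.card_perm] at h1
  exact h1

/-- under `Cc`, a Hall `π`-subgroup fixing a point is the stabilizer of that point -/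
theorem ccc_eq_stab {Ω : Type*} [Finite Ω] (π : Set ℕ) (hCc : HS.Cc π (Nat.card Ω))
    (H : Subgroup (Perm Ω)) (h : Cfsg.IsPiHall π H) (ω : Ω)
    (hω : ∀ h ∈ H, h ω = ω) : MulAction.stabilizer (Perm Ω) ω = H := by
  apply hall_max π H _ h
  · intro x hx
    exact MulAction.mem_stabilizer_iff.2 (hω x hx)
  · intro p hp hdvd
    have hN : 0 < Nat.card Ω := hCc.1.pos
    have h1 := ccc_card_stab ω
    obtain ⟨m, hm⟩ : ∃ m, Nat.card Ω = m + 1 := ⟨Nat.card Ω - 1, by omega⟩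
    rw [hm, Nat.factorial_succ, mul_comm] at h1
    have h2 : Nat.card (MulAction.stabilizer (Perm Ω) ω) = m.factorial :=
      Nat.eq_of_mul_eq_mul_left (Nat.succ_pos m) h1
    rw [h2] at hdvd
    have h3 : p ≤ m := (Nat.Prime.dvd_factorial hp).1 hdvd
    exact (hCc.2 p hp (by omega)).2 (by omega)

theorem conj_cc {Ω : Type*} [Finite Ω] (π : Set ℕ) (hCc : HS.Cc π (Nat.card Ω))
    (H₁ H₂ : Subgroup (Perm Ω)) (h₁ : Cfsg.IsPiHall π H₁) (h₂ : Cfsg.IsPiHall π H₂) (ω₁ ω₂ : Ω)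
    (hω₁ : ∀ h ∈ H₁, h ω₁ = ω₁) (hω₂ : ∀ h ∈ H₂, h ω₂ = ω₂) :
    ∃ g : Perm Ω, H₂ = H₁.map (MulAut.conj g).toMonoidHom := by
  classical
  have e1 := ccc_eq_stab π hCc H₁ h₁ ω₁ hω₁
  have e2 := ccc_eq_stab π hCc H₂ h₂ ω₂ hω₂
  refine ⟨Equiv.swap ω₁ ω₂, ?_⟩
  rw [← e1, ← e2, ← MulAction.stabilizer_smul_eq_stabilizer_map_conj]
  congr 1
  simp
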