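import Mathlib
import Cfsg.Agent.Lib.Helper45.HADefs
import Cfsg.Agent.Lib.Helper13.HSMain
import Cfsg.Agent.Lib.Helper45.HABlock8
import Cfsg.Agent.Lib.Helper13.HAStruct8

/-! HALL-ALT piece Eight (project of helper45; S2538/S2535/S2534).
PLACEHOLDER: replace the `sorry`(s) in THIS file; keep theorem names and statements byte-identical;
keep the namespace; auxiliary lemmas go ABOVE the theorems and MUST start with the prefix `s8_`.
Paper proofs: see the note (topic "HALL-ALT"). -/

set_option autoImplicit false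

namespace Cfsg.Agent.Lib.Helper45.HA

open Equiv Cfsg.Agent.Lib.Helper13

open scoped Pointwise in
/-- helper13's `blockPair B` (stabiliser of the pair `{B, Bᶜ}`) is contained in `Wsub B` -/
theorem s8_blockPair_le_Wsub {Ω : Type} (B : Set Ω) :
    Cfsg.Agent.Lib.Helper13.HA.blockPair B ≤ Wsub B := by
  intro g hg
  rw [Cfsg.Agent.Lib.Helper13.HA.mem_blockPair] at hg
  rw [mem_Wsub]
  intro x y
  have key : ∀ z : Ω, g z ∈ g • B ↔ z ∈ B := fun z => by
    have h := Set.smul_mem_smul_set_iff (a := g) (s := B) (x := z)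
    rwa [Perm.smul_def] at h
  rcases hg with h | h
  · rw [h] at key
    rw [key x, key y]
  · rw [h] at key
    have kx := key x
    have ky := key y
    simp only [Set.mem_compl_iff] at kx ky
    tauto

/-- a Hall `{2,3}`-subgroup of the symmetric group of degree 8 preserves a partition into two
4-sets -/
theorem hall8_structure (Ω : Type) [Finite Ω] (π : Set ℕ) (h8 : Nat.card Ω = 8)
    (hCd : HS.Cd π 8) (H : Subgroup (Perm Ω)) (hH : Cfsg.IsPiHall π H) :
    ∃ B : Set Ω, B.ncard = 4 ∧ H ≤ Wsub B := by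
  obtain ⟨B, hB, hle⟩ := Cfsg.Agent.Lib.Helper13.HA.struct8 π h8 hCd H (Or.inl hH)
  exact ⟨B, hB, hle.trans (s8_blockPair_le_Wsub B)⟩

end Cfsg.Agent.Lib.Helper45.HA
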