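import Mathlib
import Cfsg.Agent.Lib.Helper45.HADefs
import Cfsg.Agent.Lib.Helper23.PrimeDeg

/-! HALL-ALT piece Gal (project of helper45; S2538/S2535/S2534).
PLACEHOLDER: replace the `sorry`(s) in THIS file; keep theorem names and statements byte-identical;
keep the namespace; auxiliary lemmas go ABOVE the theorems and MUST start with the prefix `gal_`.
Paper proofs: see the note (topic "HALL-ALT"). -/

set_option autoImplicit false

namespace Cfsg.Agent.Lib.Helper45.HA

open Equiv Cfsg.Agent.Lib.Helper13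

/-- abstract version: solvable faithful transitive group of prime degree, two involutions in a
point stabiliser coincide -/
theorem gal_core {G : Type*} [Group G] [Finite G] {Ω : Type*} [Finite Ω] [MulAction G Ω]
    [FaithfulSMul G Ω] (hp : (Nat.card Ω).Prime) [MulAction.IsPretransitive G Ω]
    (hsolv : Group.IsSolvable G) (ω : Ω) (g g' : G) (hgω : g • ω = ω) (hg'ω : g' • ω = ω)
    (hg2 : g * g = 1) (hg'2 : g' * g' = 1) (hg1 : g ≠ 1) (hg'1 : g' ≠ 1) : g = g' := by
  -- G is nontrivial
  have hnt : Nontrivial G := by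
    have h1 : 1 < Nat.card Ω := hp.one_lt
    have : Nontrivial Ω := Finite.one_lt_card_iff_nontrivial.mp h1
    obtain ⟨x, y, hxy⟩ := exists_pair_ne Ω
    obtain ⟨k, hk⟩ := MulAction.exists_smul_eq G x y
    refine ⟨⟨k, 1, ?_⟩⟩
    rintro rfl
    exact hxy (by rw [← hk, one_smul])
  -- last nontrivial term of the derived series
  obtain ⟨n, hn⟩ := hsolv.solvable
  classical
  have hex : ∃ n, derivedSeries G n = ⊥ := ⟨n, hn⟩
  have hm : derivedSeries G (Nat.find hex) = ⊥ := Nat.find_spec hex
  have hm0 : Nat.find hex ≠ 0 := by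
    intro h0
    rw [h0, derivedSeries_zero] at hm
    exact top_ne_bot hm
  obtain ⟨k, hk⟩ := Nat.exists_eq_succ_of_ne_zero hm0
  have hDne : derivedSeries G k ≠ ⊥ := Nat.find_min hex (by omega)
  have hDD : ⁅derivedSeries G k, derivedSeries G k⁆ = ⊥ := by
    rw [hk] at hm
    exact hm
  have hDn : (derivedSeries G k).Normal := derivedSeries_normal G k
  obtain ⟨D, hD⟩ : ∃ D : Subgroup G, D = derivedSeries G k := ⟨_, rfl⟩
  rw [← hD] at hDne hDD hDn
  have hcomm : ∀ a ∈ D, ∀ b ∈ D, a * b = b * a := by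
    intro a ha b hb
    have := (Subgroup.commutator_eq_bot_iff_le_centralizer.mp hDD) ha
    rw [Subgroup.mem_centralizer_iff] at this
    exact (this b hb).symm
  -- D is transitive
  have hDtr : MulAction.IsPretransitive D Ω :=
    Cfsg.Agent.Lib.Helper23.normal_pretransitive_of_prime_card hp D hDne
  have htrD : ∀ x y : Ω, ∃ d ∈ D, d • x = y := by
    intro x y
    obtain ⟨e, he⟩ := MulAction.exists_smul_eq D x y
    exact ⟨e.1, e.2, he⟩
  -- D is regular
  have hreg : ∀ d ∈ D, ∀ x : Ω, d • x = x → d = 1 := by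
    intro d hd x hx
    apply FaithfulSMul.eq_of_smul_eq_smul (α := Ω)
    intro y
    rw [one_smul]
    obtain ⟨e, he, hey⟩ := htrD x y
    rw [← hey, ← mul_smul, hcomm d hd e he, mul_smul, hx]
  -- card D = p
  have hcard : Nat.card D = Nat.card Ω := by
    apply Nat.card_eq_of_bijective (fun d : D => (d : G) • ω)
    constructor
    · intro d e hde
      have h1 : ((e : G)⁻¹ * (d : G)) • ω = ω := by
        rw [mul_smul]
        change (d : G) • ω = (e : G) • ω at hde
        rw [hde, inv_smul_smul]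
      have h2 := hreg _ (D.mul_mem (D.inv_mem e.2) d.2) ω h1
      apply Subtype.ext
      rw [inv_mul_eq_one] at h2
      exact h2.symm
    · intro y
      obtain ⟨d, hd, hdy⟩ := htrD ω y
      exact ⟨⟨d, hd⟩, hdy⟩
  -- an element fixing ω and centralising D is trivial
  have hcent : ∀ c : G, c • ω = ω → (∀ d ∈ D, c * d = d * c) → c = 1 := by
    intro c hc hcd
    apply FaithfulSMul.eq_of_smul_eq_smul (α := Ω)
    intro y
    rw [one_smul]
    obtain ⟨d, hd, hdy⟩ := htrD ω y
    rw [← hdy, ← mul_smul, hcd d hd, mul_smul, hc]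
  -- a nontrivial element fixing ω commutes with no nontrivial element of D
  have hfree : ∀ c : G, c • ω = ω → c ≠ 1 → ∀ d ∈ D, c * d = d * c → d = 1 := by
    intro c hc hc1 d hd hcd
    let C : Subgroup G := D ⊓ Subgroup.centralizer {c}
    have hCD : C ≤ D := inf_le_left
    have hdvd : Nat.card C ∣ Nat.card Ω := hcard ▸ Subgroup.card_dvd_of_le hCD
    rcases (Nat.dvd_prime hp).mp hdvd with h1 | h1
    · have hCbot : C = ⊥ := Subgroup.eq_bot_of_card_eq C h1
      have hdC : d ∈ C := by
        refine Subgroup.mem_inf.mpr ⟨hd, ?_⟩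
        rw [Subgroup.mem_centralizer_iff]
        intro x hx
        rw [Set.mem_singleton_iff] at hx
        rw [hx]
        exact hcd
      rw [hCbot, Subgroup.mem_bot] at hdC
      exact hdC
    · exfalso
      apply hc1
      have hCeq : C = D := Subgroup.eq_of_le_of_card_ge hCD (by rw [h1, hcard])
      apply hcent c hc
      intro e he
      have heC : e ∈ C := hCeq ▸ he
      have := (Subgroup.mem_inf.mp heC).2
      rw [Subgroup.mem_centralizer_iff] at this
      exact this c rfl
  -- involutions fixing ω invert D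
  have hinv : ∀ c : G, c • ω = ω → c ≠ 1 → c * c = 1 → ∀ d ∈ D, c * d * c⁻¹ = d⁻¹ := by
    intro c hc hc1 hc2 d hd
    have hci : c⁻¹ = c := inv_eq_of_mul_eq_one_left hc2
    have hcd : c * d * c⁻¹ ∈ D := hDn.conj_mem d hd c
    have he : d * (c * d * c⁻¹) ∈ D := D.mul_mem hd hcd
    have hce : c * (d * (c * d * c⁻¹)) = d * (c * d * c⁻¹) * c := by
      have h1 : c * (d * (c * d * c⁻¹)) * c⁻¹ = (c * d * c⁻¹) * d := by
        rw [hci]
        have : c * (d * (c * d * c)) * c = c * d * c * d * (c * c) := by group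
        rw [this, hc2, mul_one]
      have h2 : (c * d * c⁻¹) * d = d * (c * d * c⁻¹) := hcomm _ hcd d hd
      rw [h2] at h1
      have := congrArg (· * c) h1
      simpa using this
    have h1 := hfree c hc hc1 _ he hce
    exact (eq_inv_of_mul_eq_one_right h1)
  -- conclusion
  have hgg' : g * g' = 1 := by
    apply hcent (g * g') (by rw [mul_smul, hg'ω, hgω])
    intro d hd
    have h1 := hinv g' hg'ω hg'1 hg'2 d hd
    have h2 := hinv g hgω hg1 hg2 d⁻¹ (D.inv_mem hd)
    rw [inv_inv] at h2
    have h3 : g * g' * d * (g * g')⁻¹ = d := by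
      have : g * g' * d * (g * g')⁻¹ = g * (g' * d * g'⁻¹) * g⁻¹ := by group
      rw [this, h1, h2]
    exact mul_inv_eq_iff_eq_mul.mp h3
  have hgi : g⁻¹ = g := inv_eq_of_mul_eq_one_left hg2
  rw [← hgi]
  exact (inv_eq_of_mul_eq_one_right hgg').symm ▸ rfl

/-- Galois: in a solvable transitive group of prime degree a point stabiliser contains at most
one involution -/
theorem gal_invol {Ω : Type*} [Finite Ω] (K : Subgroup (Perm Ω)) (hp : (Nat.card Ω).Prime)
    (htr : MulAction.IsPretransitive ↥K Ω) (hsolv : Group.IsSolvable ↥K) (ω : Ω)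
    (g g' : Perm Ω) (hg : g ∈ K) (hg' : g' ∈ K) (hgω : g ω = ω) (hg'ω : g' ω = ω)
    (hg2 : g * g = 1) (hg'2 : g' * g' = 1) (hg1 : g ≠ 1) (hg'1 : g' ≠ 1) : g = g' := by
  have h := gal_core (G := ↥K) (Ω := Ω) hp hsolv ω ⟨g, hg⟩ ⟨g', hg'⟩ hgω hg'ω
    (Subtype.ext hg2) (Subtype.ext hg'2) (fun h => hg1 (congrArg Subtype.val h))
    (fun h => hg'1 (congrArg Subtype.val h))
  exact congrArg Subtype.val h

end Cfsg.Agent.Lib.Helper45.HA
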