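import Mathlib
import Cfsg.Agent.Lib.Helper45.HADefs

/-! HALL-ALT piece Inter (project of helper45; S2538/S2535/S2534).
PLACEHOLDER: replace the `sorry`(s) in THIS file; keep theorem names and statements byte-identical;
keep the namespace; auxiliary lemmas go ABOVE the theorems and MUST start with the prefix `inter_`.
Paper proofs: see the note (topic "HALL-ALT"). -/

set_option autoImplicit false

namespace Cfsg.Agent.Lib.Helper45.HA

open Equiv Cfsg.Agent.Lib.Helper13

/-- for `A` normal in a finite group, `|A : M ∩ A|` divides `|G : M|` -/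
theorem inter_relIndex_dvd_index {G : Type*} [Group G] [Finite G] (A M : Subgroup G)
    [A.Normal] : M.relIndex A ∣ M.index := by
  have h1 : (M ⊓ A).relIndex A * A.index = (M ⊓ A).index :=
    Subgroup.relIndex_mul_index inf_le_right
  have h2 : (M ⊓ A).relIndex M * M.index = (M ⊓ A).index :=
    Subgroup.relIndex_mul_index inf_le_left
  have h3 : (M ⊓ A).relIndex A = M.relIndex A := Subgroup.inf_relIndex_right M A
  have h4 : (M ⊓ A).relIndex M = A.relIndex M := Subgroup.inf_relIndex_left M A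
  have h5 : A.relIndex (M ⊔ A) = A.relIndex M := Subgroup.relIndex_sup_right M A
  have h6 : A.relIndex (M ⊔ A) * (M ⊔ A).index = A.index :=
    Subgroup.relIndex_mul_index le_sup_right
  have h0 : A.relIndex M ≠ 0 := by
    have : (A.subgroupOf M).index ≠ 0 := Subgroup.index_ne_zero_of_finite
    exact this
  rw [h3] at h1
  rw [h4] at h2
  rw [h5] at h6
  have key : A.relIndex M * (M.relIndex A * (M ⊔ A).index) = A.relIndex M * M.index := by
    rw [h2, ← h1, ← h6]; ring
  exact ⟨(M ⊔ A).index, (Nat.eq_of_mul_eq_mul_left (Nat.pos_of_ne_zero h0) key).symm⟩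

/-- a Hall `π`-subgroup meets a normal subgroup in a Hall `π`-subgroup of it -/
theorem hall_inter_normal {G : Type*} [Group G] [Finite G] (π : Set ℕ) (A M₀ : Subgroup G)
    [A.Normal] (h : Cfsg.IsPiHall π M₀) : Cfsg.IsPiHallOf π (M₀ ⊓ A) A := by
  refine ⟨inf_le_right, ?_, ?_⟩
  · intro p hp hdvd
    exact h.1 p hp (hdvd.trans (Subgroup.card_dvd_of_le inf_le_left))
  · intro p hp hpπ hdvd
    apply h.2 p hp hpπ
    rw [Subgroup.inf_relIndex_right] at hdvd
    exact hdvd.trans (inter_relIndex_dvd_index A M₀)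

theorem conj_inf_normal {G : Type*} [Group G] (A M : Subgroup G) [A.Normal] (g : G) :
    (M.map (MulAut.conj g).toMonoidHom) ⊓ A = (M ⊓ A).map (MulAut.conj g).toMonoidHom := by
  ext x
  simp only [Subgroup.mem_inf, Subgroup.mem_map, MulEquiv.coe_toMonoidHom, MulAut.conj_apply]
  constructor
  · rintro ⟨⟨y, hy, rfl⟩, hA⟩
    refine ⟨y, ⟨hy, ?_⟩, rfl⟩
    have := ‹A.Normal›.conj_mem _ hA g⁻¹
    simpa [mul_assoc] using this
  · rintro ⟨y, ⟨hy, hA⟩, rfl⟩
    exact ⟨⟨y, hy, rfl⟩, ‹A.Normal›.conj_mem _ hA g⟩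

end Cfsg.Agent.Lib.Helper45.HA
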