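import Mathlib
import Cfsg.Agent.Lib.Helper45.HADefs

/-! HALL-ALT piece NoIdx (project of helper45; S2538/S2535/S2534).
PLACEHOLDER: replace the `sorry`(s) in THIS file; keep theorem names and statements byte-identical;
keep the namespace; auxiliary lemmas go ABOVE the theorems and MUST start with the prefix `noidx_`.
Paper proofs: see the note (topic "HALL-ALT"). -/

set_option autoImplicit false
set_option linter.style.haveILetI false
set_option linter.unusedVariables false

namespace Cfsg.Agent.Lib.Helper45.HA

open Equiv Cfsg.Agent.Lib.Helper13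

/-- a proper subgroup of a finite simple group `G` has index `m` with `|G| ∣ m!` -/
theorem noidx_card_dvd_factorial {G : Type*} [Group G] [Finite G] [IsSimpleGroup G]
    (H : Subgroup G) (h1 : H.index ≠ 1) : Nat.card G ∣ (H.index).factorial := by
  classical
  have hker : (MulAction.toPermHom G (G ⧸ H)).ker = ⊥ := by
    rcases (MonoidHom.normal_ker (MulAction.toPermHom G (G ⧸ H))).eq_bot_or_eq_top with h | h
    · exact h
    · exfalso
      apply h1
      rw [Subgroup.index_eq_one]
      have h2 : H.normalCore = ⊤ := by rw [Subgroup.normalCore_eq_ker]; exact h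
      exact top_unique (h2 ▸ Subgroup.normalCore_le H)
  have hinj : Function.Injective (MulAction.toPermHom G (G ⧸ H)) :=
    (MonoidHom.ker_eq_bot_iff _).mp hker
  have hdvd := Subgroup.card_dvd_of_injective _ hinj
  rw [Nat.card_perm] at hdvd
  exact hdvd

/-- a proper subgroup of the alternating group of degree `n ≥ 5` has index at least `n` -/
theorem alt_index_ge {Ω : Type*} [Finite Ω] (h5 : 5 ≤ Nat.card Ω) (K : Subgroup (Perm Ω))
    (hK : K ≤ altG Ω) (h1 : K.relIndex (altG Ω) ≠ 1) : Nat.card Ω ≤ K.relIndex (altG Ω) := by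
  classical
  haveI : Fintype Ω := Fintype.ofFinite Ω
  rw [altG_eq] at hK h1 ⊢
  haveI : IsSimpleGroup ↥(alternatingGroup Ω) := alternatingGroup.isSimpleGroup h5
  haveI : Nontrivial Ω := by
    apply (Finite.one_lt_card_iff_nontrivial).mp
    omega
  have hdvd := noidx_card_dvd_factorial (K.subgroupOf (alternatingGroup Ω)) h1
  change Nat.card ↥(alternatingGroup Ω) ∣ (K.relIndex (alternatingGroup Ω)).factorial at hdvd
  by_contra hlt
  rw [not_le] at hlt
  set m := K.relIndex (alternatingGroup Ω) with hm
  set N := Nat.card Ω with hN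
  have h2 : 2 * Nat.card ↥(alternatingGroup Ω) = N.factorial := by
    rw [two_mul_nat_card_alternatingGroup, Nat.card_perm]
  have h3 : m.factorial ∣ (N - 1).factorial := Nat.factorial_dvd_factorial (by omega)
  have h4 : Nat.card ↥(alternatingGroup Ω) ∣ (N - 1).factorial := hdvd.trans h3
  have h5' : Nat.card ↥(alternatingGroup Ω) ≤ (N - 1).factorial :=
    Nat.le_of_dvd (Nat.factorial_pos _) h4
  have h6 : N.factorial = N * (N - 1).factorial := by
    obtain ⟨k, hk⟩ : ∃ k, N = k + 1 := ⟨N - 1, by omega⟩
    rw [hk, Nat.factorial_succ]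
    simp
  have h7 : 0 < (N - 1).factorial := Nat.factorial_pos _
  nlinarith

end Cfsg.Agent.Lib.Helper45.HA
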