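import Mathlib
import Cfsg.Agent.Lib.Helper45.HADefs

/-! HALL-ALT piece Odd (project of helper45; S2538/S2535/S2534).
PLACEHOLDER: replace the `sorry`(s) in THIS file; keep theorem names and statements byte-identical;
keep the namespace; auxiliary lemmas go ABOVE the theorems and MUST start with the prefix `odd_`.
Paper proofs: see the note (topic "HALL-ALT"). -/

set_option autoImplicit false

namespace Cfsg.Agent.Lib.Helper45.HA

open Equiv Cfsg.Agent.Lib.Helper13

theorem odd_index_dvd (Ω : Type*) [Finite Ω] : (altG Ω).index ∣ 2 := by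
  classical
  letI : Fintype Ω := Fintype.ofFinite Ω
  rw [altG_eq, alternatingGroup_eq_sign_ker, Subgroup.index_ker]
  have h := Subgroup.card_subgroup_dvd_card (Equiv.Perm.sign (α := Ω)).range
  have h2 : Nat.card ℤˣ = 2 := by
    rw [Nat.card_eq_fintype_card]
    rfl
  rwa [h2] at h

/-- for `2 ∉ π` a Hall `π`-subgroup of the alternating group is Hall in the symmetric group -/
theorem hall_of_hallA_odd {Ω : Type*} [Finite Ω] (π : Set ℕ) (K : Subgroup (Perm Ω))
    (h2 : 2 ∉ π) (hK : Cfsg.IsPiHallOf π K (altG Ω)) : Cfsg.IsPiHall π K := by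
  obtain ⟨hle, h1, h3⟩ := hK
  refine ⟨h1, fun p hp hpπ hdvd => ?_⟩
  rw [← Subgroup.relIndex_mul_index hle] at hdvd
  rcases (Nat.Prime.dvd_mul hp).1 hdvd with h | h
  · exact h3 p hp hpπ h
  · have h4 : p ∣ 2 := dvd_trans h (odd_index_dvd Ω)
    have h5 : p = 2 := (Nat.prime_dvd_prime_iff_eq hp Nat.prime_two).1 h4
    exact h2 (h5 ▸ hpπ)

theorem lift_of_two_notin {Ω : Type*} [Finite Ω] (π : Set ℕ) (K : Subgroup (Perm Ω))
    (h2 : 2 ∉ π) (hK : Cfsg.IsPiHallOf π K (altG Ω)) : Lift π K :=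
  ⟨K, hall_of_hallA_odd π K h2 hK, inf_eq_left.2 hK.1⟩

end Cfsg.Agent.Lib.Helper45.HA
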