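import Mathlib
import Cfsg.Agent.Lib.Helper45.HADefs

/-! HALL-ALT piece Primes (project of helper45; S2538/S2535/S2534).
PLACEHOLDER: replace the `sorry`(s) in THIS file; keep theorem names and statements byte-identical;
keep the namespace; auxiliary lemmas go ABOVE the theorems and MUST start with the prefix `pr_`.
Paper proofs: see the note (topic "HALL-ALT"). -/

set_option autoImplicit false

namespace Cfsg.Agent.Lib.Helper45.HA

open Equiv Cfsg.Agent.Lib.Helper13

theorem two_mul_card_altG {Ω : Type*} [Finite Ω] (h : 2 ≤ Nat.card Ω) :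
    2 * Nat.card (altG Ω) = (Nat.card Ω).factorial := by
  sorry

theorem prime_dvd_card_altG_le {Ω : Type*} [Finite Ω] (r : ℕ) (hr : r.Prime)
    (h : r ∣ Nat.card (altG Ω)) : r ≤ Nat.card Ω := by
  sorry

theorem prime_dvd_card_altG {Ω : Type*} [Finite Ω] (r : ℕ) (hr : r.Prime) (hle : r ≤ Nat.card Ω)
    (h : r ≠ 2 ∨ 4 ≤ Nat.card Ω) : r ∣ Nat.card (altG Ω) := by
  sorry

theorem index_altG {Ω : Type*} [Finite Ω] (h : 2 ≤ Nat.card Ω) : (altG Ω).index = 2 := by
  sorry

theorem altG_eq_top {Ω : Type*} [Finite Ω] (h : Nat.card Ω ≤ 1) : altG Ω = ⊤ := by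
  sorry

end Cfsg.Agent.Lib.Helper45.HA
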