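import Mathlib
import Cfsg.Agent.Lib.Helper45.HADefs
import Cfsg.Agent.Lib.Helper13.HSMain
import Cfsg.Agent.Lib.Helper45.HAOdd
import Cfsg.Agent.Lib.Helper45.HAPrimes

/-! HALL-ALT piece OddPi (project of helper45; S2538/S2535/S2534).
PLACEHOLDER: replace the `sorry`(s) in THIS file; keep theorem names and statements byte-identical;
keep the namespace; auxiliary lemmas go ABOVE the theorems and MUST start with the prefix `op_`.
Paper proofs: see the note (topic "HALL-ALT"). -/

set_option autoImplicit false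

namespace Cfsg.Agent.Lib.Helper45.HA

open Equiv Cfsg.Agent.Lib.Helper13

/-- for `2 ∉ π`, if the alternating group has a Hall `π`-subgroup then at most one prime of `π`
divides its order -/
theorem odd_single (Ω : Type) [Finite Ω] (π : Set ℕ) (h2 : 2 ∉ π) (K : Subgroup (Perm Ω))
    (hK : Cfsg.IsPiHallOf π K (altG Ω)) :
    ∀ r s : ℕ, r.Prime → s.Prime → r ∈ π → s ∈ π → r ∣ Nat.card (altG Ω) →
      s ∣ Nat.card (altG Ω) → r = s := by
  intro r s hr hs hrπ hsπ hrd hsd
  by_contra hne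
  have hKS : Cfsg.IsPiHall π K := hall_of_hallA_odd π K h2 hK
  have hrle : r ≤ Nat.card Ω := prime_dvd_card_altG_le r hr hrd
  have hsle : s ≤ Nat.card Ω := prime_dvd_card_altG_le s hs hsd
  have hA1 : HS.A1 π (Nat.card Ω) := ⟨r, s, hr, hs, hne, hrπ, hsπ, hrle, hsle⟩
  have h2le : 2 ≤ Nat.card Ω := le_trans hr.two_le hrle
  have hA2 : HS.A2 π (Nat.card Ω) := ⟨2, Nat.prime_two, h2le, h2⟩
  have h3 : 3 ≤ Nat.card Ω := by
    have h1 := hr.two_le
    have h1' := hs.two_le
    omega
  rcases HS.classify π (Nat.card Ω) Ω K rfl hKS hA1 hA2 with ⟨hCc, _⟩ | hCd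
  · exact h2 ((hCc.2 2 Nat.prime_two h2le).2 (by omega))
  · exact h2 ((hCd.2 2 Nat.prime_two h2le).2 (Or.inl rfl))

end Cfsg.Agent.Lib.Helper45.HA
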