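import Mathlib
import Cfsg.Agent.Lib.Helper45.HADefs
import Cfsg.Agent.Lib.Helper13.HSPoint

/-! HALL-ALT piece Point (project of helper45; S2538/S2535/S2534).
PLACEHOLDER: replace the `sorry`(s) in THIS file; keep theorem names and statements byte-identical;
keep the namespace; auxiliary lemmas go ABOVE the theorems and MUST start with the prefix `pt_`.
Paper proofs: see the note (topic "HALL-ALT"). -/

set_option autoImplicit false

namespace Cfsg.Agent.Lib.Helper45.HA

open Equiv Cfsg.Agent.Lib.Helper13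

theorem pt_card_relIndex {G : Type*} [Group G] (H M : Subgroup G) (h : H ≤ M) :
    Nat.card H * H.relIndex M = Nat.card M := by
  have h1 := (H.subgroupOf M).card_mul_index
  rw [Nat.card_congr (Subgroup.subgroupOfEquivOfLe h).toEquiv] at h1
  exact h1

theorem pt_card_compl {Ω : Type*} [Finite Ω] (ω : Ω) :
    Nat.card ↥({ω}ᶜ : Set Ω) + 1 = Nat.card Ω := by
  have h1 := Set.ncard_add_ncard_compl ({ω} : Set Ω)
  rw [Set.ncard_singleton] at h1
  rw [Nat.card_coe_set_eq]
  omega

/-- point stabiliser of a transitive Hall `π`-subgroup of the alternating group -/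
theorem hallA_point {Ω : Type*} [Finite Ω] (π : Set ℕ) (K : Subgroup (Perm Ω))
    (hK : Cfsg.IsPiHallOf π K (altG Ω)) (htr : MulAction.IsPretransitive ↥K Ω)
    (ω : Ω) :
    Cfsg.IsPiHallOf π (HS.restr K ({ω}ᶜ : Set Ω)) (altG ↥({ω}ᶜ : Set Ω)) ∧
      (∀ p : ℕ, p.Prime → p ∣ Nat.card Ω → p ∈ π) ∧
      Nat.card K = Nat.card Ω * Nat.card (HS.restr K ({ω}ᶜ : Set Ω)) := by
  classical
  haveI := htr
  haveI := Fintype.ofFinite Ω
  have hne : Nonempty Ω := ⟨ω⟩
  let f : Perm ↥({ω}ᶜ : Set Ω) →* Perm Ω := Equiv.Perm.ofSubtype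
  have hf : Function.Injective f := Equiv.Perm.ofSubtype_injective
  have hmem : ∀ x : Ω, x ∈ ({ω}ᶜ : Set Ω) ↔ x ≠ ω := fun x => by simp
  -- `restr` is the preimage of `K` under extension by the identity
  have hrestr : HS.restr K ({ω}ᶜ : Set Ω) = K.comap f := by
    ext σ
    rw [HS.mem_restr, Subgroup.mem_comap]
    constructor
    · rintro ⟨h, hh, hσ⟩
      have hfh : f σ = h := by
        ext x
        by_cases hx : x ∈ ({ω}ᶜ : Set Ω)
        · have h1 := hσ ⟨x, hx⟩
          show Equiv.Perm.ofSubtype σ x = h x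
          rw [Equiv.Perm.ofSubtype_apply_of_mem σ hx]
          exact h1.symm
        · show Equiv.Perm.ofSubtype σ x = h x
          rw [Equiv.Perm.ofSubtype_apply_of_not_mem σ hx]
          by_contra hne'
          have hxω : x = ω := by
            by_contra hxω
            exact hx ((hmem x).mpr hxω)
          have hz : h x ∈ ({ω}ᶜ : Set Ω) := by
            rw [hmem]
            intro e
            apply hne'
            rw [e, hxω]
          obtain ⟨y, hy⟩ := σ.surjective ⟨h x, hz⟩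
          have h1 := hσ y
          rw [hy] at h1
          have h2 : (y : Ω) = x := h.injective h1
          exact hx (h2 ▸ y.2)
      rw [hfh]
      exact hh
    · intro h
      exact ⟨f σ, h, fun y => Equiv.Perm.ofSubtype_apply_coe σ y⟩
  -- the range of `f` is the stabiliser of `ω`
  have hrange : f.range = MulAction.stabilizer (Perm Ω) ω := by
    ext g
    rw [MonoidHom.mem_range, MulAction.mem_stabilizer_iff]
    constructor
    · rintro ⟨σ, rfl⟩
      show Equiv.Perm.ofSubtype σ ω = ω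
      exact Equiv.Perm.ofSubtype_apply_of_not_mem σ (by simp)
    · intro hg
      have hg' : g ω = ω := hg
      have h1 : ∀ x, g x ∈ ({ω}ᶜ : Set Ω) ↔ x ∈ ({ω}ᶜ : Set Ω) := by
        intro x
        rw [hmem, hmem]
        constructor
        · intro hx e
          apply hx
          rw [e, hg']
        · intro hx e
          apply hx
          apply g.injective
          rw [e, hg']
      refine ⟨g.subtypePerm h1, ?_⟩
      apply Equiv.Perm.ofSubtype_subtypePerm
      intro x hx
      rw [hmem]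
      intro e
      apply hx
      rw [e, hg']
  -- cardinalities
  have hstab : Nat.card (MulAction.stabilizer ↥K ω) =
      Nat.card (HS.restr K ({ω}ᶜ : Set Ω)) := by
    rw [hrestr, ← Subgroup.card_map_of_injective hf (K := K.comap f), Subgroup.map_comap_eq,
      hrange]
    have h5 : (MulAction.stabilizer (Perm Ω) ω).subgroupOf K = MulAction.stabilizer ↥K ω := by
      ext x
      rfl
    rw [← h5, ← Subgroup.inf_subgroupOf_right]
    exact Nat.card_congr (Subgroup.subgroupOfEquivOfLe inf_le_right).toEquiv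
  have hcard : Nat.card K = Nat.card Ω * Nat.card (HS.restr K ({ω}ᶜ : Set Ω)) := by
    have h1 := (MulAction.stabilizer ↥K ω).card_mul_index
    rw [MulAction.index_stabilizer_of_transitive ↥K ω, hstab] at h1
    rw [← h1, mul_comm]
  have hΩ : Nat.card Ω ∣ Nat.card K := ⟨_, hcard⟩
  have hRdvd : Nat.card (HS.restr K ({ω}ᶜ : Set Ω)) ∣ Nat.card K :=
    ⟨Nat.card Ω, by rw [hcard, mul_comm]⟩
  have hRA : HS.restr K ({ω}ᶜ : Set Ω) ≤ altG ↥({ω}ᶜ : Set Ω) := by
    intro σ hσ
    rw [hrestr, Subgroup.mem_comap] at hσ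
    have h1 := hK.1 hσ
    rw [mem_altG] at h1 ⊢
    rw [← h1]
    exact (Equiv.Perm.sign_ofSubtype σ).symm
  refine ⟨⟨hRA, fun p hp hpd => hK.2.1 p hp (hpd.trans hRdvd), fun p hp hpπ => ?_⟩,
    fun p hp hpΩ => hK.2.1 p hp (hpΩ.trans hΩ), hcard⟩
  have hc1 := pt_card_compl ω
  rcases Nat.lt_or_ge (Nat.card Ω) 3 with hN | hN
  · have hsub1 : Subsingleton ↥({ω}ᶜ : Set Ω) :=
      (Finite.card_le_one_iff_subsingleton).1 (by omega)
    have hsub : Subsingleton (Perm ↥({ω}ᶜ : Set Ω)) := inferInstance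
    have hRe : HS.restr K ({ω}ᶜ : Set Ω) = altG ↥({ω}ᶜ : Set Ω) := by
      ext σ
      rw [Subsingleton.elim σ 1]
      simp only [Subgroup.one_mem]
    rw [hRe, Subgroup.relIndex_self]
    intro h1
    exact hp.one_lt.ne' (Nat.dvd_one.1 h1)
  · have hnt : Nontrivial Ω := (Finite.one_lt_card_iff_nontrivial).1 (by omega)
    have hnt' : Nontrivial ↥({ω}ᶜ : Set Ω) := (Finite.one_lt_card_iff_nontrivial).1 (by omega)
    have h2A : 2 * Nat.card (altG Ω) = (Nat.card Ω).factorial := by
      rw [altG_eq, two_mul_nat_card_alternatingGroup, Nat.card_perm]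
    have h2A' : 2 * Nat.card (altG ↥({ω}ᶜ : Set Ω)) =
        (Nat.card ↥({ω}ᶜ : Set Ω)).factorial := by
      rw [altG_eq, two_mul_nat_card_alternatingGroup, Nat.card_perm]
    have eqA := pt_card_relIndex K (altG Ω) hK.1
    have eqA' := pt_card_relIndex (HS.restr K ({ω}ᶜ : Set Ω)) (altG ↥({ω}ᶜ : Set Ω)) hRA
    have hfac : (Nat.card Ω).factorial =
        Nat.card Ω * (Nat.card ↥({ω}ᶜ : Set Ω)).factorial := by
      rw [← hc1, Nat.factorial_succ]
    have hRpos : 0 < Nat.card (HS.restr K ({ω}ᶜ : Set Ω)) := Nat.card_pos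
    have key : (2 * Nat.card Ω * Nat.card (HS.restr K ({ω}ᶜ : Set Ω))) *
        K.relIndex (altG Ω) =
        (2 * Nat.card Ω * Nat.card (HS.restr K ({ω}ᶜ : Set Ω))) *
          (HS.restr K ({ω}ᶜ : Set Ω)).relIndex (altG ↥({ω}ᶜ : Set Ω)) := by
      calc (2 * Nat.card Ω * Nat.card (HS.restr K ({ω}ᶜ : Set Ω))) * K.relIndex (altG Ω)
          = 2 * (Nat.card K * K.relIndex (altG Ω)) := by rw [hcard]; ring
        _ = 2 * Nat.card (altG Ω) := by rw [eqA]
        _ = (Nat.card Ω).factorial := h2A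
        _ = Nat.card Ω * (Nat.card ↥({ω}ᶜ : Set Ω)).factorial := hfac
        _ = Nat.card Ω * (2 * Nat.card (altG ↥({ω}ᶜ : Set Ω))) := by rw [h2A']
        _ = Nat.card Ω * (2 * (Nat.card (HS.restr K ({ω}ᶜ : Set Ω)) *
              (HS.restr K ({ω}ᶜ : Set Ω)).relIndex (altG ↥({ω}ᶜ : Set Ω)))) := by rw [eqA']
        _ = (2 * Nat.card Ω * Nat.card (HS.restr K ({ω}ᶜ : Set Ω))) *
              (HS.restr K ({ω}ᶜ : Set Ω)).relIndex (altG ↥({ω}ᶜ : Set Ω)) := by ring
    have hpos : 0 < 2 * Nat.card Ω * Nat.card (HS.restr K ({ω}ᶜ : Set Ω)) := by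
      have : 0 < Nat.card Ω := by omega
      positivity
    have hrel := Nat.eq_of_mul_eq_mul_left hpos key
    rw [← hrel]
    exact hK.2.2 p hp hpπ

/-- elements of the point stabiliser restrict into `restr K {ω}ᶜ` -/
theorem restr_stab {Ω : Type*} [Finite Ω] (K : Subgroup (Perm Ω)) (ω : Ω) (k : Perm Ω)
    (hk : k ∈ K) (hkω : k ω = ω) :
    ∃ a ∈ HS.restr K ({ω}ᶜ : Set Ω), ∀ y : ↥({ω}ᶜ : Set Ω), k (y : Ω) = (a y : Ω) := by
  have hmem : ∀ x : Ω, x ∈ ({ω}ᶜ : Set Ω) ↔ x ≠ ω := fun x => by simp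
  have h1 : ∀ x, k x ∈ ({ω}ᶜ : Set Ω) ↔ x ∈ ({ω}ᶜ : Set Ω) := by
    intro x
    rw [hmem, hmem]
    constructor
    · intro hx e
      apply hx
      rw [e, hkω]
    · intro hx e
      apply hx
      apply k.injective
      rw [e, hkω]
  exact ⟨k.subtypePerm h1, ⟨k, hk, fun y => rfl⟩, fun y => rfl⟩

end Cfsg.Agent.Lib.Helper45.HA
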