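import Mathlib
import Cfsg.Agent.Lib.Helper45.HADefs

/-! HALL-ALT piece Prod (project of helper45; S2538/S2535/S2534).
PLACEHOLDER: replace the `sorry`(s) in THIS file; keep theorem names and statements byte-identical;
keep the namespace; auxiliary lemmas go ABOVE the theorems and MUST start with the prefix `prod_`.
Paper proofs: see the note (topic "HALL-ALT"). -/

set_option autoImplicit false

namespace Cfsg.Agent.Lib.Helper45.HA

open Equiv Cfsg.Agent.Lib.Helper13

theorem prod_card {Ω : Type*} [Finite Ω] (s : Set Ω) (X : Subgroup (Perm ↥s))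
    (Y : Subgroup (Perm ↥(sᶜ : Set Ω))) :
    Nat.card (prodSub s X Y) = Nat.card X * Nat.card Y := by
  classical
  let f : ↥X × ↥Y → ↥(prodSub s X Y) := fun ab =>
    ⟨Equiv.Perm.subtypeCongr (p := (· ∈ s)) ab.1.1 ab.2.1,
      ⟨ab.1.1, ab.1.2, ab.2.1, ab.2.2,
        fun y => Equiv.Perm.subtypeCongr.left_apply_subtype (p := (· ∈ s)) ab.1.1 ab.2.1 y,
        fun y => Equiv.Perm.subtypeCongr.right_apply_subtype (p := (· ∈ s)) ab.1.1 ab.2.1 y⟩⟩
  have hinj : Function.Injective f := by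
    rintro ⟨⟨a, ha⟩, ⟨b, hb⟩⟩ ⟨⟨a', ha'⟩, ⟨b', hb'⟩⟩ h
    have h' : Equiv.Perm.subtypeCongr (p := (· ∈ s)) a b =
        Equiv.Perm.subtypeCongr (p := (· ∈ s)) a' b' := congrArg Subtype.val h
    have e1 : a = a' := by
      ext y
      have h3 := congrArg (fun σ : Perm Ω => σ (y : Ω)) h'
      have h4 : Equiv.Perm.subtypeCongr (p := (· ∈ s)) a b (y : Ω) = (a y : Ω) :=
        Equiv.Perm.subtypeCongr.left_apply_subtype (p := (· ∈ s)) a b y
      have h5 : Equiv.Perm.subtypeCongr (p := (· ∈ s)) a' b' (y : Ω) = (a' y : Ω) :=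
        Equiv.Perm.subtypeCongr.left_apply_subtype (p := (· ∈ s)) a' b' y
      rw [← h4, ← h5]
      exact h3
    have e2 : b = b' := by
      ext y
      have h3 := congrArg (fun σ : Perm Ω => σ (y : Ω)) h'
      have h4 : Equiv.Perm.subtypeCongr (p := (· ∈ s)) a b (y : Ω) = (b y : Ω) :=
        Equiv.Perm.subtypeCongr.right_apply_subtype (p := (· ∈ s)) a b y
      have h5 : Equiv.Perm.subtypeCongr (p := (· ∈ s)) a' b' (y : Ω) = (b' y : Ω) :=
        Equiv.Perm.subtypeCongr.right_apply_subtype (p := (· ∈ s)) a' b' y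
      rw [← h4, ← h5]
      exact h3
    subst e1
    subst e2
    rfl
  have hsurj : Function.Surjective f := by
    rintro ⟨σ, a, ha, b, hb, h1, h2⟩
    refine ⟨(⟨a, ha⟩, ⟨b, hb⟩), Subtype.ext ?_⟩
    ext x
    show Equiv.Perm.subtypeCongr (p := (· ∈ s)) a b x = σ x
    by_cases hx : x ∈ s
    · rw [Equiv.Perm.subtypeCongr.left_apply (p := (· ∈ s)) a b hx]
      exact (h1 ⟨x, hx⟩).symm
    · rw [Equiv.Perm.subtypeCongr.right_apply (p := (· ∈ s)) a b hx]
      exact (h2 ⟨x, hx⟩).symm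
  rw [← Nat.card_congr (Equiv.ofBijective f ⟨hinj, hsurj⟩), Nat.card_prod]

theorem prod_index {Ω : Type*} [Finite Ω] (s : Set Ω) (X : Subgroup (Perm ↥s))
    (Y : Subgroup (Perm ↥(sᶜ : Set Ω))) :
    (prodSub s X Y).index = Nat.choose (Nat.card Ω) s.ncard * X.index * Y.index := by
  have h1 := Subgroup.card_mul_index (prodSub s X Y)
  have h2 := Subgroup.card_mul_index X
  have h3 := Subgroup.card_mul_index Y
  rw [Nat.card_perm] at h1 h2 h3
  have hs : Nat.card ↥s = s.ncard := Nat.card_coe_set_eq s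
  have hsc : Nat.card ↥(sᶜ : Set Ω) = Nat.card Ω - s.ncard := by
    rw [Nat.card_coe_set_eq, ← Set.ncard_add_ncard_compl s]
    omega
  have hle : s.ncard ≤ Nat.card Ω := by
    rw [← Set.ncard_add_ncard_compl s]
    omega
  rw [hs] at h2
  rw [hsc] at h3
  rw [prod_card] at h1
  have h4 := Nat.choose_mul_factorial_mul_factorial hle
  have hXpos : 0 < Nat.card X := Nat.card_pos
  have hYpos : 0 < Nat.card Y := Nat.card_pos
  have h5 : (Nat.card X * Nat.card Y) * (prodSub s X Y).index =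
      (Nat.card X * Nat.card Y) * (Nat.choose (Nat.card Ω) s.ncard * X.index * Y.index) := by
    rw [h1, ← h4, ← h2, ← h3]
    ring
  exact Nat.eq_of_mul_eq_mul_left (Nat.mul_pos hXpos hYpos) h5

/-- the product of Hall subgroups of `Perm s` and `Perm sᶜ` is Hall in `Perm Ω` when the
binomial coefficient is a `π'`-number -/
theorem prod_hall {Ω : Type*} [Finite Ω] (π : Set ℕ) (s : Set Ω) (X : Subgroup (Perm ↥s))
    (Y : Subgroup (Perm ↥(sᶜ : Set Ω))) (hX : Cfsg.IsPiHall π X) (hY : Cfsg.IsPiHall π Y)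
    (hch : ∀ p : ℕ, p.Prime → p ∈ π → ¬ p ∣ Nat.choose (Nat.card Ω) s.ncard) :
    Cfsg.IsPiHall π (prodSub s X Y) := by
  constructor
  · intro p hp hdvd
    rw [prod_card] at hdvd
    rcases (Nat.Prime.dvd_mul hp).1 hdvd with h | h
    · exact hX.1 p hp h
    · exact hY.1 p hp h
  · intro p hp hpπ hdvd
    rw [prod_index] at hdvd
    rcases (Nat.Prime.dvd_mul hp).1 hdvd with h | h
    · rcases (Nat.Prime.dvd_mul hp).1 h with h' | h'
      · exact hch p hp hpπ h'
      · exact hX.2 p hp hpπ h'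
    · exact hY.2 p hp hpπ h

end Cfsg.Agent.Lib.Helper45.HA
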