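import Mathlib
import Cfsg.Agent.Lib.Helper45.HADefs
import Cfsg.Agent.Lib.Helper13.HSRestr

/-! HALL-ALT piece RestrEx (project of helper45; S2538/S2535/S2534).
Placeholder filled by helper31 (theorem names and statements byte-identical);
auxiliary lemmas are ABOVE the theorems and start with the prefix `rex_`.
Paper proofs: see the note (topic "HALL-ALT"). -/

set_option autoImplicit false

namespace Cfsg.Agent.Lib.Helper45.HA

open Equiv Cfsg.Agent.Lib.Helper13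

theorem restr_exists {Ω : Type*} [Finite Ω] (K : Subgroup (Perm Ω)) (s : Set Ω)
    (hs : ∀ k ∈ K, ∀ x ∈ s, k x ∈ s) (k : Perm Ω) (hk : k ∈ K) :
    ∃ a ∈ HS.restr K s, ∀ y : ↥s, k (y : Ω) = (a y : Ω) := by
  have hY : k ∈ HS.restr_Y s := HS.restr_le_Y K s hs hk
  refine ⟨HS.restr_hom s ⟨k, hY⟩, ?_, fun y => ?_⟩
  · rw [HS.mem_restr]
    exact ⟨k, hk, fun y => (HS.restr_hom_apply s ⟨k, hY⟩ y).symm⟩
  · exact (HS.restr_hom_apply s ⟨k, hY⟩ y).symm

theorem compl_invariant {Ω : Type*} [Finite Ω] (K : Subgroup (Perm Ω)) (s : Set Ω)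
    (hs : ∀ k ∈ K, ∀ x ∈ s, k x ∈ s) : ∀ k ∈ K, ∀ x ∈ sᶜ, k x ∈ sᶜ := by
  intro k hk x hx hkx
  have hY : k ∈ HS.restr_Y s := HS.restr_le_Y K s hs hk
  exact hx ((hY x).1 hkx)

end Cfsg.Agent.Lib.Helper45.HA
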