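import Mathlib
import Cfsg.Agent.Lib.Helper45.HADefs
import Cfsg.Agent.Lib.Helper13.HSRestr

/-! HALL-ALT piece RestrFix (project of helper45; S2538/S2535/S2534).
PROVED (helper49, job 2367); statement byte-identical to the placeholder; auxiliary lemmas carry
the prefix `rx_`.
Paper proofs: see the note (topic "HALL-ALT"). -/

set_option autoImplicit false

namespace Cfsg.Agent.Lib.Helper45.HA

open Equiv Cfsg.Agent.Lib.Helper13

theorem rx_hs {Ω : Type*} (K : Subgroup (Perm Ω)) (ω : Ω) (hω : ∀ k ∈ K, k ω = ω) :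
    ∀ h ∈ K, ∀ x ∈ ({ω}ᶜ : Set Ω), h x ∈ ({ω}ᶜ : Set Ω) := by
  intro h hh x hx hhx
  apply hx
  rw [Set.mem_singleton_iff] at hhx ⊢
  exact h.injective (hhx.trans (hω h hh).symm)

theorem rx_fix {Ω : Type*} (ω : Ω) (g : Perm Ω) (hg : g ∈ HS.restr_Y ({ω}ᶜ : Set Ω)) :
    g ω = ω := by
  have h := hg ω
  by_contra hne
  exact (h.mp (Set.mem_compl_singleton_iff.mpr hne)) rfl

theorem rx_sign {Ω : Type*} [Fintype Ω] [DecidableEq Ω] (ω : Ω)
    (g : ↥(HS.restr_Y ({ω}ᶜ : Set Ω))) :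
    Perm.sign (HS.restr_hom ({ω}ᶜ : Set Ω) g) = Perm.sign g.1 := by
  have h2 : ∀ x, g.1 x ≠ x → x ∈ ({ω}ᶜ : Set Ω) := by
    intro x hx hxω
    rw [Set.mem_singleton_iff] at hxω
    apply hx
    rw [hxω]
    exact rx_fix ω g.1 g.2
  have h := Perm.sign_subtypePerm g.1 g.2 h2
  convert h
  rfl

theorem rx_inj {Ω : Type*} (ω : Ω) :
    Function.Injective (HS.restr_hom ({ω}ᶜ : Set Ω)) := by
  intro a b hab
  apply Subtype.ext
  ext x
  by_cases hx : x = ω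
  · rw [hx, rx_fix ω a.1 a.2, rx_fix ω b.1 b.2]
  · have h := congrArg
      (fun σ : Perm ↥({ω}ᶜ : Set Ω) => ((σ ⟨x, hx⟩ : ↥({ω}ᶜ : Set Ω)) : Ω)) hab
    exact h

theorem rx_img {Ω : Type*} [Finite Ω] (ω : Ω) :
    ((altG Ω).subgroupOf (HS.restr_Y ({ω}ᶜ : Set Ω))).map (HS.restr_hom ({ω}ᶜ : Set Ω)) =
      altG ↥({ω}ᶜ : Set Ω) := by
  classical
  have : Fintype Ω := Fintype.ofFinite Ω
  ext σ
  rw [Subgroup.mem_map, mem_altG]
  constructor
  · rintro ⟨g, hg, rfl⟩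
    rw [rx_sign]
    exact (mem_altG Ω g.1).mp (Subgroup.mem_subgroupOf.mp hg)
  · intro hσ
    obtain ⟨g, rfl⟩ := HS.restr_hom_surjective _ σ
    refine ⟨g, ?_, rfl⟩
    rw [Subgroup.mem_subgroupOf, mem_altG, ← rx_sign]
    exact hσ

/-- a Hall `π`-subgroup of the alternating group fixing `ω` restricts to a Hall `π`-subgroup
of the alternating group of the complement of `ω` -/
theorem hallA_restr_fix {Ω : Type*} [Finite Ω] (π : Set ℕ) (K : Subgroup (Perm Ω))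
    (hK : Cfsg.IsPiHallOf π K (altG Ω)) (ω : Ω) (hω : ∀ k ∈ K, k ω = ω) :
    Cfsg.IsPiHallOf π (HS.restr K ({ω}ᶜ : Set Ω)) (altG ↥({ω}ᶜ : Set Ω)) := by
  obtain ⟨hKA, hKπ, hKi⟩ := hK
  have hs := rx_hs K ω hω
  have hle : K ≤ HS.restr_Y ({ω}ᶜ : Set Ω) := HS.restr_le_Y K _ hs
  have hinj := rx_inj ω
  have himg := rx_img ω
  rw [HS.restr_eq_map K _ hs]
  refine ⟨?_, ?_, ?_⟩
  · rw [← himg]
    apply Subgroup.map_mono
    intro g hg
    exact Subgroup.mem_subgroupOf.mpr (hKA (Subgroup.mem_subgroupOf.mp hg))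
  · intro p hp hdvd
    apply hKπ p hp
    rw [Subgroup.card_map_of_injective hinj,
      Nat.card_congr (Subgroup.subgroupOfEquivOfLe hle).toEquiv] at hdvd
    exact hdvd
  · intro p hp hpπ hdvd
    apply hKi p hp hpπ
    rw [← himg, Subgroup.relIndex_map_map_of_injective _ _ hinj,
      ← Subgroup.inf_subgroupOf_right (altG Ω) (HS.restr_Y ({ω}ᶜ : Set Ω)),
      Subgroup.relIndex_subgroupOf inf_le_right] at hdvd
    refine dvd_trans hdvd ?_
    have h1 := Subgroup.relIndex_mul_relIndex K (altG Ω ⊓ HS.restr_Y ({ω}ᶜ : Set Ω)) (altG Ω)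
      (le_inf hKA hle) inf_le_left
    exact Dvd.intro _ h1

end Cfsg.Agent.Lib.Helper45.HA
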