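import Mathlib
import Cfsg.Agent.Lib.Helper45.HADefs
import Cfsg.Agent.Lib.Helper13.HSRestr

/-! HALL-ALT piece RestrFull (project of helper45; S2538/S2535/S2534).
Filled in by helper37 (was a placeholder); theorem names and statements byte-identical;
keep the namespace; auxiliary lemmas go ABOVE the theorems and MUST start with the prefix `rf_`.
Paper proofs: see the note (topic "HALL-ALT"). -/

set_option autoImplicit false

namespace Cfsg.Agent.Lib.Helper45.HA

open Equiv Cfsg.Agent.Lib.Helper13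

/-- every permutation of `s` is the restriction of an even permutation preserving `s`, when the
complement of `s` has at least two points -/
theorem rf_surj {Ω : Type*} [Finite Ω] (s : Set Ω) (h2 : 2 ≤ (sᶜ : Set Ω).ncard) (σ : Perm ↥s) :
    ∃ g : Perm Ω, g ∈ HS.restr_Y s ∧ g ∈ altG Ω ∧ ∀ y : ↥s, g (y : Ω) = (σ y : Ω) := by
  classical
  have := Fintype.ofFinite Ω
  have hY0 : Perm.ofSubtype σ ∈ HS.restr_Y s := Perm.ofSubtype_apply_mem_iff_mem σ
  have hval : ∀ y : ↥s, Perm.ofSubtype σ (y : Ω) = (σ y : Ω) :=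
    fun y => Perm.ofSubtype_apply_coe σ y
  rcases Int.units_eq_one_or (Perm.sign (Perm.ofSubtype σ)) with h | h
  · exact ⟨_, hY0, (mem_altG Ω _).mpr h, hval⟩
  · obtain ⟨a, b, ha, hb, hab⟩ := (Set.one_lt_ncard_iff (Set.toFinite _)).mp h2
    have hsw : ∀ x ∈ s, swap a b x = x := fun x hx =>
      swap_apply_of_ne_of_ne (fun e => ha (e ▸ hx)) (fun e => hb (e ▸ hx))
    refine ⟨Perm.ofSubtype σ * swap a b, ?_, ?_, ?_⟩
    · apply Subgroup.mul_mem _ hY0
      intro x
      constructor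
      · intro hx
        have h3 := hsw _ hx
        rw [swap_apply_self] at h3
        rw [h3]
        exact hx
      · intro hx
        rw [hsw x hx]
        exact hx
    · rw [mem_altG, Perm.sign_mul, h, Perm.sign_swap hab]
      rfl
    · intro y
      rw [Perm.mul_apply, hsw _ y.2]
      exact hval y

/-- restriction of a Hall `π`-subgroup of the alternating group to an invariant set whose
complement has at least two points is Hall in the full symmetric group of that set -/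
theorem hallA_restr_full {Ω : Type*} [Finite Ω] (π : Set ℕ) (K : Subgroup (Perm Ω))
    (hK : Cfsg.IsPiHallOf π K (altG Ω)) (s : Set Ω)
    (hs : ∀ k ∈ K, ∀ x ∈ s, k x ∈ s) (h2 : 2 ≤ (sᶜ : Set Ω).ncard) :
    Cfsg.IsPiHall π (HS.restr K s) := by
  obtain ⟨hKA, hKπ, hKidx⟩ := hK
  have hKY : K ≤ HS.restr_Y s := HS.restr_le_Y K s hs
  have hKYA : K ≤ HS.restr_Y s ⊓ altG Ω := le_inf hKY hKA
  obtain ⟨ρ, hρ⟩ : ∃ ρ : ↥(HS.restr_Y s ⊓ altG Ω) →* Perm ↥s,
      ∀ (g : ↥(HS.restr_Y s ⊓ altG Ω)) (y : ↥s), ((ρ g y : ↥s) : Ω) = g.1 (y : Ω) :=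
    ⟨(HS.restr_hom s).comp (Subgroup.inclusion inf_le_left), fun g y => rfl⟩
  have hsurj : Function.Surjective ρ := by
    intro σ
    obtain ⟨g, hgY, hgA, hg⟩ := rf_surj s h2 σ
    refine ⟨⟨g, Subgroup.mem_inf.mpr ⟨hgY, hgA⟩⟩, ?_⟩
    ext y
    rw [hρ]
    exact hg y
  have hmap : HS.restr K s = (K.subgroupOf (HS.restr_Y s ⊓ altG Ω)).map ρ := by
    ext σ
    rw [HS.mem_restr]
    constructor
    · rintro ⟨h, hh, hσ⟩
      refine ⟨⟨h, hKYA hh⟩, Subgroup.mem_subgroupOf.mpr hh, ?_⟩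
      ext y
      rw [hρ]
      exact hσ y
    · rintro ⟨g, hg, rfl⟩
      exact ⟨g.1, Subgroup.mem_subgroupOf.mp hg, fun y => (hρ g y).symm⟩
  rw [hmap]
  constructor
  · intro p hp hdvd
    apply hKπ p hp
    refine dvd_trans hdvd ?_
    have h1 : Nat.card ↥((K.subgroupOf (HS.restr_Y s ⊓ altG Ω)).map ρ) ∣
        Nat.card ↥(K.subgroupOf (HS.restr_Y s ⊓ altG Ω)) :=
      Subgroup.card_dvd_of_surjective (ρ.subgroupMap _) (ρ.subgroupMap_surjective _)
    rwa [Nat.card_congr (Subgroup.subgroupOfEquivOfLe hKYA).toEquiv] at h1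
  · intro p hp hpπ hdvd
    apply hKidx p hp hpπ
    refine dvd_trans hdvd ?_
    refine dvd_trans (Subgroup.index_map_dvd _ hsurj) ?_
    show K.relIndex (HS.restr_Y s ⊓ altG Ω) ∣ K.relIndex (altG Ω)
    exact Dvd.intro _ (Subgroup.relIndex_mul_relIndex K _ _ hKYA inf_le_right)

end Cfsg.Agent.Lib.Helper45.HA
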