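import Mathlib
import Cfsg.Agent.Lib.Helper45.HADefs
import Cfsg.Agent.Lib.Helper13.HSMain

/-! HALL-ALT piece Seven (project of helper45; S2538/S2535/S2534).
Filled by helper2; auxiliary lemmas start with the prefix `s7_`.
Paper proofs: see the note (topic "HALL-ALT"). -/

set_option autoImplicit false

namespace Cfsg.Agent.Lib.Helper45.HA

open Equiv Cfsg.Agent.Lib.Helper13

/-- the complement of an invariant set is invariant -/
theorem s7_compl_inv {Ω : Type*} (H : Subgroup (Perm Ω)) (s : Set Ω)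
    (hs : ∀ h ∈ H, ∀ x ∈ s, h x ∈ s) : ∀ h ∈ H, ∀ x ∈ sᶜ, h x ∈ sᶜ := by
  intro h hh x hx hcon
  apply hx
  have := hs h⁻¹ (H.inv_mem hh) (h x) hcon
  simpa using this

/-- a Hall `{2,3}`-subgroup of `S_7` has no invariant `6`-set -/
theorem s7_no_six (Ω : Type) [Finite Ω] (π : Set ℕ) (hCd : HS.Cd π 7) (H : Subgroup (Perm Ω))
    (hH : Cfsg.IsPiHall π H) (t : Set Ω) (ht : t.ncard = 6)
    (hinv : ∀ h ∈ H, ∀ x ∈ t, h x ∈ t) : False := by
  have h2π : 2 ∈ π := (hCd.2 2 Nat.prime_two (by norm_num)).mpr (Or.inl rfl)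
  have h3π : 3 ∈ π := (hCd.2 3 Nat.prime_three (by norm_num)).mpr (Or.inr rfl)
  have h5π : 5 ∉ π := fun h => by
    have := (hCd.2 5 (by norm_num) (by norm_num)).mp h
    omega
  have hcard : Nat.card ↥t = 6 := by rw [Nat.card_coe_set_eq, ht]
  have hA1 : HS.A1 π 6 :=
    ⟨2, 3, Nat.prime_two, Nat.prime_three, by norm_num, h2π, h3π, by norm_num, by norm_num⟩
  have hA2 : HS.A2 π 6 := ⟨5, by norm_num, by norm_num, h5π⟩
  rcases HS.classify π 6 ↥t (HS.restr H t) hcard (HS.hall_restr π H t hH hinv) hA1 hA2 with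
    ⟨⟨hp, -⟩, -⟩ | ⟨h78, -⟩
  · norm_num at hp
  · omega

/-- a Hall `{2,3}`-subgroup of the symmetric group of degree 7 has an invariant 3-set -/
theorem hall7_invariant (Ω : Type) [Finite Ω] (π : Set ℕ) (h7 : Nat.card Ω = 7)
    (hCd : HS.Cd π 7) (H : Subgroup (Perm Ω)) (hH : Cfsg.IsPiHall π H) :
    ∃ s : Set Ω, s.ncard = 3 ∧ ∀ h ∈ H, ∀ x ∈ s, h x ∈ s := by
  have h2π : 2 ∈ π := (hCd.2 2 Nat.prime_two (by norm_num)).mpr (Or.inl rfl)
  have h3π : 3 ∈ π := (hCd.2 3 Nat.prime_three (by norm_num)).mpr (Or.inr rfl)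
  have h7π : 7 ∉ π := fun h => by
    have := (hCd.2 7 (by norm_num) (by norm_num)).mp h
    omega
  have hne : Nonempty Ω := (Nat.card_pos_iff.mp (by omega)).1
  have hntr : ¬ MulAction.IsPretransitive ↥H Ω := by
    intro htr
    obtain ⟨ω⟩ := hne
    have := (HS.hall_point_stab π H hH htr ω).2 7 (by norm_num) (by rw [h7])
    exact h7π this
  obtain ⟨x, y, hyO⟩ : ∃ x y : Ω, y ∉ MulAction.orbit ↥H x := by
    by_contra hcon
    push Not at hcon
    exact hntr ⟨fun x y => hcon x y⟩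
  obtain ⟨O, hO⟩ : ∃ O : Set Ω, O = MulAction.orbit ↥H x := ⟨_, rfl⟩
  rw [← hO] at hyO
  have hOinv : ∀ h ∈ H, ∀ w ∈ O, h w ∈ O := by rw [hO]; exact HS.restr_orbit_inv H x
  have hxO : x ∈ O := by rw [hO]; exact MulAction.mem_orbit_self x
  have hm1 : 1 ≤ O.ncard := by
    rw [Nat.succ_le_iff, Set.ncard_pos]
    exact ⟨x, hxO⟩
  have hcompl : Oᶜ.ncard = 7 - O.ncard := by rw [Set.ncard_compl, h7]
  have hle : O.ncard ≤ 7 := by rw [← h7]; exact Set.ncard_le_card O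
  have hm6 : O.ncard ≤ 6 := by
    have : 1 ≤ Oᶜ.ncard := by
      rw [Nat.succ_le_iff, Set.ncard_pos]
      exact ⟨y, hyO⟩
    omega
  have h2 := HS.hall_choose π H O hH hOinv 2 Nat.prime_two h2π
  have h3 := HS.hall_choose π H O hH hOinv 3 Nat.prime_three h3π
  rw [h7] at h2 h3
  obtain ⟨m, hm⟩ : ∃ m, m = O.ncard := ⟨_, rfl⟩
  rw [← hm] at h2 h3 hm1 hm6 hcompl
  have hcases : m = 1 ∨ m = 3 ∨ m = 4 ∨ m = 6 := by
    interval_cases m <;> revert h2 h3 <;> decide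
  rcases hcases with rfl | rfl | rfl | rfl
  · exact (s7_no_six Ω π hCd H hH Oᶜ (by rw [hcompl]) (s7_compl_inv H O hOinv)).elim
  · exact ⟨O, hm.symm, hOinv⟩
  · exact ⟨Oᶜ, by rw [hcompl], s7_compl_inv H O hOinv⟩
  · exact (s7_no_six Ω π hCd H hH O hm.symm hOinv).elim

end Cfsg.Agent.Lib.Helper45.HA
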