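import Mathlib
import Cfsg.Agent.Lib.Helper45.HADefs

/-! HALL-ALT piece Single (project of helper45; S2538/S2535/S2534).
Filled in by helper64 (was a placeholder); theorem names and statements byte-identical;
same namespace; auxiliary lemmas go ABOVE the theorems and MUST start with the prefix `single_`.
Paper proofs: see the note (topic "HALL-ALT"). -/

set_option autoImplicit false

namespace Cfsg.Agent.Lib.Helper45.HA

open Equiv Cfsg.Agent.Lib.Helper13

section
open scoped Pointwise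

theorem single_sylow_conj {A : Type*} [Group A] [Finite A] {p : ℕ} [Fact p.Prime]
    (P Q : Sylow p A) :
    ∃ g : A, ∀ x : A, x ∈ (Q : Subgroup A) ↔ g⁻¹ * x * g ∈ (P : Subgroup A) := by
  obtain ⟨g, hg⟩ := MulAction.exists_smul_eq A P Q
  refine ⟨g, fun x => ?_⟩
  rw [← hg, Sylow.coe_subgroup_smul, Subgroup.mem_pointwise_smul_iff_inv_smul_mem]
  simp [MulAut.smul_def]

end

/-- if at most one prime of `π` divides `|A|`, the Hall `π`-subgroups of `A` are Sylow subgroups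
(or trivial), hence conjugate in `A` -/
theorem hallOf_conj_of_single {G : Type*} [Group G] [Finite G] (π : Set ℕ) (A K₁ K₂ : Subgroup G)
    (h₁ : Cfsg.IsPiHallOf π K₁ A) (h₂ : Cfsg.IsPiHallOf π K₂ A)
    (hs : ∀ r s : ℕ, r.Prime → s.Prime → r ∈ π → s ∈ π → r ∣ Nat.card A → s ∣ Nat.card A → r = s) :
    ∃ g ∈ A, K₂ = K₁.map (MulAut.conj g).toMonoidHom := by
  by_cases hex : ∃ p : ℕ, p.Prime ∧ p ∈ π ∧ p ∣ Nat.card A
  · obtain ⟨p, hp, hpπ, hpA⟩ := hex
    have hfact : Fact p.Prime := ⟨hp⟩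
    have hsyl : ∀ K : Subgroup G, Cfsg.IsPiHallOf π K A →
        ∃ P : Sylow p ↥A, (P : Subgroup ↥A) = K.subgroupOf A := by
      intro K hK
      have hcardK : Nat.card (K.subgroupOf A) = Nat.card K :=
        Nat.card_congr (Subgroup.subgroupOfEquivOfLe hK.1).toEquiv
      have h1 : Nat.card K = p ^ (Nat.card K).primeFactorsList.length :=
        Nat.eq_prime_pow_of_unique_prime_dvd Nat.card_pos.ne' (fun {d} hd hdK =>
          hs d p hd hp (hK.2.1 d hd hdK) hpπ (hdK.trans (Subgroup.card_dvd_of_le hK.1)) hpA)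
      have hpg : IsPGroup p (K.subgroupOf A) := IsPGroup.of_card (hcardK.trans h1)
      have hidx : ¬ p ∣ (K.subgroupOf A).index := hK.2.2 p hp hpπ
      exact ⟨hpg.toSylow hidx, hpg.toSylow_coe hidx⟩
    obtain ⟨P, hP⟩ := hsyl K₁ h₁
    obtain ⟨Q, hQ⟩ := hsyl K₂ h₂
    obtain ⟨g, hg⟩ := single_sylow_conj P Q
    refine ⟨g.1, g.2, ?_⟩
    ext x
    constructor
    · intro hx
      have hxA : x ∈ A := h₂.1 hx
      have hxQ : (⟨x, hxA⟩ : ↥A) ∈ (Q : Subgroup ↥A) := by
        rw [hQ, Subgroup.mem_subgroupOf]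
        exact hx
      rw [hg, hP, Subgroup.mem_subgroupOf] at hxQ
      refine ⟨g.1⁻¹ * x * g.1, hxQ, ?_⟩
      simp [mul_assoc]
    · rintro ⟨y, hy, rfl⟩
      have hyA : y ∈ A := h₁.1 hy
      have hmem : (MulAut.conj g.1).toMonoidHom y ∈ A := A.mul_mem (A.mul_mem g.2 hyA) (A.inv_mem g.2)
      have h3 : (⟨(MulAut.conj g.1).toMonoidHom y, hmem⟩ : ↥A) ∈ (Q : Subgroup ↥A) := by
        rw [hg, hP, Subgroup.mem_subgroupOf]
        have e : ((g⁻¹ * (⟨(MulAut.conj g.1).toMonoidHom y, hmem⟩ : ↥A) * g : ↥A) : G) = y := by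
          simp [mul_assoc]
        rw [e]
        exact hy
      rw [hQ, Subgroup.mem_subgroupOf] at h3
      exact h3
  · have htriv : ∀ K : Subgroup G, Cfsg.IsPiHallOf π K A → K = ⊥ := by
      intro K hK
      by_contra hne
      have h1 : Nat.card K ≠ 1 := fun h => hne (Subgroup.card_eq_one.mp h)
      obtain ⟨q, hq, hqK⟩ := Nat.exists_prime_and_dvd h1
      exact hex ⟨q, hq, hK.2.1 q hq hqK, hqK.trans (Subgroup.card_dvd_of_le hK.1)⟩
    rw [htriv K₁ h₁, htriv K₂ h₂]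
    refine ⟨1, A.one_mem, ?_⟩
    ext x
    simp

end Cfsg.Agent.Lib.Helper45.HA
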