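import Mathlib
import Cfsg.Agent.Lib.Helper45.HADefs
import Cfsg.Agent.Lib.Helper4.Burnside

/-! HALL-ALT piece Solv (project of helper45; S2538/S2535/S2534).
PLACEHOLDER: replace the `sorry`(s) in THIS file; keep theorem names and statements byte-identical;
keep the namespace; auxiliary lemmas go ABOVE the theorems and MUST start with the prefix `solv_`.
Paper proofs: see the note (topic "HALL-ALT"). -/

set_option autoImplicit false
set_option linter.style.haveILetI false
set_option linter.unusedVariables false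

namespace Cfsg.Agent.Lib.Helper45.HA

open Equiv Cfsg.Agent.Lib.Helper13

/-- a positive integer whose prime divisors are among `p`, `q` is `p ^ a * q ^ b` -/
theorem solv_form (p q : ℕ) : ∀ n : ℕ, n ≠ 0 → (∀ r : ℕ, r.Prime → r ∣ n → r = p ∨ r = q) →
    ∃ a b : ℕ, n = p ^ a * q ^ b := by
  intro n
  induction n using Nat.strong_induction_on with
  | _ n ih =>
    intro hn h
    by_cases h1 : n = 1
    · exact ⟨0, 0, by simp [h1]⟩
    · have hr : (n.minFac).Prime := Nat.minFac_prime h1
      have hdvd : n.minFac ∣ n := Nat.minFac_dvd n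
      obtain ⟨m, hm⟩ := hdvd
      have hm0 : m ≠ 0 := by
        rintro rfl
        exact hn (by rw [hm, mul_zero])
      have hlt : m < n := by
        have h2 : 2 ≤ n.minFac := hr.two_le
        have : 0 < m := Nat.pos_of_ne_zero hm0
        nlinarith
      obtain ⟨a, b, hab⟩ := ih m hlt hm0 (fun r hrp hrm => h r hrp (hm ▸ Dvd.dvd.mul_left hrm _))
      rcases h n.minFac hr (Nat.minFac_dvd n) with h3 | h3
      · refine ⟨a + 1, b, ?_⟩
        rw [hm, h3, hab]
        ring
      · refine ⟨a, b + 1, ?_⟩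
        rw [hm, h3, hab]
        ring

theorem hallA_prime_solvable {Ω : Type*} [Finite Ω] (π : Set ℕ) (K : Subgroup (Perm Ω))
    (hK : Cfsg.IsPiHallOf π K (altG Ω)) (hp : (Nat.card Ω).Prime)
    (hπ : ∀ r : ℕ, r.Prime → r ≤ Nat.card Ω → r ∈ π → r = 2 ∨ r = Nat.card Ω) :
    Group.IsSolvable ↥K := by
  have hcard : Nat.card ↥K ∣ (Nat.card Ω).factorial := by
    have := Subgroup.card_subgroup_dvd_card K
    rwa [Nat.card_perm] at this
  have hform : ∃ a b : ℕ, Nat.card ↥K = 2 ^ a * (Nat.card Ω) ^ b := by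
    apply solv_form 2 (Nat.card Ω) (Nat.card ↥K) Nat.card_pos.ne'
    intro r hr hrK
    have hle : r ≤ Nat.card Ω := (Nat.Prime.dvd_factorial hr).mp (hrK.trans hcard)
    exact hπ r hr hle (hK.2.1 r hr hrK)
  obtain ⟨a, b, hab⟩ := hform
  exact Cfsg.Agent.Lib.Helper4.burnside 2 (Nat.card Ω) a b Nat.prime_two hp hab

end Cfsg.Agent.Lib.Helper45.HA
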