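import Mathlib
import Cfsg.Agent.Lib.Helper45.HADefs

/-! HALL-ALT piece Syl (project of helper45; S2538/S2535/S2534).
PLACEHOLDER: replace the `sorry`(s) in THIS file; keep theorem names and statements byte-identical;
keep the namespace; auxiliary lemmas go ABOVE the theorems and MUST start with the prefix `syl_`.
Paper proofs: see the note (topic "HALL-ALT"). -/

set_option autoImplicit false

namespace Cfsg.Agent.Lib.Helper45.HA

open Equiv Cfsg.Agent.Lib.Helper13

theorem lift_of_sylow {Ω : Type*} [Finite Ω] (π : Set ℕ) (K : Subgroup (Perm Ω))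
    (h2 : 2 ∈ π) (hA1 : ¬ HS.A1 π (Nat.card Ω)) (hK : Cfsg.IsPiHallOf π K (altG Ω)) : Lift π K := by
  classical
  obtain ⟨hKA, hKπ, hKi⟩ := hK
  have : Fact (Nat.Prime 2) := ⟨Nat.prime_two⟩
  -- primes of π that are ≤ N equal 2
  have hle : ∀ p : ℕ, p.Prime → p ∈ π → p ≤ Nat.card Ω → p = 2 := by
    intro p hp hpπ hpN
    by_contra hne
    exact hA1 ⟨2, p, Nat.prime_two, hp, fun h => hne h.symm, h2, hpπ, le_trans hp.two_le hpN, hpN⟩
  -- primes dividing the order of Perm Ω are ≤ N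
  have hcard : Nat.card (Perm Ω) = (Nat.card Ω).factorial := Nat.card_perm
  have hdvdN : ∀ p : ℕ, p.Prime → p ∣ Nat.card (Perm Ω) → p ≤ Nat.card Ω := by
    intro p hp hd
    rw [hcard] at hd
    exact (Nat.Prime.dvd_factorial hp).mp hd
  -- K is a 2-group
  have hK2 : IsPGroup 2 K := by
    have hpos : Nat.card K ≠ 0 := Nat.card_pos.ne'
    have h := Nat.eq_prime_pow_of_unique_prime_dvd hpos (p := 2) (fun {d} hd hdk =>
      hle d hd (hKπ d hd hdk) (hdvdN d hd (hdk.trans (Subgroup.card_subgroup_dvd_card K))))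
    exact IsPGroup.of_card h
  obtain ⟨P, hKP⟩ := hK2.exists_le_sylow
  obtain ⟨k, hk⟩ := IsPGroup.iff_card.mp P.isPGroup'
  refine ⟨P, ⟨?_, ?_⟩, ?_⟩
  · intro p hp hd
    rw [hk] at hd
    have h := (Nat.prime_dvd_prime_iff_eq hp Nat.prime_two).mp (hp.dvd_of_dvd_pow hd)
    rw [h]; exact h2
  · intro p hp hpπ hd
    have h1 : p = 2 := hle p hp hpπ (hdvdN p hp (hd.trans (Subgroup.index_dvd_card _)))
    rw [h1] at hd
    exact P.not_dvd_index hd
  · apply le_antisymm
    · have hKE : K ≤ (P : Subgroup (Perm Ω)) ⊓ altG Ω := le_inf hKP hKA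
      have h1 : K.relIndex ((P : Subgroup (Perm Ω)) ⊓ altG Ω) ∣ K.relIndex (altG Ω) :=
        Dvd.intro _ (Subgroup.relIndex_mul_relIndex K _ (altG Ω) hKE inf_le_right)
      have h3 : K.relIndex ((P : Subgroup (Perm Ω)) ⊓ altG Ω) ∣ 2 ^ k := by
        rw [← hk]
        exact (Subgroup.relIndex_dvd_card K _).trans (Subgroup.card_dvd_of_le inf_le_left)
      obtain ⟨i, -, hi⟩ := (Nat.dvd_prime_pow Nat.prime_two).mp h3
      rcases Nat.eq_zero_or_pos i with h0 | hpos
      · rw [h0, pow_zero] at hi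
        exact Subgroup.relIndex_eq_one.mp hi
      · exfalso
        apply hKi 2 Nat.prime_two h2
        refine Dvd.dvd.trans ?_ h1
        rw [hi]
        exact dvd_pow_self 2 hpos.ne'
    · exact le_inf hKP hKA

end Cfsg.Agent.Lib.Helper45.HA
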