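import Mathlib
import Cfsg.Agent.Lib.Helper45.HADefs
import Cfsg.Agent.Lib.Helper13.HSCycle

/-! HALL-ALT piece Three (project of helper45; S2538/S2535/S2534).
Proved by helper75 (statements unchanged). Paper proofs: see the note (topic "HALL-ALT"). -/

set_option autoImplicit false

namespace Cfsg.Agent.Lib.Helper45.HA

open Equiv Cfsg.Agent.Lib.Helper13

theorem hallA_three_cycle {Ω : Type*} [Fintype Ω] [DecidableEq Ω] (π : Set ℕ)
    (K : Subgroup (Perm Ω)) (hK : Cfsg.IsPiHallOf π K (altG Ω)) (h3 : 3 ∈ π)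
    (hc : 3 ≤ Nat.card Ω) : ∃ g ∈ K, g.IsThreeCycle := by
  have : Fact (Nat.Prime 3) := ⟨Nat.prime_three⟩
  obtain ⟨hKA, hK1, hK2⟩ := hK
  rw [altG_eq] at hKA hK2
  have hc' : 3 ≤ Fintype.card Ω := by rwa [Nat.card_eq_fintype_card] at hc
  have hnt : Nontrivial Ω := by
    rw [← Fintype.one_lt_card_iff_nontrivial]
    omega
  obtain ⟨c, hcyc, hcs⟩ := HS.cycle_exists_formPerm (Ω := Ω) 3 (by norm_num) hc'
  have hord : orderOf c = 3 ^ 1 := by rw [hcyc.orderOf, hcs, pow_one]
  have hzp : IsPGroup 3 (Subgroup.zpowers c) :=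
    IsPGroup.of_card (n := 1) (by rw [Nat.card_zpowers, hord])
  obtain ⟨P, hP⟩ := hzp.exists_le_sylow
  obtain ⟨Q⟩ : Nonempty (Sylow 3 K) := inferInstance
  have hidx : ¬ 3 ∣ K.index := by
    rw [← Subgroup.relIndex_mul_index hKA, alternatingGroup.index_eq_two]
    intro h
    rcases (Nat.Prime.dvd_mul Nat.prime_three).mp h with h | h
    · exact hK2 3 Nat.prime_three h3 h
    · exact absurd h (by norm_num)
  have hcardQ : Nat.card ((Q : Subgroup K).map K.subtype) =
      3 ^ (Nat.card (Perm Ω)).factorization 3 := by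
    rw [← Nat.card_congr
      ((Q : Subgroup K).equivMapOfInjective K.subtype K.subtype_injective).toEquiv]
    rw [Sylow.card_eq_multiplicity]
    congr 1
    have h1 : Nat.card (Perm Ω) = Nat.card K * K.index := (Subgroup.card_mul_index K).symm
    rw [h1, Nat.factorization_mul Nat.card_pos.ne' Subgroup.index_ne_zero_of_finite,
      Finsupp.add_apply, Nat.factorization_eq_zero_of_not_dvd hidx, add_zero]
  obtain ⟨x, hx⟩ := MulAction.exists_smul_eq (Perm Ω) P (Sylow.ofCard _ hcardQ)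
  refine ⟨x * c * x⁻¹, ?_, ?_⟩
  · have h1 : c ∈ (P : Subgroup (Perm Ω)) := hP (Subgroup.mem_zpowers c)
    have h2 : x * c * x⁻¹ ∈ ((x • P : Sylow 3 (Perm Ω)) : Subgroup (Perm Ω)) := by
      rw [Sylow.coe_subgroup_smul]
      have h4 := Subgroup.smul_mem_pointwise_smul c (MulAut.conj x) (P : Subgroup (Perm Ω)) h1
      simpa [MulAut.smul_def] using h4
    rw [hx] at h2
    have h5 : x * c * x⁻¹ ∈ (Q : Subgroup K).map K.subtype := h2
    exact Subgroup.map_subtype_le _ h5
  · rw [← _root_.card_support_eq_three_iff, Equiv.Perm.card_support_conj, hcs]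

theorem alt_le_of_prim {Ω : Type*} [Finite Ω] (π : Set ℕ) (K : Subgroup (Perm Ω))
    (hK : Cfsg.IsPiHallOf π K (altG Ω)) (h3 : 3 ∈ π) (hc : 3 ≤ Nat.card Ω)
    (hprim : MulAction.IsPreprimitive ↥K Ω) : altG Ω ≤ K := by
  classical
  have := Fintype.ofFinite Ω
  obtain ⟨g, hg, hg3⟩ := hallA_three_cycle π K hK h3 hc
  rw [altG_eq]
  exact Equiv.Perm.alternatingGroup_le_of_isPreprimitive_of_isThreeCycle_mem hprim hg3 hg

theorem hallA_top_primes {Ω : Type*} [Finite Ω] (π : Set ℕ) (K : Subgroup (Perm Ω))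
    (hK : Cfsg.IsPiHallOf π K (altG Ω)) (h : altG Ω ≤ K) (r : ℕ) (hr : r.Prime)
    (hodd : r ≠ 2) (hle : r ≤ Nat.card Ω) : r ∈ π := by
  classical
  have := Fintype.ofFinite Ω
  apply hK.2.1 r hr
  have hKA : K = altG Ω := le_antisymm hK.1 h
  rw [hKA, altG_eq]
  have h1 : Nat.card (alternatingGroup Ω) * (alternatingGroup Ω).index = Nat.card (Perm Ω) :=
    Subgroup.card_mul_index _
  rw [Nat.card_perm] at h1
  have h2 : r ∣ (Nat.card Ω).factorial := (hr.dvd_factorial).mpr hle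
  rw [← h1] at h2
  rcases (Nat.Prime.dvd_mul hr).mp h2 with h4 | h4
  · exact h4
  · exfalso
    have hnt : Nontrivial Ω := by
      rw [← Fintype.one_lt_card_iff_nontrivial, ← Nat.card_eq_fintype_card]
      have h5 := hr.two_le
      omega
    rw [alternatingGroup.index_eq_two] at h4
    exact hodd ((Nat.prime_dvd_prime_iff_eq hr Nat.prime_two).mp h4)

end Cfsg.Agent.Lib.Helper45.HA
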