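import Mathlib
import Cfsg.Agent.Lib.Helper45.HADefs
import Cfsg.Agent.Lib.Helper45.HANoIdx

/-! HALL-ALT piece TransCc (project of helper45; S2538/S2535/S2534).
PLACEHOLDER: replace the `sorry`(s) in THIS file; keep theorem names and statements byte-identical;
keep the namespace; auxiliary lemmas go ABOVE the theorems and MUST start with the prefix `tcc_`.
Paper proofs: see the note (topic "HALL-ALT"). -/

set_option autoImplicit false

namespace Cfsg.Agent.Lib.Helper45.HA

open Equiv Cfsg.Agent.Lib.Helper13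

/-- the arithmetic core of `trans_cc`: with `N = n + 2`, `m = |K_ω|`, `R = |A : K|`,
`2 m N R = N!` and `(N - 2)! = m c`, no prime divisor of `c` dividing `R`: then `R ≠ 1`, `R < N` -/
theorem tcc_arith (n R m c : ℕ) (h4 : 4 ≤ n) (hm : 0 < m)
    (h1 : 2 * (m * (n + 2) * R) = (n + 2).factorial) (h2 : n.factorial = m * c)
    (hodd : ∀ p : ℕ, p.Prime → p ∣ c → ¬ p ∣ R) : R ≠ 1 ∧ R < n + 2 := by
  have hfac : (n + 2).factorial = (n + 2) * ((n + 1) * (m * c)) := by
    rw [Nat.factorial_succ, Nat.factorial_succ, h2]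
  have h3 : 2 * R = (n + 1) * c := by
    have h4' : (m * (n + 2)) * (2 * R) = (m * (n + 2)) * ((n + 1) * c) := by
      calc (m * (n + 2)) * (2 * R) = 2 * (m * (n + 2) * R) := by ring
        _ = (n + 2) * ((n + 1) * (m * c)) := by rw [h1, hfac]
        _ = (m * (n + 2)) * ((n + 1) * c) := by ring
    exact Nat.eq_of_mul_eq_mul_left (by positivity) h4'
  rcases Nat.eq_two_pow_or_exists_odd_prime_and_dvd c with ⟨k, hk⟩ | ⟨p, hp, hpc, hpodd⟩
  · rcases k with _ | _ | k
    · rw [pow_zero] at hk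
      rw [hk, mul_one] at h3
      constructor <;> omega
    · rw [zero_add, pow_one] at hk
      rw [hk] at h3
      constructor <;> omega
    · exfalso
      have h2c : 2 ∣ c := by
        rw [hk]
        exact dvd_pow_self 2 (by omega)
      apply hodd 2 Nat.prime_two h2c
      have hk' : c = 4 * 2 ^ k := by
        rw [hk, pow_add, pow_add]
        ring
      rw [hk'] at h3
      have h5 : R = 2 * ((n + 1) * 2 ^ k) := by
        have h6 : 2 * R = 2 * (2 * ((n + 1) * 2 ^ k)) := by
          rw [h3]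
          ring
        exact Nat.eq_of_mul_eq_mul_left (by norm_num) h6
      rw [h5]
      exact Dvd.intro _ rfl
  · exfalso
    have hp2R : p ∣ 2 * R := by
      rw [h3]
      exact Dvd.dvd.mul_left hpc _
    rcases (Nat.Prime.dvd_mul hp).mp hp2R with h | h
    · have hp2 : p = 2 := (Nat.prime_dvd_prime_iff_eq hp Nat.prime_two).mp h
      rw [hp2] at hpodd
      exact absurd hpodd (by decide)
    · exact hodd p hp hpc h

/-- a transitive Hall subgroup of the alternating group whose point stabiliser fixes a second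
point (all primes `≤ n - 2` in `π`) would have index `n - 1` -/
theorem trans_cc {Ω : Type*} [Finite Ω] (π : Set ℕ) (K : Subgroup (Perm Ω))
    (hK : Cfsg.IsPiHallOf π K (altG Ω)) (htr : MulAction.IsPretransitive ↥K Ω)
    (h6 : 6 ≤ Nat.card Ω) (ω ω' : Ω) (hne : ω ≠ ω') (hfix : ∀ k ∈ K, k ω = ω → k ω' = ω')
    (hπ : ∀ r : ℕ, r.Prime → r + 2 ≤ Nat.card Ω → r ∈ π) : False := by
  classical
  haveI : Fintype Ω := Fintype.ofFinite Ω
  obtain ⟨hKA, -, hπI⟩ := hK
  obtain ⟨n, hn⟩ : ∃ n, Nat.card Ω = n + 2 := ⟨Nat.card Ω - 2, by omega⟩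
  have hn4 : 4 ≤ n := by omega
  haveI : Nontrivial Ω := by
    rw [← Finite.one_lt_card_iff_nontrivial]
    omega
  -- the order of the alternating group
  have hA2 : 2 * Nat.card (altG Ω) = (n + 2).factorial := by
    rw [altG_eq, two_mul_nat_card_alternatingGroup, Nat.card_perm, hn]
  -- the point stabiliser
  have hidx : (MulAction.stabilizer ↥K ω).index = n + 2 := by
    rw [MulAction.index_stabilizer_of_transitive, hn]
  have hKcard : Nat.card (MulAction.stabilizer ↥K ω) * (n + 2) = Nat.card K := by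
    rw [← hidx]
    exact (MulAction.stabilizer ↥K ω).card_mul_index
  -- the relative index
  have hR : Nat.card K * K.relIndex (altG Ω) = Nat.card (altG Ω) := by
    have h := (K.subgroupOf (altG Ω)).card_mul_index
    rwa [Nat.card_congr (Subgroup.subgroupOfEquivOfLe hKA).toEquiv] at h
  -- the point stabiliser fixes `ω` and `ω'`
  have hk1 : ∀ k : ↥(MulAction.stabilizer ↥K ω), ((k : ↥K) : Perm Ω) ω = ω := fun k => k.2
  have hk2 : ∀ k : ↥(MulAction.stabilizer ↥K ω), ((k : ↥K) : Perm Ω) ω' = ω' :=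
    fun k => hfix _ (k : ↥K).2 (hk1 k)
  have hp : ∀ k : ↥(MulAction.stabilizer ↥K ω), ∀ x : Ω,
      (((k : ↥K) : Perm Ω) x ≠ ω ∧ ((k : ↥K) : Perm Ω) x ≠ ω') ↔ (x ≠ ω ∧ x ≠ ω') := by
    intro k x
    constructor
    · rintro ⟨a, b⟩
      exact ⟨fun h => a (by rw [h, hk1 k]), fun h => b (by rw [h, hk2 k])⟩
    · rintro ⟨a, b⟩
      exact ⟨fun h => a (((k : ↥K) : Perm Ω).injective (h.trans (hk1 k).symm)),
        fun h => b (((k : ↥K) : Perm Ω).injective (h.trans (hk2 k).symm))⟩
  let φ : ↥(MulAction.stabilizer ↥K ω) →* Perm {x : Ω // x ≠ ω ∧ x ≠ ω'} :=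
    { toFun := fun k => Equiv.Perm.subtypePerm ((k : ↥K) : Perm Ω) (hp k)
      map_one' := by
        ext x
        rfl
      map_mul' := by
        intro k k'
        ext x
        rfl }
  have hφ : Function.Injective φ := by
    intro k k' h
    apply Subtype.ext
    apply Subtype.ext
    ext x
    by_cases hx : x ≠ ω ∧ x ≠ ω'
    · exact congrArg (fun f : Perm {x : Ω // x ≠ ω ∧ x ≠ ω'} => ((f ⟨x, hx⟩ :
        {x : Ω // x ≠ ω ∧ x ≠ ω'}) : Ω)) h
    · have hx' : x = ω ∨ x = ω' := by
        by_contra hcon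
        push Not at hcon
        exact hx hcon
      rcases hx' with rfl | rfl
      · rw [hk1 k, hk1 k']
      · rw [hk2 k, hk2 k']
  have hcsub : Nat.card {x : Ω // x ≠ ω ∧ x ≠ ω'} = n := by
    rw [Nat.card_eq_fintype_card, Fintype.card_subtype]
    have he : (Finset.univ.filter (fun x : Ω => x ≠ ω ∧ x ≠ ω')) = ({ω, ω'} : Finset Ω)ᶜ := by
      ext x
      simp
    rw [he, Finset.card_compl, Finset.card_pair hne, ← Nat.card_eq_fintype_card, hn]
    rfl
  have hdvd : Nat.card (MulAction.stabilizer ↥K ω) ∣ n.factorial := by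
    have h := Subgroup.card_dvd_of_injective φ hφ
    rwa [Nat.card_perm, hcsub] at h
  obtain ⟨c, hc⟩ := hdvd
  have hmpos : 0 < Nat.card (MulAction.stabilizer ↥K ω) := Nat.card_pos
  have key := tcc_arith n (K.relIndex (altG Ω)) (Nat.card (MulAction.stabilizer ↥K ω)) c hn4
    hmpos (by rw [← hA2, ← hR, ← hKcard]) hc (by
      intro p hp' hpc
      have hple : p ≤ n := by
        have h : p ∣ n.factorial := by
          rw [hc]
          exact Dvd.dvd.mul_left hpc _
        exact (Nat.Prime.dvd_factorial hp').mp h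
      exact hπI p hp' (hπ p hp' (by omega)))
  have h5 := alt_index_ge (by omega) K hKA key.1
  omega

end Cfsg.Agent.Lib.Helper45.HA
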