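import Mathlib
import Cfsg.Agent.Lib.Helper45.HADefs

/-! HALL-ALT piece TransFull (project of helper45; S2538/S2535/S2534).
PLACEHOLDER: replace the `sorry`(s) in THIS file; keep theorem names and statements byte-identical;
keep the namespace; auxiliary lemmas go ABOVE the theorems and MUST start with the prefix `tf_`.
Paper proofs: see the note (topic "HALL-ALT"). -/

set_option autoImplicit false

namespace Cfsg.Agent.Lib.Helper45.HA

open Equiv Cfsg.Agent.Lib.Helper13

/-- the restriction of `K` to the complement of a point embeds into `K` -/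
theorem tf_restr_card_dvd {Ω : Type*} [Finite Ω] (K : Subgroup (Perm Ω)) (ω : Ω) :
    Nat.card ↥(HS.restr K ({ω}ᶜ : Set Ω)) ∣ Nat.card ↥K := by
  classical
  have hle : (HS.restr K ({ω}ᶜ : Set Ω)).map
      (Equiv.Perm.ofSubtype : Perm ↥({ω}ᶜ : Set Ω) →* Perm Ω) ≤ K := by
    rintro _ ⟨σ, ⟨h, hh, hσ⟩, rfl⟩
    have heq : Equiv.Perm.ofSubtype σ = h := by
      ext x
      by_cases hx : x ∈ ({ω}ᶜ : Set Ω)
      · rw [Equiv.Perm.ofSubtype_apply_of_mem σ hx]
        exact (hσ ⟨x, hx⟩).symm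
      · rw [Equiv.Perm.ofSubtype_apply_of_not_mem σ hx]
        have hxω : x = ω := by
          by_contra hne
          exact hx hne
        rw [hxω]
        by_contra hne
        have hmem : h ω ∈ ({ω}ᶜ : Set Ω) := fun hm => hne hm.symm
        have h1 := hσ (σ⁻¹ ⟨h ω, hmem⟩)
        have h2 : σ (σ⁻¹ ⟨h ω, hmem⟩) = ⟨h ω, hmem⟩ := by simp
        rw [h2] at h1
        have h3 := h.injective h1
        exact (σ⁻¹ ⟨h ω, hmem⟩).2 h3
    rw [heq]
    exact hh
  have hcard : Nat.card ↥((HS.restr K ({ω}ᶜ : Set Ω)).map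
      (Equiv.Perm.ofSubtype : Perm ↥({ω}ᶜ : Set Ω) →* Perm Ω)) =
      Nat.card ↥(HS.restr K ({ω}ᶜ : Set Ω)) :=
    Subgroup.card_map_of_injective Equiv.Perm.ofSubtype_injective
  rw [← hcard]
  exact Subgroup.card_dvd_of_le hle

/-- a transitive subgroup whose point stabiliser is the whole alternating group of the rest -/
theorem trans_full {Ω : Type*} [Finite Ω] (π : Set ℕ) (K : Subgroup (Perm Ω))
    (hK : Cfsg.IsPiHallOf π K (altG Ω)) (h2 : 2 ∈ π) (hA2 : HS.A2 π (Nat.card Ω))
    (htr : MulAction.IsPretransitive ↥K Ω) (h3 : 3 ≤ Nat.card Ω) (ω : Ω)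
    (h : altG ↥({ω}ᶜ : Set Ω) ≤ HS.restr K ({ω}ᶜ : Set Ω)) : False := by
  classical
  obtain ⟨r, hr, hrN, hrπ⟩ := hA2
  have hr2 : r ≠ 2 := fun e => hrπ (e ▸ h2)
  have hdvd : r ∣ Nat.card ↥K := by
    by_cases hrN' : r = Nat.card Ω
    · rw [hrN']
      have h1 : (MulAction.stabilizer ↥K ω).index = Nat.card Ω :=
        MulAction.index_stabilizer_of_transitive ↥K ω
      rw [← h1]
      exact Subgroup.index_dvd_card _
    · have hlt : r ≤ Nat.card Ω - 1 := by omega
      have hcs : Nat.card ↥({ω}ᶜ : Set Ω) = Nat.card Ω - 1 := by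
        rw [Nat.card_coe_set_eq, Set.ncard_compl, Set.ncard_singleton]
      have hr3 : 3 ≤ r := by
        have := hr.two_le
        omega
      have : Nontrivial ↥({ω}ᶜ : Set Ω) := by
        apply (Finite.one_lt_card_iff_nontrivial).1
        rw [hcs]
        omega
      have h2c : 2 * Nat.card ↥(altG ↥({ω}ᶜ : Set Ω)) =
          (Nat.card ↥({ω}ᶜ : Set Ω)).factorial := by
        let _ := Fintype.ofFinite ↥({ω}ᶜ : Set Ω)
        rw [altG_eq, two_mul_nat_card_alternatingGroup, Nat.card_eq_fintype_card,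
          Fintype.card_perm, Nat.card_eq_fintype_card]
      have h3' : r ∣ 2 * Nat.card ↥(altG ↥({ω}ᶜ : Set Ω)) := by
        rw [h2c, hcs]
        exact (Nat.Prime.dvd_factorial hr).2 hlt
      have h4 : r ∣ Nat.card ↥(altG ↥({ω}ᶜ : Set Ω)) := by
        rcases (Nat.Prime.dvd_mul hr).1 h3' with h5 | h5
        · exfalso
          exact hr2 ((Nat.prime_dvd_prime_iff_eq hr Nat.prime_two).1 h5)
        · exact h5
      exact h4.trans ((Subgroup.card_dvd_of_le h).trans (tf_restr_card_dvd K ω))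
  exact hrπ (hK.2.1 r hr hdvd)

end Cfsg.Agent.Lib.Helper45.HA
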