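import Mathlib
import Cfsg.Agent.Lib.Helper45.HADefs
import Cfsg.Agent.Lib.Helper45.HAPoint
import Cfsg.Agent.Lib.Helper45.HAChoose
import Cfsg.Agent.Lib.Helper45.HAThree

/-! HALL-ALT piece TransNine (project of helper45; S2538/S2535/S2534).
Filled in by helper85 (auxiliary lemmas have the prefix `t9_`).
Paper proofs: see the note (topic "HALL-ALT"). -/

set_option autoImplicit false

namespace Cfsg.Agent.Lib.Helper45.HA

open Equiv Cfsg.Agent.Lib.Helper13

theorem t9_fix {Ω : Type*} (h : Perm Ω) (ω : Ω) (a : Perm ↥({ω}ᶜ : Set Ω))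
    (hh : ∀ y : ↥({ω}ᶜ : Set Ω), h (y : Ω) = (a y : Ω)) : h ω = ω := by
  by_contra hne
  have h1 := hh (a.symm ⟨h ω, hne⟩)
  rw [Equiv.apply_symm_apply] at h1
  have h2 := h.injective h1
  exact (a.symm ⟨h ω, hne⟩).2 h2

theorem t9_choose (m : ℕ) (h0 : 0 < m) (h8 : m < 8) : 2 ∣ Nat.choose 8 m := by
  interval_cases m <;> decide

theorem trans_nine {Ω : Type*} [Finite Ω] (π : Set ℕ) (K : Subgroup (Perm Ω))
    (h9 : Nat.card Ω = 9) (hCd : HS.Cd π 8) (hK : Cfsg.IsPiHallOf π K (altG Ω))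
    (htr : MulAction.IsPretransitive ↥K Ω) : False := by
  classical
  obtain ⟨-, hπ⟩ := hCd
  have h2π : 2 ∈ π := (hπ 2 Nat.prime_two (by norm_num)).mpr (Or.inl rfl)
  have h3π : 3 ∈ π := (hπ 3 Nat.prime_three (by norm_num)).mpr (Or.inr rfl)
  have h5π : 5 ∉ π := by
    intro h
    rcases (hπ 5 (by norm_num) (by norm_num)).mp h with h | h <;> omega
  have hne : Nonempty Ω := by
    have h0 : 0 < Nat.card Ω := by rw [h9]; norm_num
    exact (Nat.card_pos_iff.mp h0).1
  obtain ⟨ω⟩ := hne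
  obtain ⟨hK', -, -⟩ := hallA_point π K hK htr ω
  have h8 : Nat.card ↥({ω}ᶜ : Set Ω) = 8 := by
    have h := Set.ncard_add_ncard_compl ({ω} : Set Ω)
    rw [Set.ncard_singleton, h9] at h
    rw [Nat.card_coe_set_eq]
    omega
  -- the point stabiliser is transitive on the remaining 8 points
  have htr' : MulAction.IsPretransitive ↥(HS.restr K ({ω}ᶜ : Set Ω)) ↥({ω}ᶜ : Set Ω) := by
    have hne' : Nonempty ↥({ω}ᶜ : Set Ω) := by
      have h0 : 0 < Nat.card ↥({ω}ᶜ : Set Ω) := by rw [h8]; norm_num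
      exact (Nat.card_pos_iff.mp h0).1
    obtain ⟨y₀⟩ := hne'
    rw [MulAction.isPretransitive_iff_orbit_eq_univ y₀]
    obtain ⟨s, hs⟩ : ∃ s : Set ↥({ω}ᶜ : Set Ω),
        s = MulAction.orbit ↥(HS.restr K ({ω}ᶜ : Set Ω)) y₀ := ⟨_, rfl⟩
    rw [← hs]
    have hinv : ∀ k ∈ HS.restr K ({ω}ᶜ : Set Ω), ∀ x ∈ s, k x ∈ s := by
      intro k hk x hx
      rw [hs] at hx ⊢
      exact MulAction.mem_orbit_of_mem_orbit (⟨k, hk⟩ : ↥(HS.restr K ({ω}ᶜ : Set Ω))) hx
    have hpos : 0 < s.ncard := by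
      rw [Set.ncard_pos]
      exact ⟨y₀, by rw [hs]; exact MulAction.mem_orbit_self y₀⟩
    have hch := hallA_choose π (HS.restr K ({ω}ᶜ : Set Ω)) hK' s hinv (by rw [h8]; norm_num) 2
      Nat.prime_two h2π
    rw [h8] at hch
    have hle : s.ncard ≤ 8 := by
      rw [← h8]
      exact Set.ncard_le_card s
    have hs8 : s.ncard = 8 := by
      by_contra hne8
      exact hch (t9_choose s.ncard hpos (by omega))
    rw [Set.eq_univ_iff_ncard, hs8, h8]
  -- hence `K` is primitive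
  have hprim : MulAction.IsPreprimitive ↥K Ω := by
    apply MulAction.IsPreprimitive.of_isTrivialBlock_base ω
    intro B hωB hB
    by_cases hsub : B.Subsingleton
    · exact Or.inl hsub
    · right
      rw [Set.not_subsingleton_iff] at hsub
      obtain ⟨b, hbB, hbω⟩ := hsub.exists_ne ω
      rw [Set.eq_univ_iff_forall]
      intro y
      by_cases hy : y = ω
      · rw [hy]
        exact hωB
      · obtain ⟨k', hk'⟩ := MulAction.exists_smul_eq ↥(HS.restr K ({ω}ᶜ : Set Ω))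
          (⟨b, hbω⟩ : ↥({ω}ᶜ : Set Ω)) ⟨y, hy⟩
        obtain ⟨h, hhK, hh⟩ := k'.2
        have hhω : h ω = ω := t9_fix h ω (k' : Perm ↥({ω}ᶜ : Set Ω)) hh
        have hhb : h b = y := by
          have h1 := hh ⟨b, hbω⟩
          rw [h1]
          exact congrArg Subtype.val hk'
        have hωB' : (⟨h, hhK⟩ : ↥K) • ω ∈ B := by
          show h ω ∈ B
          rw [hhω]
          exact hωB
        have hBB := hB.smul_eq_of_mem (g := (⟨h, hhK⟩ : ↥K)) hωB hωB'
        rw [← hBB]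
        exact ⟨b, hbB, hhb⟩
  have hle := alt_le_of_prim π K hK h3π (by rw [h9]; norm_num) hprim
  exact h5π (hallA_top_primes π K hK hle 5 (by norm_num) (by norm_num) (by rw [h9]; norm_num))

end Cfsg.Agent.Lib.Helper45.HA
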