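import Mathlib
import Cfsg.Agent.Lib.Helper45.HADefs

/-! HALL-ALT piece TwoInv (project of helper45; S2538/S2535/S2534), proved by helper77.
Auxiliary lemmas start with the prefix `tinv_`.
Paper proofs: see the note (topic "HALL-ALT"). -/

set_option autoImplicit false

namespace Cfsg.Agent.Lib.Helper45.HA

open Equiv Cfsg.Agent.Lib.Helper13

/-- `(0 1)(2 3)` on five points -/
def tinv_u0 : Perm (Fin 5) := swap 0 1 * swap 2 3

/-- `(0 2)(1 3)` on five points -/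
def tinv_v0 : Perm (Fin 5) := swap 0 2 * swap 1 3

/-- the four-group on the first four of five points, as a finset -/
def tinv_S : Finset (Perm (Fin 5)) := {1, tinv_u0, tinv_v0, tinv_u0 * tinv_v0}

set_option maxRecDepth 100000 in
theorem tinv_S_mul : ∀ x ∈ tinv_S, ∀ y ∈ tinv_S, x * y ∈ tinv_S := by decide

set_option maxRecDepth 100000 in
theorem tinv_S_inv : ∀ x ∈ tinv_S, x⁻¹ ∈ tinv_S := by decide

set_option maxRecDepth 100000 in
theorem tinv_S_sq : ∀ x ∈ tinv_S, x ^ 2 = 1 := by decide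

set_option maxRecDepth 100000 in
theorem tinv_S_sign : ∀ x ∈ tinv_S, Perm.sign x = 1 := by decide

/-- the four-group on the first four of five points -/
def tinv_V0 : Subgroup (Perm (Fin 5)) where
  carrier := {x | x ∈ tinv_S}
  mul_mem' := fun {x y} hx hy => tinv_S_mul x hx y hy
  one_mem' := by decide
  inv_mem' := fun {x} hx => tinv_S_inv x hx

theorem tinv_facts : tinv_u0 ∈ tinv_S ∧ tinv_v0 ∈ tinv_S ∧ tinv_u0 * tinv_u0 = 1 ∧
    tinv_v0 * tinv_v0 = 1 ∧ tinv_u0 ≠ 1 ∧ tinv_v0 ≠ 1 ∧ tinv_u0 ≠ tinv_v0 ∧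
    tinv_u0 4 = 4 ∧ tinv_v0 4 = 4 := by decide

theorem tinv_sign_via {Ω : Type*} [Fintype Ω] [DecidableEq Ω] (f : Fin 5 ↪ Ω)
    (x : Perm (Fin 5)) : Perm.sign (Perm.viaEmbeddingHom f x) = Perm.sign x := by
  classical
  rw [Perm.viaEmbeddingHom_apply]
  unfold Perm.viaEmbedding
  convert Perm.sign_extendDomain x (Equiv.ofInjective f.1 f.2)

/-- a Hall `π`-subgroup (`2 ∈ π`) of the alternating group of degree `≥ 5` contains two distinct
involutions with a common fixed point (a conjugate of the Klein four-group on four points) -/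
theorem two_invol {Ω : Type*} [Finite Ω] (π : Set ℕ) (K : Subgroup (Perm Ω))
    (hK : Cfsg.IsPiHallOf π K (altG Ω)) (h2 : 2 ∈ π) (h5 : 5 ≤ Nat.card Ω) :
    ∃ (ω : Ω) (g g' : Perm Ω), g ∈ K ∧ g' ∈ K ∧ g ω = ω ∧ g' ω = ω ∧ g * g = 1 ∧ g' * g' = 1 ∧
      g ≠ 1 ∧ g' ≠ 1 ∧ g ≠ g' := by
  classical
  let _ : Fintype Ω := Fintype.ofFinite Ω
  have : Fact (Nat.Prime 2) := ⟨Nat.prime_two⟩
  obtain ⟨f⟩ : Nonempty (Fin 5 ↪ Ω) := by
    apply Function.Embedding.nonempty_of_card_le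
    rw [Fintype.card_fin, ← Nat.card_eq_fintype_card]
    exact h5
  obtain ⟨hu0S, hv0S, hu0u0, hv0v0, hu01, hv01, hu0v0, hu04, hv04⟩ := tinv_facts
  let φ : Perm (Fin 5) →* Perm Ω := Perm.viaEmbeddingHom f
  have hφinj : Function.Injective φ := Perm.viaEmbeddingHom_injective f
  have hφA : ∀ x ∈ tinv_S, φ x ∈ altG Ω := by
    intro x hx
    rw [mem_altG, tinv_sign_via, tinv_S_sign x hx]
  -- the images of the two involutions
  set u : Perm Ω := φ tinv_u0 with hu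
  set v : Perm Ω := φ tinv_v0 with hv
  have huu : u * u = 1 := by rw [hu, ← map_mul, hu0u0, map_one]
  have hvv : v * v = 1 := by rw [hv, ← map_mul, hv0v0, map_one]
  have hu1 : u ≠ 1 := fun h => hu01 (hφinj (by rw [map_one]; exact h))
  have hv1 : v ≠ 1 := fun h => hv01 (hφinj (by rw [map_one]; exact h))
  have huv : u ≠ v := fun h => hu0v0 (hφinj h)
  have hue : u (f 4) = f 4 := by
    have := Perm.viaEmbedding_apply tinv_u0 f 4
    rw [hu04] at this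
    exact this
  have hve : v (f 4) = f 4 := by
    have := Perm.viaEmbedding_apply tinv_v0 f 4
    rw [hv04] at this
    exact this
  -- the four-group inside the alternating group
  let V : Subgroup ↥(altG Ω) := (tinv_V0.map φ).subgroupOf (altG Ω)
  have hVp : IsPGroup 2 ↥V := by
    intro w
    refine ⟨1, ?_⟩
    obtain ⟨x, hx, hxw⟩ := Subgroup.mem_subgroupOf.mp w.2
    apply Subtype.ext
    apply Subtype.ext
    show ((w : ↥(altG Ω)) : Perm Ω) ^ 2 ^ 1 = 1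
    rw [← hxw, pow_one, ← map_pow, tinv_S_sq x hx, map_one]
  -- the action on the cosets of `K`
  have hodd : ¬ 2 ∣ Nat.card (↥(altG Ω) ⧸ K.subgroupOf (altG Ω)) := by
    have h := hK.2.2 2 Nat.prime_two h2
    exact h
  obtain ⟨q, hq⟩ := hVp.nonempty_fixed_point_of_prime_not_dvd_card
    (↥(altG Ω) ⧸ K.subgroupOf (altG Ω)) hodd
  obtain ⟨x, rfl⟩ := QuotientGroup.mk_surjective q
  have key : ∀ y ∈ tinv_S, (x : Perm Ω)⁻¹ * (φ y)⁻¹ * (x : Perm Ω) ∈ K := by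
    intro y hy
    have hmem : (⟨φ y, hφA y hy⟩ : ↥(altG Ω)) ∈ V :=
      Subgroup.mem_subgroupOf.mpr ⟨y, hy, rfl⟩
    have h1 := hq ⟨⟨φ y, hφA y hy⟩, hmem⟩
    have h2 : ((⟨φ y, hφA y hy⟩ * x : ↥(altG Ω)) : ↥(altG Ω) ⧸ K.subgroupOf (altG Ω)) =
        (x : ↥(altG Ω) ⧸ K.subgroupOf (altG Ω)) := h1
    rw [QuotientGroup.eq] at h2
    have h3 := Subgroup.mem_subgroupOf.mp h2
    have h4 : (((⟨φ y, hφA y hy⟩ * x : ↥(altG Ω))⁻¹ * x : ↥(altG Ω)) : Perm Ω) =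
        (x : Perm Ω)⁻¹ * (φ y)⁻¹ * (x : Perm Ω) := by
      show ((φ y) * (x : Perm Ω))⁻¹ * (x : Perm Ω) = _
      rw [mul_inv_rev]
    rw [h4] at h3
    exact h3
  have huinv : u⁻¹ = u := inv_eq_of_mul_eq_one_left huu
  have hvinv : v⁻¹ = v := inv_eq_of_mul_eq_one_left hvv
  have hgK := key tinv_u0 hu0S
  have hgK' := key tinv_v0 hv0S
  rw [← hu, huinv] at hgK
  rw [← hv, hvinv] at hgK'
  refine ⟨(x : Perm Ω)⁻¹ (f 4), (x : Perm Ω)⁻¹ * u * (x : Perm Ω),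
    (x : Perm Ω)⁻¹ * v * (x : Perm Ω), hgK, hgK', ?_, ?_, ?_, ?_, ?_, ?_, ?_⟩
  · simp [hue]
  · simp [hve]
  · calc (x : Perm Ω)⁻¹ * u * (x : Perm Ω) * ((x : Perm Ω)⁻¹ * u * (x : Perm Ω))
        = (x : Perm Ω)⁻¹ * (u * u) * (x : Perm Ω) := by group
      _ = 1 := by rw [huu]; group
  · calc (x : Perm Ω)⁻¹ * v * (x : Perm Ω) * ((x : Perm Ω)⁻¹ * v * (x : Perm Ω))
        = (x : Perm Ω)⁻¹ * (v * v) * (x : Perm Ω) := by group
      _ = 1 := by rw [hvv]; group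
  · intro h
    apply hu1
    calc u = (x : Perm Ω) * ((x : Perm Ω)⁻¹ * u * (x : Perm Ω)) * (x : Perm Ω)⁻¹ := by group
      _ = 1 := by rw [h]; group
  · intro h
    apply hv1
    calc v = (x : Perm Ω) * ((x : Perm Ω)⁻¹ * v * (x : Perm Ω)) * (x : Perm Ω)⁻¹ := by group
      _ = 1 := by rw [h]; group
  · intro h
    apply huv
    calc u = (x : Perm Ω) * ((x : Perm Ω)⁻¹ * u * (x : Perm Ω)) * (x : Perm Ω)⁻¹ := by group
      _ = (x : Perm Ω) * ((x : Perm Ω)⁻¹ * v * (x : Perm Ω)) * (x : Perm Ω)⁻¹ := by rw [h]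
      _ = v := by group

end Cfsg.Agent.Lib.Helper45.HA
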