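import Mathlib

/-!
# Normal elementary abelian 2-subgroups (definitions for S2249 / S2250)
-/

set_option autoImplicit false

namespace Cfsg.Agent.Lib.Helper45.NRank

/-- `T` has a normal elementary abelian `2`-subgroup of order `2 ^ k`. -/
def NEA (T : Type*) [Group T] (k : ℕ) : Prop :=
  ∃ E : Subgroup T, E.Normal ∧ (∀ a ∈ E, ∀ b ∈ E, a * b = b * a) ∧ (∀ a ∈ E, a ^ 2 = 1) ∧
    Nat.card E = 2 ^ k

end Cfsg.Agent.Lib.Helper45.NRank
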