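import Mathlib

/-!
# Joint eigenspaces of a group of linear automorphisms (definition for S2249)
-/

set_option autoImplicit false

namespace Cfsg.Agent.Lib.Helper45.NRank

/-- the joint eigenspace of a subgroup `E` of `GL(V)` for the "character" `χ : E → F` -/
def jointEig {F : Type*} [Field F] {V : Type*} [AddCommGroup V] [Module F V]
    (E : Subgroup (V ≃ₗ[F] V)) (χ : E → F) : Submodule F V :=
  ⨅ e : E, LinearMap.ker (((e : V ≃ₗ[F] V) : V →ₗ[F] V) - χ e • LinearMap.id)

theorem mem_jointEig {F : Type*} [Field F] {V : Type*} [AddCommGroup V] [Module F V]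
    (E : Subgroup (V ≃ₗ[F] V)) (χ : E → F) (w : V) :
    w ∈ jointEig E χ ↔ ∀ e : E, (e : V ≃ₗ[F] V) w = χ e • w := by
  unfold jointEig
  rw [Submodule.mem_iInf]
  refine forall_congr' fun e => ?_
  rw [LinearMap.mem_ker, LinearMap.sub_apply, sub_eq_zero]
  rfl

end Cfsg.Agent.Lib.Helper45.NRank
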