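import Mathlib

set_option autoImplicit false

/-!
Arithmetic behind "`PSL₂(q)` is maximal in `PSL₂(q^r)`": comparison of the orders
`q (q² - 1) / gcd(2, q - 1)` of subfield subgroups.
-/

namespace Cfsg.Agent.Lib.Helper45.PslMax

/-- `(p^(2a) - 1) ∣ 2 (p^(2b) - 1)` forces `a ∣ b`. -/
theorem pm_dvd_of_pow (p a b : ℕ) (hp : 2 ≤ p) (ha : 1 ≤ a)
    (h : p ^ (2 * a) - 1 ∣ 2 * (p ^ (2 * b) - 1)) : a ∣ b := by
  have hg : Nat.gcd (p ^ (2 * a) - 1) (p ^ (2 * b) - 1) = p ^ (2 * Nat.gcd a b) - 1 := by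
    rw [Nat.pow_sub_one_gcd_pow_sub_one, Nat.gcd_mul_left]
  have h2 : p ^ (2 * a) - 1 ∣ 2 * (p ^ (2 * Nat.gcd a b) - 1) := by
    rw [← hg, ← Nat.gcd_mul_left]
    exact Nat.dvd_gcd (Dvd.intro_left 2 rfl) h
  by_contra hnd
  obtain ⟨c, hc⟩ := Nat.gcd_dvd_left a b
  have hgpos : 0 < Nat.gcd a b := Nat.gcd_pos_of_pos_left b ha
  have hc2 : 2 ≤ c := by
    rcases c with _ | _ | c
    · rw [mul_zero] at hc; omega
    · exfalso
      apply hnd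
      have hc' : a = Nat.gcd a b := by omega
      rw [hc']
      exact Nat.gcd_dvd_right a b
    · omega
  have hW : 4 ≤ p ^ (2 * Nat.gcd a b) := by
    calc 4 = 2 ^ 2 := by norm_num
      _ ≤ p ^ 2 := Nat.pow_le_pow_left hp 2
      _ ≤ p ^ (2 * Nat.gcd a b) := Nat.pow_le_pow_right (by omega) (by omega)
  have hpa : p ^ (2 * a) = (p ^ (2 * Nat.gcd a b)) ^ c := by
    rw [← pow_mul, mul_assoc, ← hc]
  have hWc : (p ^ (2 * Nat.gcd a b)) ^ 2 ≤ (p ^ (2 * Nat.gcd a b)) ^ c :=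
    Nat.pow_le_pow_right (by omega) hc2
  have hle : p ^ (2 * a) - 1 ≤ 2 * (p ^ (2 * Nat.gcd a b) - 1) :=
    Nat.le_of_dvd (by omega) h2
  rw [hpa] at hle
  have h4 : 4 * p ^ (2 * Nat.gcd a b) ≤ (p ^ (2 * Nat.gcd a b)) ^ 2 := by
    rw [pow_two]
    exact Nat.mul_le_mul_right _ hW
  omega

/-- `p^n - 1` is prime to `p^m`. -/
theorem pm_coprime (p n m : ℕ) (hp : p.Prime) (hn : 1 ≤ n) : Nat.Coprime (p ^ n - 1) (p ^ m) := by
  apply Nat.Coprime.pow_right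
  rw [Nat.coprime_comm, hp.coprime_iff_not_dvd]
  intro hd
  have h1 : p ∣ p ^ n := dvd_pow_self p (by omega)
  have h2 : 1 ≤ p ^ n := Nat.one_le_pow _ _ hp.pos
  have h3 : p ∣ 1 := by
    have h4 : p ^ n = (p ^ n - 1) + 1 := by omega
    rw [h4] at h1
    exact (Nat.dvd_add_right hd).1 h1
  exact hp.one_lt.ne' (Nat.dvd_one.1 h3)

theorem pm_geo (y r : ℕ) : (y + 1) ^ r = y * (∑ i ∈ Finset.range r, (y + 1) ^ i) + 1 := by
  induction r with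
  | zero => simp
  | succ r ih =>
    have e : y * (∑ x ∈ Finset.range r, (y + 1) ^ x + (y + 1) ^ r) + 1
        = (y * ∑ i ∈ Finset.range r, (y + 1) ^ i + 1) + y * (y + 1) ^ r := by ring
    rw [Finset.sum_range_succ, e, ← ih]
    ring

theorem pm_sum_parity (x r : ℕ) (hx : Odd x) : (∑ i ∈ Finset.range r, x ^ i) % 2 = r % 2 := by
  induction r with
  | zero => simp
  | succ r ih =>
    have h1 : x ^ r % 2 = 1 := Nat.odd_iff.1 hx.pow
    rw [Finset.sum_range_succ]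
    omega

/-- `2 q (q² - 1)` does not divide `q^r (q^(2r) - 1)` for odd `q ≥ 2` and odd `r`. -/
theorem pm_not_dvd (q r : ℕ) (hq : Odd q) (hq2 : 2 ≤ q) (hr : Odd r) :
    ¬ 2 * (q * (q ^ 2 - 1)) ∣ q ^ r * ((q ^ r) ^ 2 - 1) := by
  intro h
  obtain ⟨y, hy⟩ : ∃ y, q ^ 2 = y + 1 := ⟨q ^ 2 - 1, by have := Nat.one_le_pow 2 q (by omega); omega⟩
  have hy0 : 0 < y := by
    have : 2 ^ 2 ≤ q ^ 2 := Nat.pow_le_pow_left hq2 2
    omega
  have e1 : (q ^ r) ^ 2 = (y + 1) ^ r := by rw [← hy, ← pow_mul, ← pow_mul, mul_comm]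
  have e2 : (q ^ r) ^ 2 - 1 = y * (∑ i ∈ Finset.range r, (y + 1) ^ i) := by
    rw [e1, pm_geo y r]; simp
  have e3 : q ^ 2 - 1 = y := by omega
  rw [e2, e3] at h
  have h' : (2 * q) * y ∣ (q ^ r * (∑ i ∈ Finset.range r, (y + 1) ^ i)) * y := by
    have e4 : (2 * q) * y = 2 * (q * y) := by ring
    have e5 : (q ^ r * (∑ i ∈ Finset.range r, (y + 1) ^ i)) * y
        = q ^ r * (y * (∑ i ∈ Finset.range r, (y + 1) ^ i)) := by ring
    rw [e4, e5]; exact h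
  have h2 : 2 * q ∣ q ^ r * (∑ i ∈ Finset.range r, (y + 1) ^ i) :=
    Nat.dvd_of_mul_dvd_mul_right hy0 h'
  have h3 : 2 ∣ q ^ r * (∑ i ∈ Finset.range r, (y + 1) ^ i) := dvd_trans (Dvd.intro _ rfl) h2
  have hodd1 : Odd (q ^ r) := hq.pow
  have hodd2 : Odd (∑ i ∈ Finset.range r, (y + 1) ^ i) := by
    rw [Nat.odd_iff, pm_sum_parity (y + 1) r (by rw [← hy]; exact hq.pow)]
    exact Nat.odd_iff.1 hr
  have := (hodd1.mul hodd2)
  rw [Nat.odd_iff] at this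
  omega


/-- a subgroup with the order of `PSL₂(q)` or `PGL₂(q)` properly containing one of the order of
`PSL₂(q)` does not sit inside `PSL₂(q^r)` -/
theorem pm_same (q r k h ℓ g : ℕ) (hq3 : 3 ≤ q) (hr : r.Prime) (hodd : Odd q → r ≠ 2)
    (hh : Nat.gcd 2 (q - 1) * h = q * (q ^ 2 - 1))
    (hg : Nat.gcd 2 (q ^ r - 1) * g = q ^ r * ((q ^ r) ^ 2 - 1))
    (hℓ : ℓ = k * q * (1 + q)) (hk : k = q - 1 ∨ 2 * k = q - 1)
    (h2 : h < ℓ) (h3 : ℓ ∣ g) : False := by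
  obtain ⟨m, rfl⟩ : ∃ m, q = m + 1 := ⟨q - 1, by omega⟩
  have e1 : (m + 1) ^ 2 - 1 = m * (m + 2) := by
    have : (m + 1) ^ 2 = m * (m + 2) + 1 := by ring
    omega
  have e0 : m + 1 - 1 = m := by omega
  rw [e0] at hh hk
  rw [e1] at hh
  rcases Nat.even_or_odd (m + 1) with hev | hod
  · have hm : Odd m := by
      rcases Nat.even_or_odd m with h | h
      · exact absurd hev (Nat.not_even_iff_odd.2 h.add_one)
      · exact h
    have hgcd : Nat.gcd 2 m = 1 := Nat.coprime_two_left.2 hm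
    rw [hgcd, one_mul] at hh
    rcases hk with hk | hk
    · have : ℓ = h := by rw [hℓ, hh, hk]; ring
      omega
    · obtain ⟨j, hj⟩ := hm
      omega
  · have hm : 2 ∣ m := by
      obtain ⟨j, hj⟩ := hod
      exact ⟨j, by omega⟩
    have hgcd : Nat.gcd 2 m = 2 := Nat.gcd_eq_left hm
    rw [hgcd] at hh
    rcases hk with hk | hk
    · have hQodd : Odd ((m + 1) ^ r) := hod.pow
      have hQ2 : 2 ∣ (m + 1) ^ r - 1 := by
        obtain ⟨j, hj⟩ := hQodd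
        exact ⟨j, by omega⟩
      have hgcd2 : Nat.gcd 2 ((m + 1) ^ r - 1) = 2 := Nat.gcd_eq_left hQ2
      rw [hgcd2] at hg
      have hrodd : Odd r := by
        rcases hr.eq_two_or_odd' with h | h
        · exact absurd h (hodd hod)
        · exact h
      apply pm_not_dvd (m + 1) r hod (by omega) hrodd
      rw [← hg, e1]
      have : (m + 1) * (m * (m + 2)) = ℓ := by rw [hℓ, hk]; ring
      rw [this]
      exact Nat.mul_dvd_mul_left 2 h3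
    · have : 2 * ℓ = 2 * h := by
        rw [hh, hℓ]
        calc 2 * (k * (m + 1) * (1 + (m + 1))) = (2 * k) * (m + 1) * (1 + (m + 1)) := by ring
          _ = (m + 1) * (m * (m + 2)) := by rw [hk]; ring
      omega

/-- the subfield case -/
theorem pm_arith (p a r b k h ℓ g : ℕ) (hp : p.Prime) (ha : 1 ≤ a) (hr : r.Prime)
    (hodd : p ≠ 2 → r ≠ 2) (hq3 : 3 ≤ p ^ a) (hb3 : 3 ≤ p ^ b)
    (hh : Nat.gcd 2 (p ^ a - 1) * h = p ^ a * ((p ^ a) ^ 2 - 1))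
    (hg : Nat.gcd 2 ((p ^ a) ^ r - 1) * g = (p ^ a) ^ r * (((p ^ a) ^ r) ^ 2 - 1))
    (hℓ : ℓ = k * p ^ b * (1 + p ^ b)) (hk : k = p ^ b - 1 ∨ 2 * k = p ^ b - 1)
    (h1 : h ∣ ℓ) (h2 : h < ℓ) (h3 : ℓ ∣ g) : p ^ b = (p ^ a) ^ r := by
  have hb : 1 ≤ b := by
    by_contra hb0
    have : b = 0 := by omega
    rw [this, pow_zero] at hb3
    omega
  -- `d' * ℓ = q' (q'^2 - 1)` with `d' ∣ 2`
  obtain ⟨d', hd'2, hd'ℓ⟩ : ∃ d', d' ∣ 2 ∧ d' * ℓ = p ^ b * ((p ^ b) ^ 2 - 1) := by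
    obtain ⟨m, hm⟩ : ∃ m, p ^ b = m + 1 := ⟨p ^ b - 1, by omega⟩
    rw [hm] at hℓ hk ⊢
    have e1 : (m + 1) ^ 2 - 1 = m * (m + 2) := by
      have : (m + 1) ^ 2 = m * (m + 2) + 1 := by ring
      omega
    have e0 : m + 1 - 1 = m := by omega
    rw [e0] at hk
    rw [e1]
    rcases hk with hk | hk
    · exact ⟨1, one_dvd _, by rw [hℓ, hk]; ring⟩
    · refine ⟨2, dvd_rfl, ?_⟩
      rw [hℓ]
      calc 2 * (k * (m + 1) * (1 + (m + 1))) = (2 * k) * (m + 1) * (1 + (m + 1)) := by ring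
        _ = (m + 1) * (m * (m + 2)) := by rw [hk]; ring
  have e1 : (p ^ a) ^ 2 = p ^ (2 * a) := by rw [← pow_mul, mul_comm]
  have e2 : (p ^ b) ^ 2 = p ^ (2 * b) := by rw [← pow_mul, mul_comm]
  have e3 : ((p ^ a) ^ r) ^ 2 = p ^ (2 * (a * r)) := by
    rw [← pow_mul, ← pow_mul]; congr 1; ring
  have e4 : (p ^ a) ^ r = p ^ (a * r) := by rw [← pow_mul]
  have hα : p ^ (2 * a) - 1 ∣ 2 * (p ^ (2 * b) - 1) := by
    have h5 : p ^ a * ((p ^ a) ^ 2 - 1) ∣ 2 * (p ^ b * ((p ^ b) ^ 2 - 1)) := by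
      rw [← hh, ← hd'ℓ]
      exact Nat.mul_dvd_mul (Nat.gcd_dvd_left 2 _) (dvd_mul_of_dvd_right h1 d')
    have h6 : (p ^ a) ^ 2 - 1 ∣ p ^ b * (2 * ((p ^ b) ^ 2 - 1)) := by
      have e : p ^ b * (2 * ((p ^ b) ^ 2 - 1)) = 2 * (p ^ b * ((p ^ b) ^ 2 - 1)) := by ring
      rw [e]
      exact dvd_trans (Dvd.intro_left _ rfl) h5
    rw [e1, e2] at h6
    exact Nat.Coprime.dvd_of_dvd_mul_left (pm_coprime p (2 * a) b hp (by omega)) h6
  have hγ : p ^ (2 * b) - 1 ∣ 2 * (p ^ (2 * (a * r)) - 1) := by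
    have h5 : p ^ b * ((p ^ b) ^ 2 - 1) ∣ 2 * ((p ^ a) ^ r * (((p ^ a) ^ r) ^ 2 - 1)) := by
      rw [← hg, ← hd'ℓ]
      exact Nat.mul_dvd_mul hd'2 (dvd_mul_of_dvd_right h3 _)
    have h6 : (p ^ b) ^ 2 - 1 ∣ (p ^ a) ^ r * (2 * (((p ^ a) ^ r) ^ 2 - 1)) := by
      have e : (p ^ a) ^ r * (2 * (((p ^ a) ^ r) ^ 2 - 1))
          = 2 * ((p ^ a) ^ r * (((p ^ a) ^ r) ^ 2 - 1)) := by ring
      rw [e]
      exact dvd_trans (Dvd.intro_left _ rfl) h5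
    rw [e2, e3, e4] at h6
    exact Nat.Coprime.dvd_of_dvd_mul_left (pm_coprime p (2 * b) (a * r) hp (by omega)) h6
  have hab : a ∣ b := pm_dvd_of_pow p a b hp.two_le ha hα
  have hbr : b ∣ a * r := pm_dvd_of_pow p b (a * r) hp.two_le hb hγ
  obtain ⟨c, rfl⟩ := hab
  have hcr : c ∣ r := Nat.dvd_of_mul_dvd_mul_left (by omega) hbr
  rcases (Nat.dvd_prime hr).1 hcr with rfl | rfl
  · exfalso
    rw [mul_one] at hℓ hk
    refine pm_same (p ^ a) r k h ℓ g hq3 hr ?_ hh hg hℓ hk h2 h3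
    intro hoddq
    apply hodd
    rintro rfl
    have : Even (2 ^ a) := (Nat.even_pow' (by omega)).2 even_two
    exact (Nat.not_even_iff_odd.2 hoddq) this
  · rw [pow_mul]

/-- the cases `A₄`, `S₄`, `A₅` -/
theorem pm_small (q r h ℓ g : ℕ) (hq3 : 3 ≤ q) (hr : r.Prime) (hodd : Odd q → r ≠ 2)
    (hh : Nat.gcd 2 (q - 1) * h = q * (q ^ 2 - 1))
    (hg : Nat.gcd 2 (q ^ r - 1) * g = q ^ r * ((q ^ r) ^ 2 - 1))
    (hℓ : ℓ = 12 ∨ ℓ = 24 ∨ ℓ = 60) (h1 : h ∣ ℓ) (h2 : h < ℓ) (h3 : ℓ ∣ g) : False := by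
  have hd : Nat.gcd 2 (q - 1) ≤ 2 := Nat.le_of_dvd (by norm_num) (Nat.gcd_dvd_left 2 _)
  by_cases hq6 : 6 ≤ q
  · have h5 : 6 * 35 ≤ q * (q ^ 2 - 1) := by
      have : 6 ^ 2 ≤ q ^ 2 := Nat.pow_le_pow_left hq6 2
      exact Nat.mul_le_mul hq6 (by omega)
    have h6 : Nat.gcd 2 (q - 1) * h ≤ 2 * h := Nat.mul_le_mul_right h hd
    omega
  · have hq5 : q ≤ 5 := by omega
    interval_cases q
    · -- q = 3
      have e : Nat.gcd 2 (3 - 1) = 2 := by decide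
      rw [e] at hh
      have hh12 : h = 12 := by norm_num at hh; omega
      have hrodd : Odd r := by
        rcases hr.eq_two_or_odd' with h | h
        · exact absurd h (hodd (by decide))
        · exact h
      obtain ⟨j, hj⟩ := hrodd
      have hQ2 : 2 ∣ 3 ^ r - 1 := by
        have : Odd (3 ^ r) := Odd.pow (by decide)
        obtain ⟨i, hi⟩ := this
        exact ⟨i, by omega⟩
      have e2 : Nat.gcd 2 (3 ^ r - 1) = 2 := Nat.gcd_eq_left hQ2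
      rw [e2] at hg
      have e9 : (3 ^ r) ^ 2 = 9 ^ r := by rw [← pow_mul, mul_comm, pow_mul]; norm_num
      rw [e9] at hg
      have h9pos : 1 ≤ 9 ^ r := Nat.one_le_pow _ _ (by norm_num)
      have m16 : 9 ^ r % 16 = 9 := by
        rw [hj, pow_succ, pow_mul, Nat.mul_mod, Nat.pow_mod]; norm_num
      have m5 : 9 ^ r % 5 = 4 := by
        rw [hj, pow_succ, pow_mul, Nat.mul_mod, Nat.pow_mod]; norm_num
      have m3 : Nat.Coprime 16 (3 ^ r) := Nat.Coprime.pow_right _ (by decide)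
      have m3' : Nat.Coprime 5 (3 ^ r) := Nat.Coprime.pow_right _ (by decide)
      rcases hℓ with rfl | rfl | rfl
      · omega
      · have h48 : 48 ∣ 3 ^ r * (9 ^ r - 1) := by
          rw [← hg]; exact Nat.mul_dvd_mul_left 2 h3
        have h16 : 16 ∣ 3 ^ r * (9 ^ r - 1) := dvd_trans (by norm_num) h48
        have := m3.dvd_of_dvd_mul_left h16
        omega
      · have h5 : 5 ∣ 3 ^ r * (9 ^ r - 1) := by
          rw [← hg]; exact dvd_trans (dvd_trans (by norm_num) h3) (Dvd.intro_left 2 rfl)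
        have := m3'.dvd_of_dvd_mul_left h5
        omega
    · -- q = 4
      have e : Nat.gcd 2 (4 - 1) = 1 := by decide
      rw [e] at hh
      norm_num at hh
      rcases hℓ with rfl | rfl | rfl <;> omega
    · -- q = 5
      have e : Nat.gcd 2 (5 - 1) = 2 := by decide
      rw [e] at hh
      norm_num at hh
      rcases hℓ with rfl | rfl | rfl <;> omega

/-- `PSL₂(q)` is smaller than `PSL₂(q^r)`. -/
theorem pm_lt (q r h g : ℕ) (hq3 : 3 ≤ q) (hr : 2 ≤ r)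
    (hh : Nat.gcd 2 (q - 1) * h = q * (q ^ 2 - 1))
    (hg : Nat.gcd 2 (q ^ r - 1) * g = q ^ r * ((q ^ r) ^ 2 - 1)) : h < g := by
  have hd : Nat.gcd 2 (q ^ r - 1) ≤ 2 := Nat.le_of_dvd (by norm_num) (Nat.gcd_dvd_left 2 _)
  have hd1 : 1 ≤ Nat.gcd 2 (q - 1) := Nat.gcd_pos_of_pos_left _ (by norm_num)
  have hQ : q ^ 2 ≤ q ^ r := Nat.pow_le_pow_right (by omega) hr
  have h9 : 3 ^ 2 ≤ q ^ 2 := Nat.pow_le_pow_left hq3 2
  have hQ2 : (q ^ 2) ^ 2 ≤ (q ^ r) ^ 2 := Nat.pow_le_pow_left hQ 2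
  obtain ⟨y, hy⟩ : ∃ y, q ^ 2 = y + 9 := ⟨q ^ 2 - 9, by omega⟩
  have e1 : (q ^ 2) ^ 2 - 1 = (y + 8) * (y + 10) := by
    rw [hy]
    have : (y + 9) ^ 2 = (y + 8) * (y + 10) + 1 := by ring
    omega
  have h5 : q ^ 2 * ((q ^ 2) ^ 2 - 1) ≤ q ^ r * ((q ^ r) ^ 2 - 1) :=
    Nat.mul_le_mul hQ (by omega)
  have h6 : h ≤ q * (q ^ 2 - 1) := by
    rw [← hh]; exact Nat.le_mul_of_pos_left h hd1
  have h7 : q ^ r * ((q ^ r) ^ 2 - 1) ≤ 2 * g := by
    rw [← hg]; exact Nat.mul_le_mul_right g hd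
  have h8 : 2 * (q * (q ^ 2 - 1)) < q ^ 2 * ((q ^ 2) ^ 2 - 1) := by
    rw [e1, hy]
    have e : y + 9 - 1 = y + 8 := by omega
    rw [e]
    have hq' : q ≤ y + 9 := by
      rw [← hy, pow_two]
      exact Nat.le_mul_of_pos_left q (by omega)
    calc 2 * (q * (y + 8)) ≤ 2 * ((y + 9) * (y + 8)) :=
          Nat.mul_le_mul_left 2 (Nat.mul_le_mul_right _ hq')
      _ < (y + 9) * ((y + 8) * (y + 10)) := by nlinarith
  omega

end Cfsg.Agent.Lib.Helper45.PslMax
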