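import Mathlib
import Cfsg.Agent.Lib.Helper45.S02A
import Cfsg.Prelude.Def_LieExceptional
import Cfsg.Agent.S0885

/-! S2202 piece Feit (project S02 of helper45).
PLACEHOLDER: replace the `sorry` in THIS file; keep the theorem name and statement byte-identical and keep
the namespace; auxiliary lemmas go ABOVE the theorem and MUST start with the prefix `feit_`; you may add
imports (landed modules, or other `Cfsg.Agent.Lib.Helper45.S02*` piece files).
Definitions (`HC`, `Inv`, `Zc`, `Lc`, `NP`, `CP`, `Hyp`, `Facts`, `Tp`, `TIH`): Cfsg/Agent/Lib/Helper45/S02A.lean.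
Points = Sylow 2-subgroups, `g • P` = conjugate (`Sylow.smul_def`, `Sylow.coe_smul`,
`Sylow.smul_eq_iff_mem_normalizer : g • P = P ↔ g ∈ normalizer P`, `Subgroup.mem_centralizer_iff`).
"involution" = `orderOf t = 2`.  The paper proof is in the docstring. -/

set_option autoImplicit false

namespace Cfsg.Agent.Lib.Helper45.S02

variable {G : Type*} [Group G] [Finite G]

/-- TI case: Feit's inequality (landed S0885).
PROOF. `Cfsg.Agent.S0885.result` with `Ω := Sylow 2 G` (`Fintype.ofFinite`), `a := P`, `b := Q`,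
`h := Nat.card (CP P)`, `e := Nat.card ↥(NP P ⊓ NP Q)`, `H := CP P`.  `stabilizer G P = NP P`
(`Sylow.stabilizer_eq_normalizer`).  `e` is odd: an involution of `NP P ⊓ NP Q` would lie in `P ⊓ Q`
(`hF.invN`), so `P = Q` (`hF.ti`); Cauchy.  `hHfix`: `u ∈ CP P`, `u ≠ 1`, `u • c = c` and `c ≠ P` would
give `u ∈ CP P ⊓ NP c = ⊥` (`hloc`).  The second alternative of S0885 contains
`∃ u v : CP P, u * v ≠ v * u`, contradicting `hF.ccomm`. -/
theorem feit_bound (hZ : Cfsg.IsZassenhausGroup G (Sylow 2 G)) (hF : Facts G)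
    (hloc : ∀ P Q : Sylow 2 G, P ≠ Q → CP P ⊓ NP Q = ⊥)
    (P Q : Sylow 2 G) (hPQ : P ≠ Q) (hcard : Nat.card (Sylow 2 G) = Nat.card (CP P) + 1) :
    Nat.card (CP P) - 1 ≤ 2 * Nat.card ↥(NP P ⊓ NP Q) := by
  classical
  letI : Fintype (Sylow 2 G) := Fintype.ofFinite _
  have hodd : Odd (Nat.card ↥(NP P ⊓ NP Q)) := by
    rw [← Nat.not_even_iff_odd, even_iff_two_dvd]
    intro hdvd
    obtain ⟨x, hx⟩ := exists_prime_orderOf_dvd_card' (G := ↥(NP P ⊓ NP Q)) 2 hdvd
    have hx2 : orderOf (x : G) = 2 := by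
      rw [Subgroup.orderOf_coe]
      exact hx
    have hxPQ := Subgroup.mem_inf.mp x.2
    have hxP : (x : G) ∈ P := hF.invN P _ hx2 hxPQ.1
    have hxQ : (x : G) ∈ Q := hF.invN Q _ hx2 hxPQ.2
    have hx1 : (x : G) ≠ 1 := by
      intro h1
      rw [h1, orderOf_one] at hx2
      norm_num at hx2
    exact hPQ (hF.ti P Q _ hxP hxQ hx1)
  have key := Cfsg.Agent.S0885.result hZ hPQ (Nat.card (CP P)) (Nat.card ↥(NP P ⊓ NP Q))
    (by rw [← Nat.card_eq_fintype_card]; exact hcard)
    (by rw [Sylow.stabilizer_eq_normalizer, Sylow.stabilizer_eq_normalizer]; rfl)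
    hodd (CP P)
    (by rw [Sylow.stabilizer_eq_normalizer]; exact Subgroup.centralizer_le_normalizer _)
    (by rw [← Nat.card_eq_fintype_card]; exact hcard.symm)
    (by
      intro u hu hu1 c hc
      by_contra hcP
      have h1 : u ∈ CP P ⊓ NP c :=
        Subgroup.mem_inf.mpr ⟨hu, Sylow.smul_eq_iff_mem_normalizer.mp hc⟩
      rw [hloc P c (Ne.symm hcP), Subgroup.mem_bot] at h1
      exact hu1 h1)
  rcases key with h | ⟨-, ⟨u, v, huv⟩, -⟩
  · exact h
  · have h3 : u * v = v * u := Subtype.ext (hF.ccomm P u v u.2 v.2).eq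
    exact absurd h3 huv

end Cfsg.Agent.Lib.Helper45.S02
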