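import Mathlib
import Cfsg.Agent.Lib.Helper45.S02A
import Cfsg.Agent.Lib.Helper45.S02Swap
import Cfsg.Agent.Lib.Helper45.S02Reg
import Cfsg.Agent.Lib.Helper45.S02Iso
import Cfsg.Agent.Lib.Helper45.S02Loc
import Cfsg.Agent.Lib.Helper45.S02TInv
import Cfsg.Agent.Lib.Helper45.S02FixA
import Cfsg.Agent.Lib.Helper45.S02FixB
import Cfsg.Agent.Lib.Helper45.S02Cover
import Cfsg.Agent.Lib.Helper45.S02Trans
import Cfsg.Agent.Lib.Helper45.S02NoReg
import Cfsg.Agent.Lib.Helper45.S02Zas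
import Cfsg.Agent.Lib.Helper45.S02CardS
import Cfsg.Agent.Lib.Helper45.S02Feit
import Cfsg.Agent.Lib.Helper45.S02DCard
import Cfsg.Agent.Lib.Helper45.S02Arith
import Cfsg.Prelude.Def_LieExceptional
import Cfsg.Prelude.Def_Involutions

/-! S2202 piece AsmTI (project S02 of helper45).
FILLED by helper85 (job 4108). Keep the theorem name and statement byte-identical and keep
the namespace; auxiliary lemmas go ABOVE the theorem and MUST start with the prefix `asmti_`; you may add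
imports (landed modules, or other `Cfsg.Agent.Lib.Helper45.S02*` piece files).
Definitions (`HC`, `Inv`, `Zc`, `Lc`, `NP`, `CP`, `Hyp`, `Facts`, `Tp`, `TIH`): Cfsg/Agent/Lib/Helper45/S02A.lean.
Points = Sylow 2-subgroups, `g • P` = conjugate (`Sylow.smul_def`, `Sylow.coe_smul`,
`Sylow.smul_eq_iff_mem_normalizer : g • P = P ↔ g ∈ normalizer P`, `Subgroup.mem_centralizer_iff`).
"involution" = `orderOf t = 2`.  The paper proof is in the docstring. -/

set_option autoImplicit false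

namespace Cfsg.Agent.Lib.Helper45.S02

variable {G : Type*} [Group G] [Finite G]

/-- ASSEMBLY of the TI case: `Hyp`, `Facts`, `TIH` ⇒ `Tp`.
PROOF (pure glue; every step is one of the imported pieces).
`hloc := cent_inf_normalizer_eq_bot hF hTI`, `hswap := exists_invol_swap hF`,
`hinv := swap_inverts hF hloc`, `hreg := exists_conj_in_two_normalizers hH hF`.
For `P ≠ Q`, `h ∈ NP P ⊓ NP Q`, `h ≠ 1`: `fixA hF hloc hswap hinv P Q ..` and, with `u` from `hswap P Q`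
(`u * h * u⁻¹ = h⁻¹` by `hinv`), `fixB hF P Q .. u ..` give `hfixR` and `hfixC`.
`hcover := cover hF hloc hreg hfixC`, `htrans := cent_transitive hF hloc hreg hfixR hcover`,
`hnoreg := no_regular_normal hF`, `hZ := zassenhaus hH hF hfixR htrans hnoreg hreg`,
`hcard P := card_sylow_eq hH hloc htrans P`.
For each `P` pick `Q ≠ P` (`hH.two`): `feit_bound hZ hF hloc P Q hPQ (hcard P)`, rewrite with
`card_D_eq hF hloc hreg P Q hPQ`, then `tp_of_bounds hF P _ rfl _` gives `Nat.card (CP P) = Nat.card P`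
and exponent 2; with `hcard P` this is `Tp G`. -/
theorem tp_of_TIH (hH : Hyp G) (hF : Facts G) (hTI : TIH G) : Tp G := by
  have hloc : ∀ P Q : Sylow 2 G, P ≠ Q → CP P ⊓ NP Q = ⊥ := cent_inf_normalizer_eq_bot hF hTI
  have hswap : ∀ P Q : Sylow 2 G, P ≠ Q →
      ∃ u : G, orderOf u = 2 ∧ u • P = Q ∧ u • Q = P ∧ u ∈ Lc G := exists_invol_swap hF
  have hinv : ∀ P Q : Sylow 2 G, P ≠ Q → ∀ u : G, orderOf u = 2 → u • P = Q →
      ∀ d : G, d ∈ NP P → d ∈ NP Q → u * d * u⁻¹ = d⁻¹ := swap_inverts hF hloc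
  have hreg : ∀ P Q : Sylow 2 G, P ≠ Q → ∀ s t : G, s ∈ P → t ∈ P → orderOf s = 2 →
      orderOf t = 2 → ∃ d : G, d ∈ NP P ∧ d ∈ NP Q ∧ d * s * d⁻¹ = t :=
    exists_conj_in_two_normalizers hH hF
  have hfix : ∀ P Q : Sylow 2 G, P ≠ Q → ∀ h : G, h ∈ NP P → h ∈ NP Q → h ≠ 1 →
      (∀ R : Sylow 2 G, h ∈ NP R → R = P ∨ R = Q) ∧
        (∀ c : G, Commute c h → c ∈ NP P ∧ c ∈ NP Q) := by
    intro P Q hPQ h hP hQ h1
    obtain ⟨hA1, hA2, hA3⟩ := fixA hF hloc hswap hinv P Q hPQ h hP hQ h1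
    obtain ⟨u, hu, huP, -, -⟩ := hswap P Q hPQ
    exact fixB hF P Q hPQ h hP hQ h1 u hu huP (hinv P Q hPQ u hu huP h hP hQ) hA1 hA2 hA3
  have hfixR : ∀ P Q : Sylow 2 G, P ≠ Q → ∀ h : G, h ∈ NP P → h ∈ NP Q → h ≠ 1 →
      ∀ R : Sylow 2 G, h ∈ NP R → R = P ∨ R = Q :=
    fun P Q hPQ h hP hQ h1 => (hfix P Q hPQ h hP hQ h1).1
  have hfixC : ∀ P Q : Sylow 2 G, P ≠ Q → ∀ h : G, h ∈ NP P → h ∈ NP Q → h ≠ 1 →
      ∀ c : G, Commute c h → c ∈ NP P ∧ c ∈ NP Q :=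
    fun P Q hPQ h hP hQ h1 => (hfix P Q hPQ h hP hQ h1).2
  have hcover := cover hF hloc hreg hfixC
  have htrans := cent_transitive hF hloc hreg hfixR hcover
  have hnoreg : ∀ K : Subgroup G, K.Normal → (∀ P : Sylow 2 G, K ⊓ NP P = ⊥) → K ≠ ⊥ → False :=
    no_regular_normal hF
  have hZ := zassenhaus hH hF hfixR htrans hnoreg hreg
  have hcard : ∀ P : Sylow 2 G, Nat.card (Sylow 2 G) = Nat.card (CP P) + 1 :=
    card_sylow_eq hH hloc htrans
  have key : ∀ P : Sylow 2 G, Nat.card (CP P) = Nat.card P ∧ ∀ x ∈ P, x ^ 2 = 1 := by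
    intro P
    obtain ⟨Q, hPQ⟩ : ∃ Q : Sylow 2 G, P ≠ Q := by
      obtain ⟨P1, P2, h12⟩ := hH.two
      by_cases h : P = P1
      · refine ⟨P2, ?_⟩
        rw [h]
        exact h12
      · exact ⟨P1, h⟩
    have hb := feit_bound hZ hF hloc P Q hPQ (hcard P)
    rw [card_D_eq hF hloc hreg P Q hPQ] at hb
    exact tp_of_bounds hF P _ rfl hb
  exact ⟨fun P => by rw [hcard P, (key P).1], fun P => (key P).2⟩

end Cfsg.Agent.Lib.Helper45.S02
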