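import Mathlib
import Cfsg.Agent.Lib.Helper45.S02A
import Cfsg.Agent.Lib.Helper45.S02AsmFacts
import Cfsg.Agent.Lib.Helper45.S02AsmTI
import Cfsg.Agent.Lib.Helper45.S02AsmB1
import Cfsg.Agent.Lib.Helper45.S02QHyp
import Cfsg.Agent.Lib.Helper45.S02QT

/-! S2202 piece AsmInd (project S02 of helper45).
PLACEHOLDER: replace the `sorry` in THIS file; keep the theorem name and statement byte-identical and keep
the namespace; auxiliary lemmas go ABOVE the theorem and MUST start with the prefix `asmind_`; you may add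
imports (landed modules, or other `Cfsg.Agent.Lib.Helper45.S02*` piece files).
Definitions (`HC`, `Inv`, `Zc`, `Lc`, `NP`, `CP`, `Hyp`, `Facts`, `Tp`, `TIH`): Cfsg/Agent/Lib/Helper45/S02A.lean.
Points = Sylow 2-subgroups, `g • P` = conjugate (`Sylow.smul_def`, `Sylow.coe_smul`,
`Sylow.smul_eq_iff_mem_normalizer : g • P = P ↔ g ∈ normalizer P`, `Subgroup.mem_centralizer_iff`).
"involution" = `orderOf t = 2`.  The paper proof is in the docstring. -/

set_option autoImplicit false

namespace Cfsg.Agent.Lib.Helper45.S02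

variable {G : Type*} [Group G] [Finite G]

universe u

theorem asmind_aux : ∀ n : ℕ, ∀ (G : Type u) [Group G] [Finite G], Nat.card G = n → Hyp G → Tp G := by
  intro n
  induction n using Nat.strong_induction_on with
  | _ n ih =>
    intro G _ _ hn hH
    have hF := facts_of_hyp hH
    by_cases hZ : Zc G = ⊥
    · have ih' : ∀ H : Subgroup G, H ≠ ⊤ → Hyp ↥H → Tp ↥H := by
        intro H hne hH'
        have hle : Nat.card ↥H ≤ Nat.card G := Subgroup.card_le_card_group H
        have hne' : Nat.card ↥H ≠ Nat.card G := fun h => hne (Subgroup.eq_top_of_card_eq H h)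
        have hlt : Nat.card ↥H < n := by omega
        exact ih _ hlt ↥H rfl hH'
      exact tp_of_TIH hH hF (TIH_of_ih hH hF hZ ih')
    · have h1 : Nat.card G = Nat.card (G ⧸ Zc G) * Nat.card (Zc G) :=
        Subgroup.card_eq_card_quotient_mul_card_subgroup (Zc G)
      have h2 : 1 < Nat.card (Zc G) := (Subgroup.one_lt_card_iff_ne_bot (Zc G)).mpr hZ
      have h3 : 0 < Nat.card (G ⧸ Zc G) := Nat.card_pos
      have hlt : Nat.card (G ⧸ Zc G) < n := by
        rw [← hn, h1]
        nlinarith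
      exact tp_of_quotient hH hF (ih _ hlt (G ⧸ Zc G) rfl (hyp_quotient hH hF))

/-- ASSEMBLY: the induction.  `Hyp G → Tp G`.
PROOF. Strong induction on `Nat.card G` for all groups in the same universe: prove
`aux.{u} : ∀ n : ℕ, ∀ (G : Type u) [Group G] [Finite G], Nat.card G = n → Hyp G → Tp G` by
`Nat.strong_induction_on`.  `hF := facts_of_hyp hH`.
Case `Zc G ≠ ⊥`: `Nat.card (G ⧸ Zc G) < Nat.card G` (`Subgroup.card_eq_card_quotient_mul_card_subgroup`,
`Zc G` has ≥ 2 elements); IH applied to `G ⧸ Zc G` with `hyp_quotient hH hF`; then `tp_of_quotient hH hF`.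
Case `Zc G = ⊥`: `ih : ∀ H : Subgroup G, H ≠ ⊤ → Hyp ↥H → Tp ↥H` from the IH (`Nat.card ↥H < Nat.card G`
for `H ≠ ⊤`: `Subgroup.card_lt_card`-type / `Subgroup.eq_top_of_card_eq`); `TIH_of_ih hH hF hZ ih`; then
`tp_of_TIH hH hF _`. -/
theorem tp_of_hyp (hH : Hyp G) : Tp G :=
  asmind_aux _ G rfl hH

end Cfsg.Agent.Lib.Helper45.S02
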