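import Mathlib
set_option autoImplicit false
set_option linter.style.haveILetI false
set_option linter.unusedSectionVars false

namespace Cfsg.Agent.Lib.Helper45
open Equiv
open scoped Pointwise

section
variable {X : Type} [Fintype X] [DecidableEq X]

/-- the set of swaps in a subgroup -/
def swapsIn (T : Subgroup (Perm X)) : Set (Perm X) := {τ | τ ∈ T ∧ τ.IsSwap}

theorem conj_swap (h : Perm X) (a b : X) : h * swap a b * h⁻¹ = swap (h a) (h b) :=
  (Equiv.swap_apply_apply h a b).symm

theorem isSwap_conj (h : Perm X) {τ : Perm X} (hτ : τ.IsSwap) : (h * τ * h⁻¹).IsSwap := by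
  obtain ⟨a, b, hab, rfl⟩ := hτ
  rw [conj_swap]
  exact ⟨h a, h b, fun h' => hab (h.injective h'), rfl⟩

/-- two swaps in a 2-group moving a common point are equal -/
theorem swap_eq_of_common {T : Subgroup (Perm X)} (hT : IsPGroup 2 T) {τ₁ τ₂ : Perm X}
    (h1 : τ₁ ∈ T) (h2 : τ₂ ∈ T) (s1 : τ₁.IsSwap) (s2 : τ₂.IsSwap) {x : X} (hx1 : τ₁ x ≠ x)
    (hx2 : τ₂ x ≠ x) : τ₁ = τ₂ := by
  have key : ∀ y z : X, x ≠ y → x ≠ z → swap x y ∈ T → swap x z ∈ T → swap x y = swap x z := by
    intro y z hy hz m1 m2
    by_contra hne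
    have hyz : y ≠ z := fun h => hne (by rw [h])
    have h3 := (Equiv.Perm.isThreeCycle_swap_mul_swap_same hy hz hyz).orderOf
    obtain ⟨k, hk⟩ := (IsPGroup.iff_orderOf.mp hT) ⟨swap x y * swap x z, T.mul_mem m1 m2⟩
    rw [Subgroup.orderOf_mk, h3] at hk
    rcases k with _ | k
    · simp at hk
    · have : 2 ∣ 3 := by rw [hk]; exact dvd_pow_self 2 (Nat.succ_ne_zero k)
      omega
  obtain ⟨a, b, hab, rfl⟩ := s1
  obtain ⟨c, d, hcd, rfl⟩ := s2
  have hxa : x = a ∨ x = b := by
    by_contra h
    push Not at h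
    exact hx1 (swap_apply_of_ne_of_ne h.1 h.2)
  have hxc : x = c ∨ x = d := by
    by_contra h
    push Not at h
    exact hx2 (swap_apply_of_ne_of_ne h.1 h.2)
  rcases hxa with rfl | rfl <;> rcases hxc with rfl | rfl
  · exact key _ _ hab hcd h1 h2
  · rw [swap_comm c x]
    exact key _ _ hab hcd.symm h1 (by rwa [swap_comm])
  · rw [swap_comm a x]
    exact key _ _ hab.symm hcd (by rwa [swap_comm]) h2
  · rw [swap_comm a x, swap_comm c x]
    exact key _ _ hab.symm hcd.symm (by rwa [swap_comm]) (by rwa [swap_comm])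

theorem two_group_of_comm_invol {G : Type*} [Group G] (k : Set G)
    (hcomm : ∀ x ∈ k, ∀ y ∈ k, x * y = y * x) (hinv : ∀ x ∈ k, x * x = 1) :
    IsPGroup 2 (Subgroup.closure k) := by
  have hsq : ∀ x ∈ Subgroup.closure k, x * x = 1 := by
    intro x hx
    haveI := Subgroup.isMulCommutative_closure hcomm
    induction hx using Subgroup.closure_induction with
    | mem x hx => exact hinv x hx
    | one => simp
    | mul x y hx hy ihx ihy =>
      have hc : x * y = y * x := by
        have := (inferInstance : IsMulCommutative ↥(Subgroup.closure k)).is_comm.comm ⟨x, hx⟩ ⟨y, hy⟩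
        exact congrArg Subtype.val this
      calc x * y * (x * y) = x * (y * x) * y := by group
        _ = x * (x * y) * y := by rw [hc]
        _ = (x * x) * (y * y) := by group
        _ = 1 := by rw [ihx, ihy, one_mul]
    | inv x hx ih =>
      rw [← mul_inv_rev, ih, inv_one]
  intro g
  refine ⟨1, ?_⟩
  apply Subtype.ext
  rw [pow_one, sq]
  exact hsq g g.2

/-- the i-th standard swap in coordinates e -/
def sw {n : ℕ} (e : Fin n ≃ X) (i : Fin (n / 2)) : Perm X :=
  swap (e ⟨2 * i.1, by have := i.2; omega⟩) (e ⟨2 * i.1 + 1, by have := i.2; omega⟩)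

theorem sw_isSwap {n : ℕ} (e : Fin n ≃ X) (i : Fin (n / 2)) : (sw e i).IsSwap := by
  refine ⟨_, _, ?_, rfl⟩
  intro h
  have := e.injective h
  rw [Fin.ext_iff] at this
  simp at this

theorem sw_apply_ne_iff {n : ℕ} (e : Fin n ≃ X) (i : Fin (n / 2)) (k : Fin n) :
    sw e i (e k) ≠ e k ↔ (k : ℕ) / 2 = i := by
  have hi := i.2
  constructor
  · intro h
    by_contra hne
    apply h
    unfold sw
    apply swap_apply_of_ne_of_ne
    · intro h'
      have := e.injective h'
      rw [Fin.ext_iff] at this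
      simp at this
      omega
    · intro h'
      have := e.injective h'
      rw [Fin.ext_iff] at this
      simp at this
      omega
  · intro h
    rcases Nat.mod_two_eq_zero_or_one (k : ℕ) with h0 | h0
    · have hk : k = ⟨2 * i.1, by omega⟩ := by
        apply Fin.ext
        simp
        omega
      rw [hk]
      unfold sw
      rw [swap_apply_left]
      intro h'
      have := e.injective h'
      rw [Fin.ext_iff] at this
      simp at this
    · have hk : k = ⟨2 * i.1 + 1, by omega⟩ := by
        apply Fin.ext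
        simp
        omega
      rw [hk]
      unfold sw
      rw [swap_apply_right]
      intro h'
      have := e.injective h'
      rw [Fin.ext_iff] at this
      simp at this

theorem sw_injective {n : ℕ} (e : Fin n ≃ X) : Function.Injective (sw e) := by
  intro i j hij
  have hi := i.2
  have h1 : sw e i (e ⟨2 * i.1, by omega⟩) ≠ e ⟨2 * i.1, by omega⟩ := by
    rw [sw_apply_ne_iff]
    simp
  rw [hij, sw_apply_ne_iff] at h1
  apply Fin.ext
  simp at h1
  omega

theorem sw_comm {n : ℕ} (e : Fin n ≃ X) (i j : Fin (n / 2)) : sw e i * sw e j = sw e j * sw e i := by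
  by_cases hij : i = j
  · rw [hij]
  · have hi := i.2
    have hj := j.2
    have hne : (i : ℕ) ≠ j := fun h => hij (Fin.ext h)
    ext x
    obtain ⟨k, rfl⟩ := e.surjective x
    simp only [Perm.mul_apply]
    by_cases h1 : sw e i (e k) = e k
    · rw [h1]
      by_cases h2 : sw e j (e k) = e k
      · rw [h2, h1]
      · -- sw e j (e k) is some e k' with k'/2 = j
        obtain ⟨k', hk'⟩ := e.surjective (sw e j (e k))
        have h3 : (k' : ℕ) / 2 = j := by
          rw [← sw_apply_ne_iff e j k', hk']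
          intro h'
          have := (sw e j).injective h'
          exact h2 this
        have h4 : sw e i (e k') = e k' := by
          by_contra h5
          have h6 := (sw_apply_ne_iff e i k').mp h5
          omega
        rw [← hk', h4]
    · have h2 : sw e j (e k) = e k := by
        by_contra h5
        have h6 := (sw_apply_ne_iff e j k).mp h5
        have h7 := (sw_apply_ne_iff e i k).mp h1
        omega
      rw [h2]
      obtain ⟨k', hk'⟩ := e.surjective (sw e i (e k))
      have h3 : (k' : ℕ) / 2 = i := by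
        rw [← sw_apply_ne_iff e i k', hk']
        intro h'
        have := (sw e i).injective h'
        exact h1 this
      have h4 : sw e j (e k') = e k' := by
        by_contra h5
        have h6 := (sw_apply_ne_iff e j k').mp h5
        omega
      rw [← hk', h4]

theorem swaps_structure (n : ℕ) (hn : Fintype.card X = n) (T : Sylow 2 (Perm X)) :
    ∃ e : Fin n ≃ X, ∀ τ : Perm X, τ ∈ swapsIn (T : Subgroup (Perm X)) ↔
      ∃ i : Fin (n / 2), τ = sw e i := by
  let e₀ : Fin n ≃ X := (Fintype.equivFinOfCardEq hn).symm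
  have hE : IsPGroup 2 (Subgroup.closure (Set.range (sw e₀))) := by
    apply two_group_of_comm_invol
    · rintro _ ⟨i, rfl⟩ _ ⟨j, rfl⟩
      exact sw_comm e₀ i j
    · rintro _ ⟨i, rfl⟩
      exact Equiv.swap_mul_self _ _
  obtain ⟨R, hR⟩ := hE.exists_le_sylow
  obtain ⟨g, hg⟩ := MulAction.exists_smul_eq (Perm X) R T
  refine ⟨e₀.trans g, ?_⟩
  have hmem : ∀ i, sw (e₀.trans g) i ∈ (T : Subgroup (Perm X)) := by
    intro i
    have h1 : sw e₀ i ∈ (R : Subgroup (Perm X)) := hR (Subgroup.subset_closure ⟨i, rfl⟩)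
    have h2 : sw (e₀.trans g) i = g * sw e₀ i * g⁻¹ := by
      unfold sw
      rw [conj_swap]
      rfl
    rw [h2, ← hg, Sylow.smul_def, Sylow.pointwise_smul_def,
      Subgroup.mem_pointwise_smul_iff_inv_smul_mem]
    have h3 : (MulAut.conj g)⁻¹ • (g * sw e₀ i * g⁻¹) = sw e₀ i := by
      rw [← map_inv, MulAut.smul_def, MulAut.conj_apply]
      group
    rw [h3]
    exact h1
  intro τ
  constructor
  · rintro ⟨hτT, hτs⟩
    obtain ⟨a, b, hab, rfl⟩ := hτs
    have hcov : ∀ x : X, (((e₀.trans g).symm x : Fin n) : ℕ) < 2 * (n / 2) →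
        ∃ i, sw (e₀.trans g) i x ≠ x := by
      intro x hx
      refine ⟨⟨(((e₀.trans g).symm x : Fin n) : ℕ) / 2, by omega⟩, ?_⟩
      have := (sw_apply_ne_iff (e₀.trans g) ⟨(((e₀.trans g).symm x : Fin n) : ℕ) / 2, by omega⟩
        ((e₀.trans g).symm x)).mpr rfl
      rwa [Equiv.apply_symm_apply] at this
    have hab' : (e₀.trans g).symm a ≠ (e₀.trans g).symm b := fun h => hab ((e₀.trans g).symm.injective h)
    have h2 : (((e₀.trans g).symm a : Fin n) : ℕ) < 2 * (n / 2) ∨
        (((e₀.trans g).symm b : Fin n) : ℕ) < 2 * (n / 2) := by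
      have ha := ((e₀.trans g).symm a).2
      have hb := ((e₀.trans g).symm b).2
      have hne : (((e₀.trans g).symm a : Fin n) : ℕ) ≠ (((e₀.trans g).symm b : Fin n) : ℕ) :=
        fun h => hab' (Fin.ext h)
      omega
    rcases h2 with h2 | h2
    · obtain ⟨i, hi⟩ := hcov a h2
      refine ⟨i, ?_⟩
      apply swap_eq_of_common T.isPGroup' hτT (hmem i) ⟨a, b, hab, rfl⟩ (sw_isSwap _ i) (x := a) _ hi
      rw [swap_apply_left]
      exact hab.symm
    · obtain ⟨i, hi⟩ := hcov b h2
      refine ⟨i, ?_⟩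
      apply swap_eq_of_common T.isPGroup' hτT (hmem i) ⟨a, b, hab, rfl⟩ (sw_isSwap _ i) (x := b) _ hi
      rw [swap_apply_right]
      exact hab
  · rintro ⟨i, rfl⟩
    exact ⟨hmem i, sw_isSwap _ i⟩

end

end Cfsg.Agent.Lib.Helper45
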