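import Mathlib
import Cfsg.Agent.Lib.Helper45.SwapMatching
set_option autoImplicit false
set_option linter.style.haveILetI false
set_option linter.unusedSectionVars false

namespace Cfsg.Agent.Lib.Helper45
open Equiv
open scoped Pointwise

section
variable {X : Type} [Fintype X] [DecidableEq X]

theorem card_swapsIn {n : ℕ} {T : Subgroup (Perm X)} {e : Fin n ≃ X}
    (hM : ∀ τ : Perm X, τ ∈ swapsIn T ↔ ∃ i : Fin (n / 2), τ = sw e i) :
    Nat.card ↥(swapsIn T) = n / 2 := by
  have h := Nat.card_congr (Equiv.ofBijective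
    (fun i : Fin (n / 2) => (⟨sw e i, (hM _).mpr ⟨i, rfl⟩⟩ : swapsIn T))
    ⟨fun i j hij => sw_injective e (congrArg Subtype.val hij),
     fun τ => by
      obtain ⟨i, hi⟩ := (hM _).mp τ.2
      exact ⟨i, Subtype.ext hi.symm⟩⟩)
  rw [← h, Nat.card_fin]

theorem uncovered_unique {n : ℕ} {T : Subgroup (Perm X)} {e : Fin n ≃ X}
    (hM : ∀ τ : Perm X, τ ∈ swapsIn T ↔ ∃ i : Fin (n / 2), τ = sw e i) (x y : X)
    (hx : ∀ τ ∈ swapsIn T, τ x = x) (hy : ∀ τ ∈ swapsIn T, τ y = y) : x = y := by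
  have key : ∀ z : X, (∀ τ ∈ swapsIn T, τ z = z) → 2 * (n / 2) ≤ ((e.symm z : Fin n) : ℕ) := by
    intro z hz
    by_contra hlt
    push Not at hlt
    have := (sw_apply_ne_iff e ⟨((e.symm z : Fin n) : ℕ) / 2, by omega⟩ (e.symm z)).mpr rfl
    rw [Equiv.apply_symm_apply] at this
    exact this (hz _ ((hM _).mpr ⟨_, rfl⟩))
  have h1 := key x hx
  have h2 := key y hy
  have h3 := (e.symm x).2
  have h4 := (e.symm y).2
  apply e.symm.injective
  apply Fin.ext
  omega

/-- conjugation action of the normalizer of a set on the set -/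
def conjAct (M : Set (Perm X)) : ↥(Subgroup.normalizer M) →* Perm ↥M where
  toFun h :=
    { toFun := fun τ => ⟨(h : Perm X) * τ * (h : Perm X)⁻¹,
        (Subgroup.mem_set_normalizer_iff.mp h.2 τ).mp τ.2⟩
      invFun := fun τ => ⟨(h : Perm X)⁻¹ * τ * (h : Perm X),
        (Subgroup.mem_set_normalizer_iff''.mp h.2 τ).mp τ.2⟩
      left_inv := fun τ => by
        apply Subtype.ext
        change (h : Perm X)⁻¹ * ((h : Perm X) * τ * (h : Perm X)⁻¹) * (h : Perm X) = τ
        group
      right_inv := fun τ => by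
        apply Subtype.ext
        change (h : Perm X) * ((h : Perm X)⁻¹ * τ * (h : Perm X)) * (h : Perm X)⁻¹ = τ
        group }
  map_one' := by
    apply Equiv.ext
    intro τ
    apply Subtype.ext
    change ((1 : ↥(Subgroup.normalizer M)) : Perm X) * τ * ((1 : ↥(Subgroup.normalizer M)) : Perm X)⁻¹ = τ
    simp
  map_mul' := by
    intro a b
    apply Equiv.ext
    intro τ
    apply Subtype.ext
    change ((a * b : ↥(Subgroup.normalizer M)) : Perm X) * τ *
      ((a * b : ↥(Subgroup.normalizer M)) : Perm X)⁻¹ =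
      (a : Perm X) * ((b : Perm X) * τ * (b : Perm X)⁻¹) * (a : Perm X)⁻¹
    simp only [Subgroup.coe_mul]
    group

theorem conjAct_apply (M : Set (Perm X)) (h : ↥(Subgroup.normalizer M)) (τ : ↥M) :
    ((conjAct M h τ : ↥M) : Perm X) = (h : Perm X) * τ * (h : Perm X)⁻¹ := rfl

theorem le_normalizer_swapsIn (T : Subgroup (Perm X)) :
    Subgroup.normalizer (T : Set (Perm X)) ≤ Subgroup.normalizer (swapsIn T) := by
  intro g hg
  rw [Subgroup.mem_set_normalizer_iff]
  intro τ
  have h1 := Subgroup.mem_normalizer_iff.mp hg τ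
  constructor
  · rintro ⟨h2, h3⟩
    exact ⟨h1.mp h2, isSwap_conj g h3⟩
  · rintro ⟨h2, h3⟩
    refine ⟨h1.mpr h2, ?_⟩
    have := isSwap_conj g⁻¹ h3
    have e : g⁻¹ * (g * τ * g⁻¹) * g⁻¹⁻¹ = τ := by group
    rwa [e] at this

theorem le_normalizer_swapsIn' (T : Subgroup (Perm X)) :
    T ≤ Subgroup.normalizer (swapsIn T) :=
  Subgroup.le_normalizer.trans (le_normalizer_swapsIn T)

/-- if `h` commutes with `τ` then `h` preserves the points moved by `τ` -/
theorem moved_of_comm {h τ : Perm X} (hc : h * τ * h⁻¹ = τ) {x : X} (hx : τ x ≠ x) :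
    τ (h x) ≠ h x := by
  have h1 : τ (h x) = h (τ x) := by
    have : τ * h = h * τ := by
      calc τ * h = (h * τ * h⁻¹) * h := by rw [hc]
        _ = h * τ := by group
    exact congrArg (fun f : Perm X => f x) this
  rw [h1]
  exact fun h' => hx (h.injective h')

theorem comm_apply {h τ : Perm X} (hc : h * τ * h⁻¹ = τ) (x : X) : τ (h x) = h (τ x) := by
  have : τ * h = h * τ := by
    calc τ * h = (h * τ * h⁻¹) * h := by rw [hc]
      _ = h * τ := by group
  exact congrArg (fun f : Perm X => f x) this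

theorem moved_eq_or {τ : Perm X} (hτ : τ.IsSwap) {x y : X} (hx : τ x ≠ x) (hy : τ y ≠ y) :
    y = x ∨ y = τ x := by
  obtain ⟨a, b, hab, rfl⟩ := hτ
  have hxa : x = a ∨ x = b := by
    by_contra h
    push Not at h
    exact hx (swap_apply_of_ne_of_ne h.1 h.2)
  have hya : y = a ∨ y = b := by
    by_contra h
    push Not at h
    exact hy (swap_apply_of_ne_of_ne h.1 h.2)
  rcases hxa with rfl | rfl <;> rcases hya with rfl | rfl
  · left; rfl
  · right; rw [swap_apply_left]
  · right; rw [swap_apply_right]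
  · left; rfl

theorem swap_invol {τ : Perm X} (hτ : τ.IsSwap) (x : X) : τ (τ x) = x := by
  obtain ⟨a, b, hab, rfl⟩ := hτ
  exact swap_apply_self a b x

theorem fix_or_swap {h τ : Perm X} (hτ : τ.IsSwap) (hc : h * τ * h⁻¹ = τ) {x : X}
    (hx : τ x ≠ x) : h x = x ∨ h x = τ x :=
  moved_eq_or hτ hx (moved_of_comm hc hx)

theorem moved_iff {t τ : Perm X} (hτ : τ.IsSwap) (hc : t * τ * t⁻¹ = τ) {x : X} (hx : τ x ≠ x) :
    (∃ y, τ y ≠ y ∧ t y ≠ y) ↔ t x ≠ x := by
  constructor
  · rintro ⟨y, hy1, hy2⟩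
    rcases moved_eq_or hτ hx hy1 with rfl | rfl
    · exact hy2
    · intro h'
      apply hy2
      rw [← comm_apply hc, h']
  · intro h'
    exact ⟨x, hx, h'⟩

/-- an element of odd order centralizing all swaps of the matching is trivial -/
theorem odd_central_trivial {n : ℕ} {T : Subgroup (Perm X)} {e : Fin n ≃ X}
    (hM : ∀ τ : Perm X, τ ∈ swapsIn T ↔ ∃ i : Fin (n / 2), τ = sw e i) (h : Perm X)
    (hodd : Odd (orderOf h)) (hc : ∀ τ ∈ swapsIn T, h * τ * h⁻¹ = τ) : h = 1 := by
  ext x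
  rw [Perm.one_apply]
  by_cases hx : ∃ τ ∈ swapsIn T, τ x ≠ x
  · obtain ⟨τ, hτ, hτx⟩ := hx
    rcases fix_or_swap hτ.2 (hc τ hτ) hτx with h1 | h1
    · exact h1
    · exfalso
      have h2 : h (h x) = x := by
        rw [h1, ← comm_apply (hc τ hτ), h1, swap_invol hτ.2]
      have h3 : ∀ j : ℕ, (h ^ (2 * j + 1)) x = h x := by
        intro j
        induction j with
        | zero => simp
        | succ j ih =>
          have : 2 * (j + 1) + 1 = (2 * j + 1) + 2 := by ring
          rw [this, pow_add, Perm.mul_apply, pow_two, Perm.mul_apply, h2, ih]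
      obtain ⟨j, hj⟩ := hodd
      have h4 := h3 j
      rw [← hj, pow_orderOf_eq_one, Perm.one_apply] at h4
      rw [← h4] at h1
      exact hτx h1.symm
  · push Not at hx
    apply uncovered_unique hM
    · intro τ hτ
      rw [comm_apply (hc τ hτ), hx τ hτ]
    · exact hx

/-- two elements centralizing all swaps of the matching, and moving the same swaps, are equal -/
theorem eq_of_same_moved {n : ℕ} {T : Subgroup (Perm X)} {e : Fin n ≃ X}
    (hM : ∀ τ : Perm X, τ ∈ swapsIn T ↔ ∃ i : Fin (n / 2), τ = sw e i) (t t' : Perm X)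
    (hc : ∀ τ ∈ swapsIn T, t * τ * t⁻¹ = τ) (hc' : ∀ τ ∈ swapsIn T, t' * τ * t'⁻¹ = τ)
    (hsame : ∀ τ ∈ swapsIn T, (∃ y, τ y ≠ y ∧ t y ≠ y) ↔ (∃ y, τ y ≠ y ∧ t' y ≠ y)) : t = t' := by
  ext x
  by_cases hx : ∃ τ ∈ swapsIn T, τ x ≠ x
  · obtain ⟨τ, hτ, hτx⟩ := hx
    have h1 := moved_iff hτ.2 (hc τ hτ) hτx
    have h2 := moved_iff hτ.2 (hc' τ hτ) hτx
    have h3 : t x ≠ x ↔ t' x ≠ x := by rw [← h1, ← h2]; exact hsame τ hτ
    rcases fix_or_swap hτ.2 (hc τ hτ) hτx with h4 | h4
    · rcases fix_or_swap hτ.2 (hc' τ hτ) hτx with h5 | h5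
      · rw [h4, h5]
      · exfalso
        have : t' x ≠ x := by rw [h5]; exact hτx
        exact (h3.mpr this) h4
    · rcases fix_or_swap hτ.2 (hc' τ hτ) hτx with h5 | h5
      · exfalso
        have : t x ≠ x := by rw [h4]; exact hτx
        exact (h3.mp this) h5
      · rw [h4, h5]
  · push Not at hx
    have h1 : t x = x := by
      apply uncovered_unique hM
      · intro τ hτ
        rw [comm_apply (hc τ hτ), hx τ hτ]
      · exact hx
    have h2 : t' x = x := by
      apply uncovered_unique hM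
      · intro τ hτ
        rw [comm_apply (hc' τ hτ), hx τ hτ]
      · exact hx
    rw [h1, h2]

theorem legendre_two (n : ℕ) :
    padicValNat 2 n.factorial = n / 2 + padicValNat 2 (n / 2).factorial := by
  have h1 : n = 2 * (n / 2) + n % 2 := by omega
  have h2 : padicValNat 2 (2 * (n / 2) + n % 2).factorial = padicValNat 2 (2 * (n / 2)).factorial :=
    padicValNat_factorial_mul_add (n / 2) (by omega)
  have h3 : padicValNat 2 (2 * (n / 2)).factorial = padicValNat 2 (n / 2).factorial + n / 2 :=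
    padicValNat_factorial_mul (n / 2)
  rw [← h1] at h2
  rw [h2, h3, add_comm]

/-- the image of a Sylow 2-subgroup acting on its swaps is a Sylow 2-subgroup -/
theorem image_sylow (T : Sylow 2 (Perm X)) :
    ∃ Q : Sylow 2 (Perm ↥(swapsIn (T : Subgroup (Perm X)))),
      (Q : Subgroup (Perm ↥(swapsIn (T : Subgroup (Perm X))))) =
        ((T : Subgroup (Perm X)).subgroupOf (Subgroup.normalizer (swapsIn (T : Subgroup (Perm X))))).map
          (conjAct (swapsIn (T : Subgroup (Perm X)))) := by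
  classical
  obtain ⟨e, hM⟩ := swaps_structure (Fintype.card X) rfl T
  have hT := le_normalizer_swapsIn' (T : Subgroup (Perm X))
  let φ : ↥(T : Subgroup (Perm X)) →* Perm ↥(swapsIn (T : Subgroup (Perm X))) :=
    (conjAct (swapsIn (T : Subgroup (Perm X)))).comp (Subgroup.inclusion hT)
  have hφ : ∀ (t : ↥(T : Subgroup (Perm X))) (τ : ↥(swapsIn (T : Subgroup (Perm X)))),
      ((φ t τ : ↥(swapsIn (T : Subgroup (Perm X)))) : Perm X) = (t : Perm X) * τ * (t : Perm X)⁻¹ :=
    fun t τ => rfl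
  have hrange : φ.range = ((T : Subgroup (Perm X)).subgroupOf
      (Subgroup.normalizer (swapsIn (T : Subgroup (Perm X))))).map (conjAct (swapsIn (T : Subgroup (Perm X)))) := by
    ext q
    constructor
    · rintro ⟨t, rfl⟩
      exact ⟨Subgroup.inclusion hT t, by rw [SetLike.mem_coe, Subgroup.mem_subgroupOf]; exact t.2, rfl⟩
    · rintro ⟨y, hy, rfl⟩
      rw [SetLike.mem_coe, Subgroup.mem_subgroupOf] at hy
      exact ⟨⟨y, hy⟩, rfl⟩
  haveI : Finite ↥(swapsIn (T : Subgroup (Perm X))) := Finite.of_injective _ Subtype.val_injective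
  letI : Fintype ↥(swapsIn (T : Subgroup (Perm X))) := Fintype.ofFinite _
  have hker : Nat.card φ.ker ≤ 2 ^ (Fintype.card X / 2) := by
    have h1 : Nat.card (Set ↥(swapsIn (T : Subgroup (Perm X)))) = 2 ^ (Fintype.card X / 2) := by
      rw [Nat.card_eq_fintype_card, Fintype.card_set, ← Nat.card_eq_fintype_card, card_swapsIn hM]
    rw [← h1]
    apply Nat.card_le_card_of_injective (fun t : φ.ker =>
      ({τ | ∃ y, (τ : Perm X) y ≠ y ∧ ((t : ↥(T : Subgroup (Perm X))) : Perm X) y ≠ y} :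
        Set ↥(swapsIn (T : Subgroup (Perm X)))))
    intro t t' htt'
    apply Subtype.ext
    apply Subtype.ext
    have hc : ∀ (s : φ.ker), ∀ τ ∈ swapsIn (T : Subgroup (Perm X)),
        ((s : ↥(T : Subgroup (Perm X))) : Perm X) * τ * ((s : ↥(T : Subgroup (Perm X))) : Perm X)⁻¹ = τ := by
      intro s τ hτ
      have h2 : φ (s : ↥(T : Subgroup (Perm X))) = 1 := MonoidHom.mem_ker.mp s.2
      have h3 := hφ (s : ↥(T : Subgroup (Perm X))) ⟨τ, hτ⟩
      rw [h2] at h3
      exact h3.symm
    apply eq_of_same_moved hM _ _ (hc t) (hc t')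
    intro τ hτ
    have h4 := congrArg (fun A : Set ↥(swapsIn (T : Subgroup (Perm X))) => (⟨τ, hτ⟩ : ↥(swapsIn (T : Subgroup (Perm X)))) ∈ A) htt'
    simp only [Set.mem_ofPred_eq] at h4
    exact Iff.of_eq h4
  have h2grp : IsPGroup 2 φ.range :=
    T.isPGroup'.of_surjective φ.rangeRestrict φ.rangeRestrict_surjective
  obtain ⟨Q, hQ⟩ := h2grp.exists_le_sylow
  refine ⟨Q, ?_⟩
  rw [← hrange]
  symm
  apply Subgroup.eq_of_le_of_card_ge hQ
  have hQc : Nat.card (Q : Subgroup (Perm ↥(swapsIn (T : Subgroup (Perm X))))) =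
      2 ^ padicValNat 2 (Fintype.card X / 2).factorial := by
    rw [Sylow.card_eq_multiplicity, Nat.card_perm, card_swapsIn hM,
      Nat.factorization_def _ Nat.prime_two]
  have hTc : Nat.card (T : Subgroup (Perm X)) =
      2 ^ (Fintype.card X / 2 + padicValNat 2 (Fintype.card X / 2).factorial) := by
    rw [Sylow.card_eq_multiplicity, Nat.card_perm, Nat.card_eq_fintype_card,
      Nat.factorization_def _ Nat.prime_two, legendre_two]
  have hprod : Nat.card φ.ker * Nat.card φ.range = Nat.card (T : Subgroup (Perm X)) := by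
    rw [← Subgroup.index_ker, Subgroup.card_mul_index]
  rw [hQc]
  rw [hTc, pow_add] at hprod
  have hpos : 0 < 2 ^ (Fintype.card X / 2) := by positivity
  by_contra hlt
  push Not at hlt
  have : Nat.card φ.ker * Nat.card φ.range <
      2 ^ (Fintype.card X / 2) * 2 ^ padicValNat 2 (Fintype.card X / 2).factorial := by
    calc Nat.card φ.ker * Nat.card φ.range ≤ 2 ^ (Fintype.card X / 2) * Nat.card φ.range :=
          Nat.mul_le_mul_right _ hker
      _ < 2 ^ (Fintype.card X / 2) * 2 ^ padicValNat 2 (Fintype.card X / 2).factorial :=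
          Nat.mul_lt_mul_of_pos_left hlt hpos
  omega

end

end Cfsg.Agent.Lib.Helper45
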