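import Mathlib

set_option autoImplicit false

/-!
General lemmas for "a Sylow `2`-subgroup of `S_n` / `A_n` lies in a unique maximal subgroup":
conjugating `p`-subgroups into a given Sylow subgroup, a criterion for non-uniqueness of
the maximal overgroup, and the relation between Sylow subgroups of `A_n` and `S_n`.
-/

namespace Cfsg.Agent.Lib.Helper45.SylMax

open Equiv Equiv.Perm
open scoped Pointwise

/-- A Sylow `p`-subgroup contains a conjugate of every `p`-subgroup. -/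
theorem exists_conj_mem_sylow {G : Type*} [Group G] [Finite G] {p : ℕ} [Fact p.Prime]
    (R : Sylow p G) (Q : Subgroup G) (hQ : IsPGroup p Q) :
    ∃ g : G, ∀ q ∈ Q, g * q * g⁻¹ ∈ (R : Subgroup G) := by
  obtain ⟨P, hP⟩ := hQ.exists_le_sylow
  obtain ⟨g, hg⟩ := MulAction.exists_smul_eq G P R
  refine ⟨g, fun q hq => ?_⟩
  have h1 : MulAut.conj g • q ∈ MulAut.conj g • (P : Subgroup G) :=
    Subgroup.smul_mem_pointwise_smul q (MulAut.conj g) (P : Subgroup G) (hP hq)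
  have h2 : ((g • P : Sylow p G) : Subgroup G) = MulAut.conj g • (P : Subgroup G) := rfl
  rw [← hg, h2]
  simpa [MulAut.smul_def] using h1

/-- Two proper overgroups of `R` that generate the whole group prevent `R` from lying in a
unique maximal subgroup. -/
theorem not_existsUnique_coatom {G : Type*} [Group G] [Finite G] (R K₁ K₂ : Subgroup G)
    (h1 : R ≤ K₁) (h2 : R ≤ K₂) (hK₁ : K₁ ≠ ⊤) (hK₂ : K₂ ≠ ⊤)
    (hgen : ∀ M : Subgroup G, K₁ ≤ M → K₂ ≤ M → M = ⊤) :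
    ¬ ∃! M : Subgroup G, IsCoatom M ∧ R ≤ M := by
  rintro ⟨M, ⟨hM, _⟩, huniq⟩
  obtain ⟨M₁, hM₁, hle₁⟩ := (eq_top_or_exists_le_coatom K₁).resolve_left hK₁
  obtain ⟨M₂, hM₂, hle₂⟩ := (eq_top_or_exists_le_coatom K₂).resolve_left hK₂
  have e1 := huniq M₁ ⟨hM₁, h1.trans hle₁⟩
  have e2 := huniq M₂ ⟨hM₂, h2.trans hle₂⟩
  rw [e1] at hle₁
  rw [e2] at hle₂
  exact hM.1 (hgen M hle₁ hle₂)

/-- Two distinct maximal overgroups. -/
theorem not_existsUnique_coatom_of_ne {G : Type*} [Group G] (R K₁ K₂ : Subgroup G)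
    (h1 : R ≤ K₁) (h2 : R ≤ K₂) (hK₁ : IsCoatom K₁) (hK₂ : IsCoatom K₂) (hne : K₁ ≠ K₂) :
    ¬ ∃! M : Subgroup G, IsCoatom M ∧ R ≤ M := by
  rintro ⟨M, _, huniq⟩
  exact hne ((huniq K₁ ⟨hK₁, h1⟩).trans (huniq K₂ ⟨hK₂, h2⟩).symm)

/-- A unique maximal overgroup. -/
theorem existsUnique_coatom {G : Type*} [Group G] (R M₀ : Subgroup G)
    (hM₀ : IsCoatom M₀) (h0 : R ≤ M₀)
    (huniq : ∀ M : Subgroup G, IsCoatom M → R ≤ M → M ≤ M₀) :
    ∃! M : Subgroup G, IsCoatom M ∧ R ≤ M := by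
  refine ⟨M₀, ⟨hM₀, h0⟩, ?_⟩
  rintro M ⟨hM, hRM⟩
  exact ((hM.le_iff_eq hM₀.1).1 (huniq M hM hRM)).symm

variable {n : ℕ}

/-- the image in `S_n` of a subgroup of `A_n` -/
def img (R : Subgroup (alternatingGroup (Fin n))) : Subgroup (Perm (Fin n)) :=
  R.map (alternatingGroup (Fin n)).subtype

theorem mem_img (R : Subgroup (alternatingGroup (Fin n))) (σ : Perm (Fin n)) :
    σ ∈ img R ↔ ∃ h : σ ∈ alternatingGroup (Fin n), (⟨σ, h⟩ : alternatingGroup (Fin n)) ∈ R := by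
  unfold img
  constructor
  · rintro ⟨x, hx, rfl⟩
    exact ⟨x.2, hx⟩
  · rintro ⟨h, hx⟩
    exact ⟨⟨σ, h⟩, hx, rfl⟩

theorem img_le_alt (R : Subgroup (alternatingGroup (Fin n))) :
    img R ≤ alternatingGroup (Fin n) := by
  intro σ hσ
  obtain ⟨h, _⟩ := (mem_img R σ).1 hσ
  exact h

theorem coe_mem_img (R : Subgroup (alternatingGroup (Fin n))) (x : alternatingGroup (Fin n)) :
    (x : Perm (Fin n)) ∈ img R ↔ x ∈ R := by
  rw [mem_img]
  constructor
  · rintro ⟨_, hx⟩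
    exact hx
  · intro hx
    exact ⟨x.2, hx⟩

theorem img_mono {R S : Subgroup (alternatingGroup (Fin n))} (h : R ≤ S) : img R ≤ img S :=
  Subgroup.map_mono h

theorem eq_top_of_alt_le_img (M : Subgroup (alternatingGroup (Fin n)))
    (h : alternatingGroup (Fin n) ≤ img M) : M = ⊤ := by
  rw [eq_top_iff]
  intro x _
  exact (coe_mem_img M x).1 (h x.2)

/-- A Sylow `2`-subgroup of `A_n` is the even part of a Sylow `2`-subgroup of `S_n`. -/
theorem exists_sylow_perm (R : Sylow 2 (alternatingGroup (Fin n))) :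
    ∃ T : Sylow 2 (Perm (Fin n)), ∀ σ : Perm (Fin n),
      σ ∈ img (R : Subgroup (alternatingGroup (Fin n))) ↔
        (σ ∈ (T : Subgroup (Perm (Fin n))) ∧ σ ∈ alternatingGroup (Fin n)) := by
  have hp : IsPGroup 2 (img (R : Subgroup (alternatingGroup (Fin n)))) :=
    R.isPGroup'.map _
  obtain ⟨T, hT⟩ := hp.exists_le_sylow
  refine ⟨T, fun σ => ⟨fun h => ⟨hT h, img_le_alt _ h⟩, ?_⟩⟩
  rintro ⟨h1, h2⟩
  have hK : IsPGroup 2 ((T : Subgroup (Perm (Fin n))).comap (alternatingGroup (Fin n)).subtype) :=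
    T.isPGroup'.comap_of_injective _ (Subgroup.subtype_injective _)
  have hle : (R : Subgroup (alternatingGroup (Fin n)))
      ≤ (T : Subgroup (Perm (Fin n))).comap (alternatingGroup (Fin n)).subtype := by
    intro x hx
    rw [Subgroup.mem_comap]
    exact hT ((coe_mem_img _ x).2 hx)
  have heq := R.is_maximal' hK hle
  rw [mem_img]
  refine ⟨h2, ?_⟩
  rw [← heq, Subgroup.mem_comap]
  exact h1

end Cfsg.Agent.Lib.Helper45.SylMax
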