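import Mathlib
import Cfsg.Agent.Lib.Helper45.SylMax1

set_option autoImplicit false

/-!
Permutation-group facts about `2`-subgroups and Sylow `2`-subgroups of `S_n`:
swaps, cycles of `2`-power length, fixed points, orbits, a commuting fixed-point-free
involution, and a system of two blocks for a transitive `2`-group.
-/

namespace Cfsg.Agent.Lib.Helper45.SylMax

open Equiv Equiv.Perm
open scoped Pointwise

variable {n : ℕ}

theorem exists_swap_mem (hn : 2 ≤ n) (T : Sylow 2 (Perm (Fin n))) :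
    ∃ a b : Fin n, a ≠ b ∧ swap a b ∈ (T : Subgroup (Perm (Fin n))) := by
  have h01 : (⟨0, by omega⟩ : Fin n) ≠ ⟨1, by omega⟩ := by simp [Fin.ext_iff]
  obtain ⟨s, hs⟩ : ∃ s : Perm (Fin n), s = swap (⟨0, by omega⟩ : Fin n) ⟨1, by omega⟩ := ⟨_, rfl⟩
  have hss : s * s = 1 := by rw [hs, swap_mul_self]
  have hQ : IsPGroup 2 (Subgroup.zpowers s) := by
    rintro ⟨g, hg⟩
    refine ⟨1, Subtype.ext ?_⟩
    obtain ⟨k, rfl⟩ := Subgroup.mem_zpowers_iff.1 hg
    change (s ^ k) ^ 2 ^ 1 = 1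
    rw [pow_one, ← zpow_natCast, ← zpow_mul, mul_comm, zpow_mul, zpow_natCast, pow_two, hss,
      one_zpow]
  obtain ⟨g, hg⟩ := exists_conj_mem_sylow T _ hQ
  refine ⟨g ⟨0, by omega⟩, g ⟨1, by omega⟩, fun h => h01 (g.injective h), ?_⟩
  rw [swap_apply_apply, ← hs]
  exact hg s (Subgroup.mem_zpowers s)

theorem exists_fixed (hodd : Odd n) (T : Subgroup (Perm (Fin n))) (hT : IsPGroup 2 T) :
    ∃ α : Fin n, ∀ t ∈ T, t α = α := by
  have h2 : ¬ 2 ∣ Nat.card (Fin n) := by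
    rw [Nat.card_eq_fintype_card, Fintype.card_fin]
    exact hodd.not_two_dvd_nat
  obtain ⟨α, hα⟩ := hT.nonempty_fixed_point_of_prime_not_dvd_card (Fin n) h2
  exact ⟨α, fun t ht => hα ⟨t, ht⟩⟩

theorem exists_cycle_mem (T : Sylow 2 (Perm (Fin n))) (j : ℕ) (hj : 1 ≤ j) (h : 2 ^ j ≤ n) :
    ∃ c ∈ (T : Subgroup (Perm (Fin n))), c.IsCycle ∧ c.support.card = 2 ^ j := by
  have h2 : 2 ≤ 2 ^ j := by
    calc 2 = 2 ^ 1 := by norm_num
      _ ≤ 2 ^ j := Nat.pow_le_pow_right (by norm_num) hj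
  obtain ⟨c₀, hc₀⟩ := (Equiv.Perm.exists_with_cycleType_iff (Fin n) (m := {2 ^ j})).2
    ⟨by simpa using h, by
      intro a ha
      rw [Multiset.mem_singleton] at ha
      rw [ha]
      exact h2⟩
  have hcyc : c₀.IsCycle := by
    rw [← card_cycleType_eq_one, hc₀]
    simp
  have hord : orderOf c₀ = 2 ^ j := by
    rw [← lcm_cycleType, hc₀]
    simp
  have hsupp : c₀.support.card = 2 ^ j := by
    rw [← sum_cycleType, hc₀]
    simp
  have hQ : IsPGroup 2 (Subgroup.zpowers c₀) :=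
    IsPGroup.of_card (n := j) (by rw [Nat.card_zpowers, hord])
  obtain ⟨g, hg⟩ := exists_conj_mem_sylow T _ hQ
  exact ⟨g * c₀ * g⁻¹, hg c₀ (Subgroup.mem_zpowers c₀), hcyc.conj, by
    rw [card_support_conj, hsupp]⟩

theorem exists_mem_map_of_cycle (T : Subgroup (Perm (Fin n))) (c : Perm (Fin n)) (hc : c ∈ T)
    (hcyc : c.IsCycle) (x y : Fin n) (hx : c x ≠ x) (hy : c y ≠ y) : ∃ t ∈ T, t x = y := by
  obtain ⟨i, hi⟩ := hcyc.sameCycle hx hy
  exact ⟨c ^ i, T.zpow_mem hc i, hi⟩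

/-- `n = 2^k + 1`: a Sylow `2`-subgroup of `S_n` fixes a point and is transitive on the rest. -/
theorem fix_trans (k : ℕ) (hk : 1 ≤ k) (hn : n = 2 ^ k + 1) (T : Sylow 2 (Perm (Fin n))) :
    ∃ α : Fin n, (∀ t ∈ (T : Subgroup (Perm (Fin n))), t α = α) ∧
      ∀ x y, x ≠ α → y ≠ α → ∃ t ∈ (T : Subgroup (Perm (Fin n))), t x = y := by
  have hodd : Odd n := by
    rw [hn]
    exact (Nat.even_pow.2 ⟨even_two, by omega⟩).add_one
  obtain ⟨α, hα⟩ := exists_fixed hodd (T : Subgroup (Perm (Fin n))) T.isPGroup'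
  obtain ⟨c, hcT, hcyc, hcard⟩ := exists_cycle_mem T k hk (by omega)
  have hsub : c.support ⊆ Finset.univ.erase α := by
    intro x hx
    rw [Finset.mem_erase]
    refine ⟨?_, Finset.mem_univ _⟩
    rintro rfl
    exact (Equiv.Perm.mem_support.1 hx) (hα c hcT)
  have heq : c.support = Finset.univ.erase α := by
    apply Finset.eq_of_subset_of_card_le hsub
    rw [Finset.card_erase_of_mem (Finset.mem_univ _), Finset.card_univ, Fintype.card_fin, hcard]
    omega
  have hmem : ∀ x, x ≠ α → c x ≠ x := by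
    intro x hx
    apply Equiv.Perm.mem_support.1
    rw [heq]
    exact Finset.mem_erase.2 ⟨hx, Finset.mem_univ _⟩
  exact ⟨α, hα, fun x y hx hy =>
    exists_mem_map_of_cycle _ c hcT hcyc x y (hmem x hx) (hmem y hy)⟩

/-- `n = 2^a`: a Sylow `2`-subgroup of `S_n` is transitive. -/
theorem trans_pow (a : ℕ) (ha : 1 ≤ a) (hn : n = 2 ^ a) (T : Sylow 2 (Perm (Fin n))) :
    ∀ x y : Fin n, ∃ t ∈ (T : Subgroup (Perm (Fin n))), t x = y := by
  obtain ⟨c, hcT, hcyc, hcard⟩ := exists_cycle_mem T a ha (by omega)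
  have heq : c.support = Finset.univ := by
    rw [← Finset.card_eq_iff_eq_univ, Fintype.card_fin, hcard, hn]
  have hmem : ∀ x, c x ≠ x := by
    intro x
    apply Equiv.Perm.mem_support.1
    rw [heq]
    exact Finset.mem_univ _
  exact fun x y => exists_mem_map_of_cycle _ c hcT hcyc x y (hmem x) (hmem y)

theorem orbit_ncard (T : Subgroup (Perm (Fin n))) (hT : IsPGroup 2 T) (x : Fin n) :
    ∃ j, (MulAction.orbit T x).ncard = 2 ^ j := by
  obtain ⟨j, hj⟩ := hT.card_orbit x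
  exact ⟨j, by rw [← hj, Nat.card_coe_set_eq]⟩

theorem mem_orbit_sub (T : Subgroup (Perm (Fin n))) (x y : Fin n) :
    y ∈ MulAction.orbit T x ↔ ∃ t ∈ T, t x = y := by
  rw [MulAction.mem_orbit_iff]
  constructor
  · rintro ⟨t, ht⟩
    exact ⟨t.1, t.2, ht⟩
  · rintro ⟨t, ht, h⟩
    exact ⟨⟨t, ht⟩, h⟩

/-- passing from a transitive group containing a swap to its even part -/
theorem trans_even (T : Subgroup (Perm (Fin n))) (α : Fin n)
    (htr : ∀ x y, x ≠ α → y ≠ α → ∃ t ∈ T, t x = y)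
    (a b : Fin n) (hab : a ≠ b) (hsw : swap a b ∈ T) (w : Fin n) (hwα : w ≠ α) (hwa : w ≠ a)
    (hwb : w ≠ b) :
    ∀ x y, x ≠ α → y ≠ α → ∃ t ∈ T, sign t = 1 ∧ t x = y := by
  have key : ∀ y, y ≠ α → ∃ t ∈ T, sign t = 1 ∧ t w = y := by
    intro y hy
    obtain ⟨g, hg, hgw⟩ := htr w y hwα hy
    rcases Int.units_eq_one_or (sign g) with h | h
    · exact ⟨g, hg, h, hgw⟩
    · refine ⟨g * swap a b, T.mul_mem hg hsw, ?_, ?_⟩
      · rw [Perm.sign_mul, h, sign_swap hab]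
        rfl
      · rw [Perm.mul_apply, swap_apply_of_ne_of_ne hwa hwb, hgw]
  intro x y hx hy
  obtain ⟨tx, htx, hsx, hx'⟩ := key x hx
  obtain ⟨ty, hty, hsy, hy'⟩ := key y hy
  refine ⟨ty * tx⁻¹, T.mul_mem hty (T.inv_mem htx), ?_, ?_⟩
  · rw [Perm.sign_mul, sign_inv, hsx, hsy]
    rfl
  · rw [Perm.mul_apply, ← hx', Perm.coe_inv, symm_apply_apply, hy']

theorem odd_doubleFactorial (k : ℕ) : Odd (2 * k + 1).doubleFactorial := by
  induction k with
  | zero => simp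
  | succ k ih =>
    have h : 2 * (k + 1) + 1 = (2 * k + 1) + 2 := by ring
    rw [h, Nat.doubleFactorial_add_two]
    have h3 : Odd (2 * k + 1 + 2) := ⟨k + 1, by ring⟩
    exact h3.mul ih

/-- the number of fixed-point-free involutions of `2h` points is odd -/
theorem card_fpf_odd (h : ℕ) (hh : 1 ≤ h) :
    Odd (Finset.univ.filter (fun g : Perm (Fin (2 * h)) =>
      g.cycleType = Multiset.replicate h 2)).card := by
  have hmul := Equiv.Perm.card_of_cycleType_mul_eq (Fin (2 * h)) (Multiset.replicate h 2)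
  have hsum : (Multiset.replicate h 2).sum = 2 * h := by simp [mul_comm]
  have hcond : (Multiset.replicate h 2).sum ≤ Fintype.card (Fin (2 * h)) ∧
      ∀ a ∈ Multiset.replicate h 2, 2 ≤ a := by
    refine ⟨by simp [hsum], ?_⟩
    intro a ha
    rw [Multiset.eq_of_mem_replicate ha]
  rw [if_pos hcond, hsum, Fintype.card_fin, Nat.sub_self, Nat.factorial_zero, one_mul,
    Multiset.prod_replicate, Multiset.toFinset_replicate, if_neg (by omega),
    Finset.prod_singleton, Multiset.count_replicate_self] at hmul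
  obtain ⟨k, rfl⟩ : ∃ k, h = k + 1 := ⟨h - 1, by omega⟩
  have hfac : (2 * (k + 1)).factorial
      = (2 * k + 1).doubleFactorial * (2 ^ (k + 1) * (k + 1).factorial) := by
    have e : 2 * (k + 1) = (2 * k + 1) + 1 := by ring
    rw [e, Nat.factorial_eq_mul_doubleFactorial, ← e, Nat.doubleFactorial_two_mul]
    ring
  rw [hfac] at hmul
  have hpos : 0 < 2 ^ (k + 1) * (k + 1).factorial := by positivity
  have := Nat.eq_of_mul_eq_mul_right hpos hmul
  rw [this]
  exact odd_doubleFactorial k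

/-- A `2`-subgroup of `S_n`, `n` even, centralizes a fixed-point-free involution. -/
theorem exists_fpf_commuting (hn : Even n) (hpos : 0 < n) (T : Subgroup (Perm (Fin n)))
    (hT : IsPGroup 2 T) :
    ∃ p : Perm (Fin n), (∀ x, p (p x) = x) ∧ (∀ x, p x ≠ x) ∧ ∀ t ∈ T, t * p = p * t := by
  obtain ⟨h, rfl⟩ : ∃ h, n = 2 * h := by
    obtain ⟨k, hk⟩ := hn
    exact ⟨k, by omega⟩
  have hh : 1 ≤ h := by omega
  have hodd := card_fpf_odd h hh
  let _ : MulAction T {g : Perm (Fin (2 * h)) // g.cycleType = Multiset.replicate h 2} :=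
    { smul := fun t g => ⟨(t : Perm (Fin (2 * h))) * g.1 * (t : Perm (Fin (2 * h)))⁻¹, by
        rw [cycleType_conj]
        exact g.2⟩
      one_smul := fun g => Subtype.ext (by
        change ((1 : T) : Perm (Fin (2 * h))) * g.1 * ((1 : T) : Perm (Fin (2 * h)))⁻¹ = g.1
        simp)
      mul_smul := fun a b g => Subtype.ext (by
        change ((a * b : T) : Perm (Fin (2 * h))) * g.1 * ((a * b : T) : Perm (Fin (2 * h)))⁻¹
          = (a : Perm (Fin (2 * h))) * ((b : Perm (Fin (2 * h))) * g.1 *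
            (b : Perm (Fin (2 * h)))⁻¹) * (a : Perm (Fin (2 * h)))⁻¹
        simp [mul_assoc]) }
  have hnd : ¬ 2 ∣ Nat.card {g : Perm (Fin (2 * h)) // g.cycleType = Multiset.replicate h 2} := by
    rw [Nat.card_eq_fintype_card, Fintype.card_subtype]
    exact hodd.not_two_dvd_nat
  obtain ⟨⟨p, hp⟩, hfix⟩ := hT.nonempty_fixed_point_of_prime_not_dvd_card _ hnd
  have hp2 : p ^ 2 = 1 := by
    apply orderOf_dvd_iff_pow_eq_one.1
    rw [← lcm_cycleType, hp]
    apply Multiset.lcm_dvd.2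
    intro b hb
    rw [Multiset.eq_of_mem_replicate hb]
  have hsupp : p.support = Finset.univ := by
    rw [← Finset.card_eq_iff_eq_univ, ← sum_cycleType, hp, Fintype.card_fin]
    simp [mul_comm]
  refine ⟨p, ?_, ?_, ?_⟩
  · intro x
    have := congrArg (fun f : Perm (Fin (2 * h)) => f x) hp2
    simpa [pow_two] using this
  · intro x
    apply Equiv.Perm.mem_support.1
    rw [hsupp]
    exact Finset.mem_univ _
  · intro t ht
    have h1 := hfix ⟨t, ht⟩
    have h2 : t * p * t⁻¹ = p := congrArg Subtype.val h1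
    calc t * p = t * p * t⁻¹ * t := by group
      _ = p * t := by rw [h2]

/-- A transitive `2`-subgroup of `S_n` preserves a partition into two halves. -/
theorem exists_halves (T : Subgroup (Perm (Fin n))) (hT : IsPGroup 2 T) (hn : 2 ≤ n)
    (htr : ∀ x y : Fin n, ∃ t ∈ T, t x = y) :
    ∃ B : Set (Fin n), B.Nonempty ∧ Bᶜ.Nonempty ∧
      ∀ g ∈ T, (∀ x, g x ∈ B ↔ x ∈ B) ∨ (∀ x, g x ∈ B ↔ x ∉ B) := by
  obtain ⟨x₀, hx₀⟩ : ∃ x₀ : Fin n, x₀ = ⟨0, by omega⟩ := ⟨_, rfl⟩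
  obtain ⟨x₁, hx₁⟩ : ∃ x₁ : Fin n, x₁ = ⟨1, by omega⟩ := ⟨_, rfl⟩
  have h01 : x₁ ≠ x₀ := by
    rw [hx₀, hx₁]
    simp [Fin.ext_iff]
  obtain ⟨N, hN⟩ := IsPGroup.iff_card.1 hT
  have hS : IsPGroup 2 (MulAction.stabilizer T x₀) := hT.to_subgroup _
  obtain ⟨s, hs⟩ := IsPGroup.iff_card.1 hS
  have hSne : Nat.card (MulAction.stabilizer T x₀) ≠ Nat.card T := by
    intro h
    have htop := Subgroup.eq_top_of_card_eq _ h
    obtain ⟨t, ht, htx⟩ := htr x₀ x₁
    have : (⟨t, ht⟩ : T) ∈ MulAction.stabilizer T x₀ := by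
      rw [htop]
      exact Subgroup.mem_top _
    rw [MulAction.mem_stabilizer_iff] at this
    exact h01 (htx.symm.trans this)
  have hdvd : Nat.card (MulAction.stabilizer T x₀) ∣ Nat.card T :=
    Subgroup.card_subgroup_dvd_card _
  rw [hs, hN] at hdvd hSne
  have hsN : s ≤ N := (Nat.pow_dvd_pow_iff_le_right (by norm_num)).1 hdvd
  have hsN' : s ≠ N := fun h => hSne (by rw [h])
  have hN1 : 1 ≤ N := by omega
  obtain ⟨K, hKcard, hSK⟩ := Sylow.exists_subgroup_card_pow_prime_le 2 (m := N - 1)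
    (by rw [hN]; exact pow_dvd_pow 2 (by omega)) (MulAction.stabilizer T x₀) hs (by omega)
  have hidx : K.index = 2 := by
    have h1 := K.card_mul_index
    rw [hKcard, hN] at h1
    have h2 : (2 : ℕ) ^ N = 2 ^ (N - 1) * 2 := by
      rw [← pow_succ]
      congr 1
      omega
    rw [h2] at h1
    exact Nat.eq_of_mul_eq_mul_left (by positivity) h1
  have hmain : ∀ g : T, (g ∈ K → ∀ x, (g : Perm (Fin n)) x ∈
        {y | ∃ k : T, k ∈ K ∧ (k : Perm (Fin n)) x₀ = y} ↔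
          x ∈ {y | ∃ k : T, k ∈ K ∧ (k : Perm (Fin n)) x₀ = y}) ∧
      (g ∉ K → ∀ x, (g : Perm (Fin n)) x ∈ {y | ∃ k : T, k ∈ K ∧ (k : Perm (Fin n)) x₀ = y} ↔
          x ∉ {y | ∃ k : T, k ∈ K ∧ (k : Perm (Fin n)) x₀ = y}) := by
    intro g
    constructor
    · intro hg x
      constructor
      · rintro ⟨k, hk, hkx⟩
        refine ⟨g⁻¹ * k, K.mul_mem (K.inv_mem hg) hk, ?_⟩
        change (g : Perm (Fin n))⁻¹ ((k : Perm (Fin n)) x₀) = x
        rw [hkx]
        simp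
      · rintro ⟨k, hk, hkx⟩
        refine ⟨g * k, K.mul_mem hg hk, ?_⟩
        change (g : Perm (Fin n)) ((k : Perm (Fin n)) x₀) = (g : Perm (Fin n)) x
        rw [hkx]
    · intro hg x
      constructor
      · rintro ⟨k', hk', hk'x⟩ ⟨k, hk, hkx⟩
        apply hg
        have hmem : k'⁻¹ * g * k ∈ MulAction.stabilizer T x₀ := by
          rw [MulAction.mem_stabilizer_iff]
          change (k' : Perm (Fin n))⁻¹ ((g : Perm (Fin n)) ((k : Perm (Fin n)) x₀)) = x₀
          rw [hkx, ← hk'x]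
          simp
        have h3 := hSK hmem
        have h4 : g = k' * (k'⁻¹ * g * k) * k⁻¹ := by group
        rw [h4]
        exact K.mul_mem (K.mul_mem hk' h3) (K.inv_mem hk)
      · intro hx
        obtain ⟨t, ht, htx⟩ := htr x₀ x
        have htK : (⟨t, ht⟩ : T) ∉ K := fun h => hx ⟨⟨t, ht⟩, h, htx⟩
        have h5 : g * ⟨t, ht⟩ ∈ K := by
          rw [Subgroup.mul_mem_iff_of_index_two hidx]
          exact ⟨fun h => absurd h hg, fun h => absurd h htK⟩
        refine ⟨g * ⟨t, ht⟩, h5, ?_⟩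
        change (g : Perm (Fin n)) (t x₀) = (g : Perm (Fin n)) x
        rw [htx]
  have hx₀B : x₀ ∈ {y | ∃ k : T, k ∈ K ∧ (k : Perm (Fin n)) x₀ = y} := ⟨1, K.one_mem, rfl⟩
  refine ⟨{y | ∃ k : T, k ∈ K ∧ (k : Perm (Fin n)) x₀ = y}, ⟨x₀, hx₀B⟩, ?_, ?_⟩
  · have hKtop : K ≠ ⊤ := by
      intro h
      rw [h, Subgroup.index_top] at hidx
      omega
    obtain ⟨g, hg⟩ : ∃ g : T, g ∉ K := by
      by_contra hcon
      push Not at hcon
      exact hKtop (eq_top_iff.2 fun g _ => hcon g)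
    refine ⟨(g : Perm (Fin n)) x₀, ?_⟩
    intro hmem
    exact ((hmain g).2 hg x₀).1 hmem hx₀B
  · intro g hg
    by_cases hgK : (⟨g, hg⟩ : T) ∈ K
    · exact Or.inl ((hmain ⟨g, hg⟩).1 hgK)
    · exact Or.inr ((hmain ⟨g, hg⟩).2 hgK)

end Cfsg.Agent.Lib.Helper45.SylMax
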