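import Mathlib
import Cfsg.Prelude.Def_TwoFusion
import Cfsg.Agent.Lib.Helper45.SwapMatching2
import Cfsg.Agent.Lib.Helper45.SylMax2

set_option autoImplicit false

/-!
Foundation for S2221 (direct decomposability of the Sylow 2-subgroups of `A_n`).
`T` is a Sylow 2-subgroup of `Perm X`; `swapsIn T` is the set of its transpositions (a matching covering
all points of `X` but at most one); `PT T = T ⊓ A_X`; `E0 T` = the elements of `PT T` centralizing all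
swaps of `T`; `Mv v τ` says that `v` moves (a point of) the support of `τ`.
-/

namespace Cfsg.Agent.Lib.Helper45.S21

open Equiv Cfsg.Agent.Lib.Helper45

variable {X : Type} [Fintype X] [DecidableEq X]

/-- `v` moves a point of the support of `τ` -/
def Mv (v τ : Perm X) : Prop := ∃ y, τ y ≠ y ∧ v y ≠ y

/-- the even part of `T` -/
def PT (T : Subgroup (Perm X)) : Subgroup (Perm X) := T ⊓ alternatingGroup X

/-- the even elements of `T` centralizing all swaps of `T` -/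
def E0 (T : Subgroup (Perm X)) : Subgroup (Perm X) := PT T ⊓ Subgroup.centralizer (swapsIn T)

theorem mem_PT (T : Subgroup (Perm X)) (g : Perm X) : g ∈ PT T ↔ g ∈ T ∧ Perm.sign g = 1 := by
  unfold PT
  rw [Subgroup.mem_inf, Perm.mem_alternatingGroup]

theorem mem_E0 (T : Subgroup (Perm X)) (v : Perm X) :
    v ∈ E0 T ↔ (v ∈ T ∧ Perm.sign v = 1) ∧ ∀ τ ∈ swapsIn T, v * τ * v⁻¹ = τ := by
  unfold E0
  rw [Subgroup.mem_inf, mem_PT, Subgroup.mem_centralizer_iff]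
  constructor
  · rintro ⟨h1, h2⟩
    refine ⟨h1, fun τ hτ => ?_⟩
    rw [← h2 τ hτ]; group
  · rintro ⟨h1, h2⟩
    refine ⟨h1, fun τ hτ => ?_⟩
    have := h2 τ hτ
    calc τ * v = (v * τ * v⁻¹) * v := by rw [this]
      _ = v * τ := by group

/-- a point fixed by all swaps of `T` is unique -/
theorem uncov (T : Sylow 2 (Perm X)) (x y : X)
    (hx : ∀ τ ∈ swapsIn (T : Subgroup (Perm X)), τ x = x)
    (hy : ∀ τ ∈ swapsIn (T : Subgroup (Perm X)), τ y = y) : x = y := by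
  obtain ⟨e, hM⟩ := swaps_structure (Fintype.card X) rfl T
  exact uncovered_unique hM x y hx hy

/-- two elements centralizing all swaps of `T` and moving the same swaps are equal -/
theorem same_moved (T : Sylow 2 (Perm X)) (t t' : Perm X)
    (hc : ∀ τ ∈ swapsIn (T : Subgroup (Perm X)), t * τ * t⁻¹ = τ)
    (hc' : ∀ τ ∈ swapsIn (T : Subgroup (Perm X)), t' * τ * t'⁻¹ = τ)
    (hsame : ∀ τ ∈ swapsIn (T : Subgroup (Perm X)), (Mv t τ ↔ Mv t' τ)) : t = t' := by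
  obtain ⟨e, hM⟩ := swaps_structure (Fintype.card X) rfl T
  exact eq_of_same_moved hM t t' hc hc' hsame

theorem card_swaps (T : Sylow 2 (Perm X)) :
    Nat.card ↥(swapsIn (T : Subgroup (Perm X))) = Fintype.card X / 2 := by
  obtain ⟨e, hM⟩ := swaps_structure (Fintype.card X) rfl T
  exact card_swapsIn hM

theorem swaps_comm (T : Sylow 2 (Perm X)) (τ τ' : Perm X)
    (hτ : τ ∈ swapsIn (T : Subgroup (Perm X))) (hτ' : τ' ∈ swapsIn (T : Subgroup (Perm X))) :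
    τ * τ' = τ' * τ := by
  obtain ⟨e, hM⟩ := swaps_structure (Fintype.card X) rfl T
  obtain ⟨i, rfl⟩ := (hM τ).mp hτ
  obtain ⟨j, rfl⟩ := (hM τ').mp hτ'
  exact sw_comm e i j

/-- distinct swaps of `T` have disjoint supports -/
theorem swaps_disj (T : Sylow 2 (Perm X)) (τ τ' : Perm X)
    (hτ : τ ∈ swapsIn (T : Subgroup (Perm X))) (hτ' : τ' ∈ swapsIn (T : Subgroup (Perm X)))
    (x : X) (hx : τ x ≠ x) (hx' : τ' x ≠ x) : τ = τ' :=
  swap_eq_of_common T.isPGroup' hτ.1 hτ'.1 hτ.2 hτ'.2 hx hx'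

/-- a swap of `T` centralizes all swaps of `T` -/
theorem swap_cent (T : Sylow 2 (Perm X)) (τ τ' : Perm X)
    (hτ : τ ∈ swapsIn (T : Subgroup (Perm X))) (hτ' : τ' ∈ swapsIn (T : Subgroup (Perm X))) :
    τ * τ' * τ⁻¹ = τ' := by
  rw [swaps_comm T τ τ' hτ hτ']; group

/-- conjugation by an element of `T` permutes the swaps of `T` -/
theorem conj_swap_mem (T : Subgroup (Perm X)) (g τ : Perm X) (hg : g ∈ T) (hτ : τ ∈ swapsIn T) :
    g * τ * g⁻¹ ∈ swapsIn T :=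
  ⟨T.mul_mem (T.mul_mem hg hτ.1) (T.inv_mem hg), isSwap_conj g hτ.2⟩

theorem mv_iff (T : Sylow 2 (Perm X)) (v τ : Perm X) (hτ : τ ∈ swapsIn (T : Subgroup (Perm X)))
    (hv : v * τ * v⁻¹ = τ) (x : X) (hx : τ x ≠ x) : Mv v τ ↔ v x ≠ x :=
  moved_iff hτ.2 hv hx

theorem swap_sq (τ : Perm X) (hτ : τ.IsSwap) : τ * τ = 1 := by
  obtain ⟨a, b, hab, rfl⟩ := hτ
  exact swap_mul_self a b

theorem swap_inv' (τ : Perm X) (hτ : τ.IsSwap) : τ⁻¹ = τ := by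
  obtain ⟨a, b, hab, rfl⟩ := hτ
  exact swap_inv a b

theorem sign_swap' (τ : Perm X) (hτ : τ.IsSwap) : Perm.sign τ = -1 := by
  obtain ⟨a, b, hab, rfl⟩ := hτ
  exact Perm.sign_swap hab

/-- a pairing `ρ` of the swaps of `T` (the swaps of the Sylow 2-subgroup induced on the set of swaps) -/
structure Pairing (T : Sylow 2 (Perm X)) (ρ : Perm X → Perm X) : Prop where
  mem : ∀ τ ∈ swapsIn (T : Subgroup (Perm X)), ρ τ ∈ swapsIn (T : Subgroup (Perm X))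
  invol : ∀ τ ∈ swapsIn (T : Subgroup (Perm X)), ρ (ρ τ) = τ
  fix_unique : ∀ τ ∈ swapsIn (T : Subgroup (Perm X)), ∀ τ' ∈ swapsIn (T : Subgroup (Perm X)),
    ρ τ = τ → ρ τ' = τ' → τ = τ'
  even : Even (Fintype.card X / 2) → ∀ τ ∈ swapsIn (T : Subgroup (Perm X)), ρ τ ≠ τ
  equiv : ∀ g ∈ (T : Subgroup (Perm X)), ∀ τ ∈ swapsIn (T : Subgroup (Perm X)),
    ρ (g * τ * g⁻¹) = g * ρ τ * g⁻¹
  conj : ∀ τ ∈ swapsIn (T : Subgroup (Perm X)), ρ τ ≠ τ → ∃ h ∈ (T : Subgroup (Perm X)),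
    h * τ * h⁻¹ = ρ τ ∧ h * ρ τ * h⁻¹ = τ ∧
      ∀ σ ∈ swapsIn (T : Subgroup (Perm X)), σ ≠ τ → σ ≠ ρ τ → h * σ * h⁻¹ = σ
  trans : ∀ j : ℕ, 1 ≤ j → Fintype.card X / 2 = 2 ^ j + 1 →
    ∀ τ ∈ swapsIn (T : Subgroup (Perm X)), ∀ τ' ∈ swapsIn (T : Subgroup (Perm X)),
      ρ τ ≠ τ → ρ τ' ≠ τ' → ∃ g ∈ (T : Subgroup (Perm X)), g * τ * g⁻¹ = τ'

/-- hypotheses of the indecomposability argument -/
structure Dec (T : Sylow 2 (Perm X)) (S₁ S₂ : Subgroup (Perm X)) : Prop where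
  h6 : 6 ≤ Fintype.card X
  dp : Cfsg.IsInternalDirectProduct S₁ S₂ (PT (T : Subgroup (Perm X)))

/-- the elements of `PT T` fixing `Y` pointwise -/
def fixSub (T : Subgroup (Perm X)) (Y : Set X) : Subgroup (Perm X) where
  carrier := {σ | σ ∈ PT T ∧ ∀ x ∈ Y, σ x = x}
  mul_mem' := by
    rintro a b ⟨ha, ha'⟩ ⟨hb, hb'⟩
    refine ⟨(PT T).mul_mem ha hb, fun x hx => ?_⟩
    rw [Perm.mul_apply, hb' x hx, ha' x hx]
  one_mem' := ⟨(PT T).one_mem, fun x _ => rfl⟩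
  inv_mem' := by
    rintro a ⟨ha, ha'⟩
    refine ⟨(PT T).inv_mem ha, fun x hx => ?_⟩
    rw [Perm.inv_eq_iff_eq, ha' x hx]

theorem mem_fixSub (T : Subgroup (Perm X)) (Y : Set X) (σ : Perm X) :
    σ ∈ fixSub T Y ↔ σ ∈ PT T ∧ ∀ x ∈ Y, σ x = x := Iff.rfl

/-- the points moved by the swaps in `𝒜` -/
def OmA (𝒜 : Set (Perm X)) : Set X := {x | ∃ τ ∈ 𝒜, τ x ≠ x}

/-- the points outside `OmA 𝒜` fixed by `t` -/
def OmB (t : Perm X) (𝒜 : Set (Perm X)) : Set X := {x | x ∉ OmA 𝒜 ∧ t x = x}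

/-- a `T`-invariant swap `t` and a `T`-invariant set `𝒜` of swaps, with another swap outside -/
structure Parts (T : Sylow 2 (Perm X)) (t : Perm X) (𝒜 : Set (Perm X)) : Prop where
  ht : t ∈ swapsIn (T : Subgroup (Perm X))
  sub : 𝒜 ⊆ swapsIn (T : Subgroup (Perm X))
  notMem : t ∉ 𝒜
  fix : ∀ g ∈ (T : Subgroup (Perm X)), g * t * g⁻¹ = t
  inv : ∀ g ∈ (T : Subgroup (Perm X)), ∀ τ ∈ 𝒜, g * τ * g⁻¹ ∈ 𝒜
  ne : ∃ τ, τ ∈ 𝒜
  ne' : ∃ τ ∈ swapsIn (T : Subgroup (Perm X)), τ ≠ t ∧ τ ∉ 𝒜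

end Cfsg.Agent.Lib.Helper45.S21
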