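import Mathlib
import Cfsg.Agent.Lib.Helper45.S21A

/-! S2221 piece Transfer (project of helper45).
PLACEHOLDER: replace the `sorry`(s) in THIS file; keep theorem names and statements byte-identical;
keep the namespace; auxiliary lemmas go ABOVE the theorems and MUST start with the prefix `tf_`.
Paper proofs: see the note (topic "S2221"). -/

set_option autoImplicit false

namespace Cfsg.Agent.Lib.Helper45.S21

open Equiv Cfsg.Agent.Lib.Helper45

variable {X : Type} [Fintype X] [DecidableEq X]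

theorem tf_img_eq (n : ℕ) (P : Sylow 2 (alternatingGroup (Fin n))) (T : Sylow 2 (Perm (Fin n)))
    (hT : ∀ σ : Perm (Fin n), σ ∈ SylMax.img (P : Subgroup (alternatingGroup (Fin n))) ↔
      (σ ∈ (T : Subgroup (Perm (Fin n))) ∧ σ ∈ alternatingGroup (Fin n))) :
    (P : Subgroup (alternatingGroup (Fin n))).map (alternatingGroup (Fin n)).subtype
      = PT (T : Subgroup (Perm (Fin n))) := by
  ext σ
  have h := hT σ
  unfold SylMax.img at h
  rw [h]
  unfold PT
  rw [Subgroup.mem_inf]

theorem tf_forward {G H : Type*} [Group G] [Group H] (f : G →* H) (hf : Function.Injective f)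
    (S₁ S₂ S : Subgroup G) (h : Cfsg.IsInternalDirectProduct S₁ S₂ S) :
    Cfsg.IsInternalDirectProduct (S₁.map f) (S₂.map f) (S.map f) := by
  obtain ⟨h1, h2, h3, h4, h5⟩ := h
  refine ⟨Subgroup.map_mono h1, Subgroup.map_mono h2, ?_, ?_, ?_⟩
  · rintro _ ⟨a, ha, rfl⟩ _ ⟨b, hb, rfl⟩
    rw [← map_mul, ← map_mul, h3 a ha b hb]
  · rw [← Subgroup.map_inf _ _ f hf, h4, Subgroup.map_bot]
  · rw [← Subgroup.map_sup, h5]

theorem tf_backward {G H : Type*} [Group G] [Group H] (f : G →* H) (hf : Function.Injective f)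
    (S₁ S₂ : Subgroup H) (S : Subgroup G) (h : Cfsg.IsInternalDirectProduct S₁ S₂ (S.map f)) :
    Cfsg.IsInternalDirectProduct (S₁.comap f) (S₂.comap f) S := by
  obtain ⟨h1, h2, h3, h4, h5⟩ := h
  have hr : S.map f ≤ f.range := by
    rintro _ ⟨x, _, rfl⟩
    exact ⟨x, rfl⟩
  have e1 : (S₁.comap f).map f = S₁ := by
    rw [Subgroup.map_comap_eq]
    exact inf_eq_right.mpr (h1.trans hr)
  have e2 : (S₂.comap f).map f = S₂ := by
    rw [Subgroup.map_comap_eq]
    exact inf_eq_right.mpr (h2.trans hr)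
  refine ⟨?_, ?_, ?_, ?_, ?_⟩
  · rw [← Subgroup.map_le_map_iff_of_injective hf, e1]; exact h1
  · rw [← Subgroup.map_le_map_iff_of_injective hf, e2]; exact h2
  · intro a ha b hb
    apply hf
    rw [map_mul, map_mul]
    exact h3 (f a) ha (f b) hb
  · rw [← Subgroup.comap_inf, h4]
    ext x
    rw [Subgroup.mem_comap, Subgroup.mem_bot, Subgroup.mem_bot]
    exact ⟨fun hx => hf (hx.trans (map_one f).symm), fun hx => by rw [hx, map_one]⟩
  · apply Subgroup.map_injective hf
    rw [Subgroup.map_sup, e1, e2, h5]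

/-- decompositions of a Sylow 2-subgroup of `A_n` correspond to decompositions of its image in `S_n` -/
theorem transfer (n : ℕ) (P : Sylow 2 (alternatingGroup (Fin n))) (T : Sylow 2 (Perm (Fin n)))
    (hT : ∀ σ : Perm (Fin n), σ ∈ SylMax.img (P : Subgroup (alternatingGroup (Fin n))) ↔
      (σ ∈ (T : Subgroup (Perm (Fin n))) ∧ σ ∈ alternatingGroup (Fin n))) :
    (∃ S₁ S₂ : Subgroup (alternatingGroup (Fin n)), S₁ ≠ ⊥ ∧ S₂ ≠ ⊥ ∧
        Cfsg.IsInternalDirectProduct S₁ S₂ (P : Subgroup (alternatingGroup (Fin n)))) ↔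
      (∃ S₁ S₂ : Subgroup (Perm (Fin n)), S₁ ≠ ⊥ ∧ S₂ ≠ ⊥ ∧
        Cfsg.IsInternalDirectProduct S₁ S₂ (PT (T : Subgroup (Perm (Fin n))))) := by
  have himg := tf_img_eq n P T hT
  have hinj : Function.Injective (alternatingGroup (Fin n)).subtype := Subgroup.subtype_injective _
  constructor
  · rintro ⟨S₁, S₂, n1, n2, h⟩
    refine ⟨S₁.map (alternatingGroup (Fin n)).subtype, S₂.map (alternatingGroup (Fin n)).subtype,
      ?_, ?_, ?_⟩
    · rw [Ne, Subgroup.map_eq_bot_iff_of_injective _ hinj]; exact n1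
    · rw [Ne, Subgroup.map_eq_bot_iff_of_injective _ hinj]; exact n2
    · rw [← himg]
      exact tf_forward _ hinj S₁ S₂ _ h
  · rintro ⟨S₁, S₂, n1, n2, h⟩
    rw [← himg] at h
    have hr : (P : Subgroup (alternatingGroup (Fin n))).map (alternatingGroup (Fin n)).subtype
        ≤ (alternatingGroup (Fin n)).subtype.range := by
      rintro _ ⟨x, _, rfl⟩
      exact ⟨x, rfl⟩
    have e1 : (S₁.comap (alternatingGroup (Fin n)).subtype).map (alternatingGroup (Fin n)).subtype
        = S₁ := by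
      rw [Subgroup.map_comap_eq]
      exact inf_eq_right.mpr (h.1.trans hr)
    have e2 : (S₂.comap (alternatingGroup (Fin n)).subtype).map (alternatingGroup (Fin n)).subtype
        = S₂ := by
      rw [Subgroup.map_comap_eq]
      exact inf_eq_right.mpr (h.2.1.trans hr)
    refine ⟨S₁.comap (alternatingGroup (Fin n)).subtype, S₂.comap (alternatingGroup (Fin n)).subtype,
      ?_, ?_, tf_backward _ hinj S₁ S₂ _ h⟩
    · intro hb
      rw [hb, Subgroup.map_bot] at e1
      exact n1 e1.symm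
    · intro hb
      rw [hb, Subgroup.map_bot] at e2
      exact n2 e2.symm

end Cfsg.Agent.Lib.Helper45.S21
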