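import Mathlib
import Cfsg.Agent.S0810
import Cfsg.Agent.Lib.Helper54.SL2Cent
import Cfsg.Agent.Lib.Helper54.DkMax
import Cfsg.Agent.Lib.Helper45.PslMaxArith

set_option autoImplicit false

/-!
`SL₂(F)` in characteristic 2: involutions, the normalizer `Nrm t` of a torus, exact order of the
centralizer of a nonsplit element.
-/

namespace Cfsg.Agent.Lib.Helper45.Sl2Even

open Matrix Cfsg.Agent.S0809 Cfsg.Agent.Lib.Helper19.Dk

section Grp

variable {G : Type*} [Group G]

/-- the elements centralizing or inverting `t` -/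
def Nrm (t : G) : Subgroup G where
  carrier := {g | g * t * g⁻¹ = t ∨ g * t * g⁻¹ = t⁻¹}
  mul_mem' := by
    rintro a b ha hb
    have e : a * b * t * (a * b)⁻¹ = a * (b * t * b⁻¹) * a⁻¹ := by group
    show a * b * t * (a * b)⁻¹ = t ∨ a * b * t * (a * b)⁻¹ = t⁻¹
    rw [e]
    rcases hb with hb | hb
    · rw [hb]; exact ha
    · rw [hb]
      have e2 : a * t⁻¹ * a⁻¹ = (a * t * a⁻¹)⁻¹ := by group
      rw [e2]
      rcases ha with ha | ha
      · right; rw [ha]
      · left; rw [ha, inv_inv]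
  one_mem' := by left; group
  inv_mem' := by
    rintro a ha
    show a⁻¹ * t * a⁻¹⁻¹ = t ∨ a⁻¹ * t * a⁻¹⁻¹ = t⁻¹
    rw [inv_inv]
    rcases ha with ha | ha
    · left
      have h1 : a * t = t * a := mul_inv_eq_iff_eq_mul.1 ha
      calc a⁻¹ * t * a = a⁻¹ * (t * a) := by group
        _ = a⁻¹ * (a * t) := by rw [← h1]
        _ = t := by group
    · right
      have h1 : a * t⁻¹ * a⁻¹ = t := by
        calc a * t⁻¹ * a⁻¹ = (a * t * a⁻¹)⁻¹ := by group
          _ = t := by rw [ha, inv_inv]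
      calc a⁻¹ * t * a = a⁻¹ * (a * t⁻¹ * a⁻¹) * a := by rw [h1]
        _ = t⁻¹ := by group

theorem mem_Nrm {t g : G} : g ∈ Nrm t ↔ g * t * g⁻¹ = t ∨ g * t * g⁻¹ = t⁻¹ := Iff.rfl

theorem self_mem_Nrm (t : G) : t ∈ Nrm t := by
  rw [mem_Nrm]; left; group

/-- if `Nrm t` is everything then `⟨t⟩` is normal -/
theorem zpowers_normal_of_Nrm_top (t : G) (h : Nrm t = ⊤) : (Subgroup.zpowers t).Normal := by
  constructor
  intro n hn g
  obtain ⟨k, rfl⟩ := Subgroup.mem_zpowers_iff.1 hn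
  have hg : g ∈ Nrm t := by rw [h]; trivial
  have e : g * t ^ k * g⁻¹ = (g * t * g⁻¹) ^ k := by
    rw [conj_zpow]
  rw [e]
  rcases hg with hg | hg
  · rw [hg]; exact Subgroup.zpow_mem_zpowers t k
  · rw [hg]; exact Subgroup.zpow_mem _ (Subgroup.inv_mem _ (Subgroup.mem_zpowers t)) k

end Grp

section Char2

variable {F : Type*} [Field F]

theorem sq_of_tr_zero (h2 : (2 : F) = 0) (g : S2 F) (h : tr g = 0) : g * g = 1 := by
  have hd := det2 g
  unfold tr at h
  apply ext2 <;> simp only [mul00, mul01, mul10, mul11, one00, one01, one10, one11]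
  · linear_combination (-1 : F) * hd + g 0 0 * h - h2
  · linear_combination g 0 1 * h
  · linear_combination g 1 0 * h
  · linear_combination (-1 : F) * hd + g 1 1 * h - h2

theorem tr_zero_of_sq (h2 : (2 : F) = 0) (g : S2 F) (h : g * g = 1) : tr g = 0 := by
  have e00 := congrArg (fun x : S2 F => x 0 0) h
  have e11 := congrArg (fun x : S2 F => x 1 1) h
  simp only [mul00, mul11, one00, one11] at e00 e11
  unfold tr
  have h3 : (g 0 0 + g 1 1) ^ 2 = 0 := by
    linear_combination e00 - e11 + (g 0 0 * g 1 1 + g 1 1 ^ 2) * h2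
  exact pow_eq_zero_iff (two_ne_zero) |>.1 h3

theorem tr_sq_char2 (h2 : (2 : F) = 0) (g : S2 F) : tr (g * g) = tr g ^ 2 := by
  have hd := det2 g
  unfold tr
  simp only [mul00, mul11]
  linear_combination (-2 : F) * hd - h2

/-- `2`-elements are involutions -/
theorem sq_of_pow_four (h2 : (2 : F) = 0) (g : S2 F) (h : g ^ 4 = 1) : g * g = 1 := by
  have h1 : (g * g) * (g * g) = 1 := by
    rw [← h, show (4 : ℕ) = 2 + 2 from rfl, pow_add, pow_two]
  have h3 := tr_zero_of_sq h2 _ h1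
  rw [tr_sq_char2 h2] at h3
  exact sq_of_tr_zero h2 g (pow_eq_zero_iff (two_ne_zero) |>.1 h3)

/-- an element inverting a regular semisimple element has trace `0` -/
theorem tr_inverting (h2 : (2 : F) = 0) (y x : S2 F) (h : y * x * y⁻¹ = x⁻¹) (hx : tr x ≠ 0) :
    tr y = 0 := by
  have h' : y * x = x⁻¹ * y := by rw [← h]; group
  have e00 := congrArg (fun g : S2 F => g 0 0) h'
  have e11 := congrArg (fun g : S2 F => g 1 1) h'
  simp only [mul00, mul11, inv00, inv01, inv10, inv11] at e00 e11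
  unfold tr at hx ⊢
  have h3 : (x 0 0 + x 1 1) * (y 0 0 + y 1 1) = 0 := by
    linear_combination e00 + e11 + (x 1 1 * y 0 0 + x 0 0 * y 1 1 - y 0 1 * x 1 0 - y 1 0 * x 0 1) * h2
  rcases mul_eq_zero.1 h3 with h4 | h4
  · exact absurd h4 hx
  · exact h4

theorem tr_sq_ne_four (h2 : (2 : F) = 0) (x : S2 F) (hx : tr x ≠ 0) : tr x ^ 2 ≠ 4 := by
  intro h
  have h4 : (4 : F) = 0 := by linear_combination (2 : F) * h2
  rw [h4] at h
  exact hx (pow_eq_zero_iff (two_ne_zero) |>.1 h)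

theorem tr_ne_zero_of_sq_ne (h2 : (2 : F) = 0) (x : S2 F) (hx : tr x ^ 2 ≠ 4) : tr x ≠ 0 := by
  intro h
  apply hx
  rw [h]
  linear_combination (-2 : F) * h2

theorem isSc_iff_one (h2 : (2 : F) = 0) (g : S2 F) : IsSc g ↔ g = 1 := by
  constructor
  · intro h
    rcases isSc_eq g h with h | h
    · exact h
    · rw [h, negOne_eq_one h2]
  · rintro rfl; exact isSc_one

theorem center_eq_bot (h2 : (2 : F) = 0) : Subgroup.center (S2 F) = ⊥ := by
  rw [Subgroup.eq_bot_iff_forall]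
  intro g hg
  exact (isSc_iff_one h2 g).1 ((isSc_iff_center g).2 hg)

end Char2

end Cfsg.Agent.Lib.Helper45.Sl2Even
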