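import Mathlib
import Cfsg.Agent.Lib.Helper45.Sl2Even1

set_option autoImplicit false

/-!
`SL₂(F)` in characteristic 2, continued: simplicity, `Nrm t ≠ ⊤`, the centralizer of a nonsplit
element has order `q + 1`.
-/

namespace Cfsg.Agent.Lib.Helper45.Sl2Even

open Matrix Cfsg.Agent.S0809 Cfsg.Agent.Lib.Helper19.Dk

section Fin

variable {F : Type*} [Field F] [Fintype F]

/-- `SL₂ ≃ PSL₂` in characteristic 2 -/
noncomputable def eqvP (h2 : (2 : F) = 0) : S2 F ≃* P2 F :=
  MulEquiv.ofBijective (prj F) ⟨prj_injective h2, prj_surj⟩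

omit [Fintype F] in
theorem eqvP_apply (h2 : (2 : F) = 0) (g : S2 F) : eqvP h2 g = prj F g := rfl

theorem simple_S2 (h2 : (2 : F) = 0) (h4 : 4 ≤ Fintype.card F) : IsSimpleGroup (S2 F) :=
  haveI := simple_P2 h4
  (eqvP h2).isSimpleGroup

omit [Fintype F] in
theorem not_comm_S2 : uu (1 : F) * ll 1 ≠ ll 1 * uu 1 := by
  intro h
  have h1 := congrArg (fun g : S2 F => g 0 0) h
  simp only [mul00, uu_00, uu_01, uu_10, ll_00, ll_01, ll_10] at h1
  have : (1 : F) = 0 := by linear_combination h1
  exact one_ne_zero this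

theorem Nrm_ne_top (h2 : (2 : F) = 0) (h4 : 4 ≤ Fintype.card F) (t : S2 F) (ht : t ≠ 1) :
    Nrm t ≠ ⊤ := by
  intro h
  have := simple_S2 h2 h4
  have hn := zpowers_normal_of_Nrm_top t h
  rcases hn.eq_bot_or_eq_top with h1 | h1
  · exact ht (Subgroup.zpowers_eq_bot.1 h1)
  · have hc : ∀ a b : S2 F, a * b = b * a := by
      intro a b
      have ha : a ∈ Subgroup.zpowers t := by rw [h1]; trivial
      have hb : b ∈ Subgroup.zpowers t := by rw [h1]; trivial
      obtain ⟨i, rfl⟩ := Subgroup.mem_zpowers_iff.1 ha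
      obtain ⟨j, rfl⟩ := Subgroup.mem_zpowers_iff.1 hb
      rw [← _root_.zpow_add, ← _root_.zpow_add, add_comm]
    exact not_comm_S2 (hc _ _)

/-- the anisotropic conic has `q + 1` points -/
theorem card_conic_aniso (h2 : (2 : F) = 0) (τ : F) (hτ : ∀ e : F, e ^ 2 + τ * e + 1 ≠ 0) :
    Nat.card {p : F × F // p.1 ^ 2 + p.1 * p.2 * τ + p.2 ^ 2 = 1} = Fintype.card F + 1 := by
  classical
  have : CharP F 2 := CharTwo.of_one_ne_zero_of_two_eq_zero one_ne_zero h2
  have hrc : ringChar F = 2 := ringChar.eq F 2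
  have haniso : ∀ v : F × F, v ≠ 0 → v.1 ^ 2 + v.1 * v.2 * τ + v.2 ^ 2 ≠ 0 := by
    intro v hv hN
    by_cases hb : v.2 = 0
    · rw [hb] at hN
      have h1 : v.1 ^ 2 = 0 := by linear_combination hN
      have h1' : v.1 = 0 := pow_eq_zero_iff (two_ne_zero) |>.1 h1
      exact hv (Prod.ext h1' hb)
    · apply hτ (v.1 / v.2)
      field_simp
      linear_combination hN
  let f : Fˣ × {p : F × F // p.1 ^ 2 + p.1 * p.2 * τ + p.2 ^ 2 = 1} → {v : F × F // v ≠ 0} :=
    fun sp => ⟨((sp.1 : F) * sp.2.1.1, (sp.1 : F) * sp.2.1.2), by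
      intro h0
      have h1 := congrArg Prod.fst h0
      have h2' := congrArg Prod.snd h0
      simp only [Prod.fst_zero, Prod.snd_zero, mul_eq_zero, Units.ne_zero, false_or] at h1 h2'
      have := sp.2.2
      rw [h1, h2'] at this
      simp at this⟩
  have hf : Function.Bijective f := by
    constructor
    · rintro ⟨s, ⟨p, hp⟩⟩ ⟨s', ⟨p', hp'⟩⟩ h
      have h1 : (s : F) * p.1 = s' * p'.1 := congrArg (fun v : {v : F × F // v ≠ 0} => v.1.1) h
      have h2' : (s : F) * p.2 = s' * p'.2 := congrArg (fun v : {v : F × F // v ≠ 0} => v.1.2) h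
      have hs : ((s : F) + s') ^ 2 = 0 := by
        have e1 : ((s : F) * p.1) ^ 2 + ((s : F) * p.1) * ((s : F) * p.2) * τ + ((s : F) * p.2) ^ 2
            = (s : F) ^ 2 := by linear_combination (s : F) ^ 2 * hp
        have e2 : ((s' : F) * p'.1) ^ 2 + ((s' : F) * p'.1) * ((s' : F) * p'.2) * τ
            + ((s' : F) * p'.2) ^ 2 = (s' : F) ^ 2 := by linear_combination (s' : F) ^ 2 * hp'
        rw [h1, h2', e2] at e1
        linear_combination (-1 : F) * e1 + ((s : F) * s' + (s' : F) ^ 2) * h2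
      have hs' : (s : F) = s' := by
        have h3 : (s : F) + s' = 0 := pow_eq_zero_iff (two_ne_zero) |>.1 hs
        linear_combination h3 - (s' : F) * h2
      have hss : s = s' := Units.ext hs'
      subst hss
      have hp1 : p.1 = p'.1 := mul_left_cancel₀ s.ne_zero h1
      have hp2 : p.2 = p'.2 := mul_left_cancel₀ s.ne_zero h2'
      have : p = p' := Prod.ext hp1 hp2
      subst this
      rfl
    · rintro ⟨v, hv⟩
      have hN := haniso v hv
      obtain ⟨s, hs⟩ := FiniteField.isSquare_of_char_two hrc (v.1 ^ 2 + v.1 * v.2 * τ + v.2 ^ 2)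
      have hs0 : s ≠ 0 := by
        rintro rfl
        rw [mul_zero] at hs
        exact hN hs
      refine ⟨(Units.mk0 s hs0, ⟨(v.1 / s, v.2 / s), ?_⟩), ?_⟩
      · show (v.1 / s) ^ 2 + (v.1 / s) * (v.2 / s) * τ + (v.2 / s) ^ 2 = 1
        field_simp
        linear_combination hs
      · apply Subtype.ext
        show ((s * (v.1 / s), s * (v.2 / s)) : F × F) = v
        apply Prod.ext
        · show s * (v.1 / s) = v.1
          field_simp
        · show s * (v.2 / s) = v.2
          field_simp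
  have hcard := Nat.card_congr (Equiv.ofBijective f hf)
  rw [Nat.card_prod] at hcard
  have hu : Nat.card Fˣ = Fintype.card F - 1 := by
    rw [Nat.card_eq_fintype_card, Fintype.card_units]
  have hv : Nat.card {v : F × F // v ≠ 0} = Fintype.card F * Fintype.card F - 1 := by
    rw [Nat.card_eq_fintype_card, Fintype.card_subtype_compl, Fintype.card_prod,
      Fintype.card_subtype_eq]
  rw [hu, hv] at hcard
  have hq : 2 ≤ Fintype.card F := Fintype.one_lt_card
  obtain ⟨m, hm⟩ : ∃ m, Fintype.card F = m + 2 := ⟨Fintype.card F - 2, by omega⟩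
  rw [hm] at hcard ⊢
  have e1 : m + 2 - 1 = m + 1 := by omega
  have e2 : (m + 2) * (m + 2) - 1 = (m + 1) * (m + 3) := by
    have : (m + 2) * (m + 2) = (m + 1) * (m + 3) + 1 := by ring
    omega
  rw [e1, e2] at hcard
  have := Nat.eq_of_mul_eq_mul_left (by omega : 0 < m + 1) hcard
  omega

/-- the centralizer of a nonsplit element has order `q + 1` -/
theorem card_cent_nonsplit (h2 : (2 : F) = 0) (x : S2 F)
    (hx : ∀ e : F, e ^ 2 + tr x * e + 1 ≠ 0) :
    Nat.card (Subgroup.centralizer ({x} : Set (S2 F))) = Fintype.card F + 1 := by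
  have hns : ∀ c : F, (x : Matrix (Fin 2) (Fin 2) F) ≠ c • 1 := by
    intro c hc
    apply hx 1
    have h00 : x 0 0 = c := by
      have := congrFun (congrFun hc 0) 0
      simpa using this
    have h11 : x 1 1 = c := by
      have := congrFun (congrFun hc 1) 1
      simpa using this
    unfold tr
    rw [h00, h11]
    linear_combination (c + 1) * h2
  rw [Cfsg.Agent.Lib.Helper54.card_centralizer_eq_conic x hns]
  have ht : (x : Matrix (Fin 2) (Fin 2) F).trace = tr x := by
    rw [Matrix.trace_fin_two]; rfl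
  rw [ht]
  exact card_conic_aniso h2 (tr x) hx

end Fin

end Cfsg.Agent.Lib.Helper45.Sl2Even
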