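import Mathlib
import Cfsg.Agent.Lib.Helper45.SwapMatching2
set_option autoImplicit false
set_option linter.style.haveILetI false
set_option linter.unusedSectionVars false

namespace Cfsg.Agent.Lib.Helper45
open Equiv
open scoped Pointwise

theorem mem_normalizer_of_conj_mem {G : Type*} [Group G] (H : Subgroup G) [Finite H] (g : G)
    (h : ∀ x ∈ H, g * x * g⁻¹ ∈ H) : g ∈ Subgroup.normalizer (H : Set G) := by
  rw [Subgroup.mem_normalizer_iff]
  intro x
  constructor
  · exact h x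
  · intro hx
    let f : H → H := fun y => ⟨g * y * g⁻¹, h y y.2⟩
    have hf : Function.Injective f := by
      intro y y' hyy'
      have := congrArg Subtype.val hyy'
      simp only [f] at this
      apply Subtype.ext
      have h2 : (y : G) = g⁻¹ * (g * y * g⁻¹) * g := by group
      rw [h2, this]
      group
    obtain ⟨y, hy⟩ := (Finite.injective_iff_surjective.mp hf) ⟨g * x * g⁻¹, hx⟩
    have := congrArg Subtype.val hy
    simp only [f] at this
    have h2 : x = g⁻¹ * (g * x * g⁻¹) * g := by group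
    rw [h2, ← this]
    have h3 : g⁻¹ * (g * (y : G) * g⁻¹) * g = y := by group
    rw [h3]
    exact y.2

/-- Sylow 2-subgroups of symmetric groups: odd-order normalizing elements are trivial -/
theorem sym_odd_normalizer_trivial : ∀ (n : ℕ) (X : Type) [Fintype X] [DecidableEq X],
    Fintype.card X = n → ∀ (T : Sylow 2 (Perm X)) (g : Perm X), Odd (orderOf g) →
      g ∈ Subgroup.normalizer ((T : Subgroup (Perm X)) : Set (Perm X)) → g = 1 := by
  intro n
  induction n using Nat.strong_induction_on with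
  | _ n ih =>
  intro X _ _ hn T g hodd hg
  classical
  obtain ⟨e, hM⟩ := swaps_structure n hn T
  have hgM : g ∈ Subgroup.normalizer (swapsIn (T : Subgroup (Perm X))) :=
    le_normalizer_swapsIn _ hg
  obtain ⟨Q, hQ⟩ := image_sylow T
  by_cases hn0 : n = 0
  · rw [hn0] at hn
    haveI : IsEmpty X := Fintype.card_eq_zero_iff.mp hn
    exact Subsingleton.elim _ _
  haveI : Finite ↥(swapsIn (T : Subgroup (Perm X))) := Finite.of_injective _ Subtype.val_injective
  letI : Fintype ↥(swapsIn (T : Subgroup (Perm X))) := Fintype.ofFinite _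
  have hcard : Fintype.card ↥(swapsIn (T : Subgroup (Perm X))) = n / 2 := by
    rw [← Nat.card_eq_fintype_card, card_swapsIn hM]
  have hlt : n / 2 < n := by omega
  have key := ih (n / 2) hlt ↥(swapsIn (T : Subgroup (Perm X))) hcard Q
    (conjAct (swapsIn (T : Subgroup (Perm X))) ⟨g, hgM⟩)
    (by
      apply Odd.of_dvd_nat hodd
      have := orderOf_map_dvd (conjAct (swapsIn (T : Subgroup (Perm X)))) ⟨g, hgM⟩
      rwa [Subgroup.orderOf_mk] at this)
    (by
      apply mem_normalizer_of_conj_mem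
      intro q hq
      rw [hQ] at hq ⊢
      obtain ⟨y, hy, rfl⟩ := hq
      refine ⟨⟨g, hgM⟩ * y * ⟨g, hgM⟩⁻¹, ?_, by simp only [map_mul, map_inv]⟩
      rw [SetLike.mem_coe, Subgroup.mem_subgroupOf] at hy ⊢
      exact (Subgroup.mem_normalizer_iff.mp hg y).mp hy)
  apply odd_central_trivial hM g hodd
  intro τ hτ
  have := congrArg (fun f : Perm ↥(swapsIn (T : Subgroup (Perm X))) =>
    ((f ⟨τ, hτ⟩ : ↥(swapsIn (T : Subgroup (Perm X)))) : Perm X)) key
  exact this

section
variable {X : Type} [Fintype X] [DecidableEq X]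

theorem swap_eq_of_moved {τ : Perm X} (hτ : τ.IsSwap) {x : X} (hx : τ x ≠ x) :
    τ = swap x (τ x) := by
  obtain ⟨a, b, hab, rfl⟩ := hτ
  have hxa : x = a ∨ x = b := by
    by_contra h
    push Not at h
    exact hx (swap_apply_of_ne_of_ne h.1 h.2)
  rcases hxa with rfl | rfl
  · rw [swap_apply_left]
  · rw [swap_apply_right, swap_comm]

/-- uniqueness of the matching: for n ≥ 6 the swaps of a Sylow 2-subgroup are determined by its
even part -/
theorem swaps_subset (hn : 6 ≤ Fintype.card X) (T T₂ : Sylow 2 (Perm X))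
    (h : ∀ t ∈ (T₂ : Subgroup (Perm X)), Perm.sign t = 1 → t ∈ (T : Subgroup (Perm X))) :
    swapsIn (T₂ : Subgroup (Perm X)) ⊆ swapsIn (T : Subgroup (Perm X)) := by
  obtain ⟨e, hM⟩ := swaps_structure (Fintype.card X) rfl T
  obtain ⟨e₂, hM₂⟩ := swaps_structure (Fintype.card X) rfl T₂
  intro τ hτ
  refine ⟨?_, hτ.2⟩
  by_contra hτT
  obtain ⟨i₀, hi₀⟩ := (hM₂ τ).mp hτ
  obtain ⟨a, b, hab, hτab⟩ := hτ.2
  have hτa : τ a = b := by rw [hτab, swap_apply_left]
  have hτa' : τ a ≠ a := by rw [hτa]; exact hab.symm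
  -- two other indices
  have h3 : 3 ≤ Fintype.card X / 2 := by omega
  obtain ⟨j₁, j₂, hj₁, hj₂, hj₁₂⟩ : ∃ j₁ j₂ : Fin (Fintype.card X / 2),
      j₁ ≠ i₀ ∧ j₂ ≠ i₀ ∧ j₁ ≠ j₂ := by
    by_cases h0 : (i₀ : ℕ) = 0
    · refine ⟨⟨1, by omega⟩, ⟨2, by omega⟩, ?_, ?_, ?_⟩ <;>
      · intro h'
        have := congrArg Fin.val h'
        simp at this <;> omega
    · by_cases h1 : (i₀ : ℕ) = 1
      · refine ⟨⟨0, by omega⟩, ⟨2, by omega⟩, ?_, ?_, ?_⟩ <;>
        · intro h'
          have := congrArg Fin.val h'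
          simp at this <;> omega
      · refine ⟨⟨0, by omega⟩, ⟨1, by omega⟩, ?_, ?_, ?_⟩ <;>
        · intro h'
          have := congrArg Fin.val h'
          simp at this <;> omega
  -- other swaps of T₂ fix a
  have hfixa : ∀ j : Fin (Fintype.card X / 2), j ≠ i₀ → sw e₂ j a = a := by
    intro j hj
    by_contra hne
    have h1 : sw e₂ j ∈ swapsIn (T₂ : Subgroup (Perm X)) := (hM₂ _).mpr ⟨j, rfl⟩
    have h2 := swap_eq_of_common T₂.isPGroup' h1.1 hτ.1 h1.2 hτ.2 hne hτa'
    rw [hi₀] at h2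
    exact hj (sw_injective e₂ h2)
  -- products with τ are in T
  have hσT : ∀ j : Fin (Fintype.card X / 2), τ * sw e₂ j ∈ (T : Subgroup (Perm X)) := by
    intro j
    have h1 : sw e₂ j ∈ swapsIn (T₂ : Subgroup (Perm X)) := (hM₂ _).mpr ⟨j, rfl⟩
    apply h _ ((T₂ : Subgroup (Perm X)).mul_mem hτ.1 h1.1)
    rw [Perm.sign_mul, hτ.2.sign_eq, h1.2.sign_eq]
    rfl
  -- a is covered by the swaps of T
  have hcov : ∃ μ ∈ swapsIn (T : Subgroup (Perm X)), μ a ≠ a := by
    by_contra hcon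
    push Not at hcon
    have h1 : (τ * sw e₂ j₁) a = a := by
      apply uncovered_unique hM _ _ _ hcon
      intro μ hμ
      have h2 : (τ * sw e₂ j₁)⁻¹ * μ * (τ * sw e₂ j₁)⁻¹⁻¹ ∈ swapsIn (T : Subgroup (Perm X)) :=
        ⟨(T : Subgroup (Perm X)).mul_mem ((T : Subgroup (Perm X)).mul_mem
          ((T : Subgroup (Perm X)).inv_mem (hσT j₁)) hμ.1)
          ((T : Subgroup (Perm X)).inv_mem ((T : Subgroup (Perm X)).inv_mem (hσT j₁))),
          isSwap_conj _ hμ.2⟩
      have h3 := hcon _ h2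
      rw [inv_inv] at h3
      simp only [Perm.mul_apply] at h3
      have h4 := congrArg (τ * sw e₂ j₁) h3
      simpa using h4
    rw [Perm.mul_apply, hfixa j₁ hj₁, hτa] at h1
    exact hab h1.symm
  obtain ⟨μ, hμ, hμa⟩ := hcov
  have hμeq := swap_eq_of_moved hμ.2 hμa
  have ha'b : μ a ≠ b := by
    intro h'
    rw [h'] at hμeq
    apply hτT
    rw [hτab, ← hμeq]
    exact hμ.1
  -- choose j fixing a' = μ a
  obtain ⟨j, hj, hja'⟩ : ∃ j : Fin (Fintype.card X / 2), j ≠ i₀ ∧ sw e₂ j (μ a) = μ a := by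
    by_cases h1 : sw e₂ j₁ (μ a) = μ a
    · exact ⟨j₁, hj₁, h1⟩
    · refine ⟨j₂, hj₂, ?_⟩
      by_contra h2
      have m1 : sw e₂ j₁ ∈ swapsIn (T₂ : Subgroup (Perm X)) := (hM₂ _).mpr ⟨j₁, rfl⟩
      have m2 : sw e₂ j₂ ∈ swapsIn (T₂ : Subgroup (Perm X)) := (hM₂ _).mpr ⟨j₂, rfl⟩
      exact hj₁₂ (sw_injective e₂ (swap_eq_of_common T₂.isPGroup' m1.1 m2.1 m1.2 m2.2 h1 h2))
  have hσa : (τ * sw e₂ j) a = b := by
    rw [Perm.mul_apply, hfixa j hj, hτa]
  have hσa' : (τ * sw e₂ j) (μ a) = μ a := by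
    rw [Perm.mul_apply, hja', hτab]
    exact swap_apply_of_ne_of_ne hμa ha'b
  have hconj : (τ * sw e₂ j) * μ * (τ * sw e₂ j)⁻¹ = swap b (μ a) := by
    rw [hμeq, conj_swap, hσa]
    congr 1
    rw [← hμeq]
    exact hσa'
  have hmem : swap b (μ a) ∈ (T : Subgroup (Perm X)) := by
    rw [← hconj]
    exact (T : Subgroup (Perm X)).mul_mem ((T : Subgroup (Perm X)).mul_mem (hσT j) hμ.1)
      ((T : Subgroup (Perm X)).inv_mem (hσT j))
  have hμa2 : μ (μ a) ≠ μ a := by
    rw [swap_invol hμ.2]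
    exact fun h' => hμa h'.symm
  have hfin := swap_eq_of_common T.isPGroup' hmem hμ.1 ⟨b, μ a, fun h' => ha'b h'.symm, rfl⟩ hμ.2
    (x := μ a) (by rw [swap_apply_right]; exact fun h' => ha'b h'.symm) hμa2
  have := congrArg (fun f : Perm X => f (μ a)) hfin
  simp only [swap_apply_right] at this
  rw [swap_invol hμ.2] at this
  exact hab this.symm

end

end Cfsg.Agent.Lib.Helper45
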