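import Cfsg.Agent.Lib.Helper8.Sz25

set_option autoImplicit false

namespace Cfsg.Agent.Lib.Helper45.SzSol

open Cfsg Matrix
open Cfsg.Agent.Lib.Helper8.Sz

variable {F : Type*} [Field F] [Fintype F] {m : ℕ}

/-- tori: cyclic subgroups of one of the three torus orders -/
def IsTor (F : Type*) [Field F] (m : ℕ) (U : Subgroup (Sz F m)) : Prop :=
  IsCyclic U ∧ (Nat.card U = 2 ^ (2 * m + 1) - 1 ∨
    Nat.card U = 2 ^ (2 * m + 1) + 2 ^ (m + 1) + 1 ∨
    Nat.card U = 2 ^ (2 * m + 1) - 2 ^ (m + 1) + 1)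

omit [Fintype F] in
theorem TH_pow_four {g : Sz F m} (hg : g ∈ TH F m) : g ^ 4 ≠ 1 := fun h =>
  hg.1 (eq_one_of_pow_coprime (coprime_four_sub_one (m := m)) h hg.2)

omit [Fintype F] in
theorem TX_pow_four {g : Sz F m} (hg : g ∈ TX F m) : g ^ 4 ≠ 1 := fun h =>
  hg.1 (eq_one_of_pow_coprime (coprime_four_sq_add_one (m := m)) h hg.2)

omit [Fintype F] in
theorem TH_not_TX {g : Sz F m} (hg : g ∈ TH F m) : g ∉ TX F m := fun h =>
  hg.1 (eq_one_of_pow_coprime (coprime_sub_one_sq_add_one (m := m)) hg.2 h.2)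

/-- arithmetic: sizes of the torus orders -/
theorem tor_sizes (hm : 1 ≤ m) :
    8 ≤ 2 ^ (2 * m + 1) ∧ 4 ≤ 2 ^ (m + 1) ∧ 2 ^ (m + 1) + 2 < 2 ^ (2 * m + 1) :=
  ⟨q_ge hm, four_le_pow hm, pow_add_two_lt hm⟩

/-- arithmetic: a torus order dividing a torus order is equal to it -/
theorem tor_card_eq {a b : ℕ} (hm : 1 ≤ m)
    (ha : a = 2 ^ (2 * m + 1) - 1 ∨ a = 2 ^ (2 * m + 1) + 2 ^ (m + 1) + 1 ∨
      a = 2 ^ (2 * m + 1) - 2 ^ (m + 1) + 1)
    (hb : b = 2 ^ (2 * m + 1) - 1 ∨ b = 2 ^ (2 * m + 1) + 2 ^ (m + 1) + 1 ∨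
      b = 2 ^ (2 * m + 1) - 2 ^ (m + 1) + 1) (hdvd : a ∣ b) : a = b := by
  obtain ⟨h8, h4, hlt⟩ := tor_sizes hm
  have c1 := coprime_sub_one_sq_add_one (m := m)
  have c2 := tori_coprime m
  have d1 := tori_dvd₁ m
  have d2 := tori_dvd₂ m
  have key : ∀ x y : ℕ, Nat.Coprime x y → a ∣ x → b ∣ y → 1 < a → False := by
    intro x y hxy hax hby h1
    have : Nat.Coprime a y := Nat.Coprime.coprime_dvd_left hax hxy
    have h2 : a = 1 := Nat.Coprime.eq_one_of_dvd this (hdvd.trans hby)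
    omega
  rcases ha with ha | ha | ha <;> rcases hb with hb | hb | hb
  · rw [ha, hb]
  · exact (key _ _ c1 (ha ▸ dvd_rfl) (hb ▸ d1) (by omega)).elim
  · exact (key _ _ c1 (ha ▸ dvd_rfl) (hb ▸ d2) (by omega)).elim
  · exact (key _ _ c1.symm (ha ▸ d1) (hb ▸ dvd_rfl) (by omega)).elim
  · rw [ha, hb]
  · exact (key _ _ c2 (ha ▸ dvd_rfl) (hb ▸ dvd_rfl) (by omega)).elim
  · exact (key _ _ c1.symm (ha ▸ d2) (hb ▸ dvd_rfl) (by omega)).elim
  · exact (key _ _ c2.symm (ha ▸ dvd_rfl) (hb ▸ dvd_rfl) (by omega)).elim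
  · rw [ha, hb]

omit [Fintype F] in
theorem IsTor.coprime_four {U : Subgroup (Sz F m)} (hU : IsTor F m U) :
    Nat.Coprime 4 (Nat.card U) := by
  rcases hU.2 with h | h | h
  · rw [h]; exact coprime_four_sub_one
  · rw [h]; exact Nat.Coprime.coprime_dvd_right (tori_dvd₁ m) coprime_four_sq_add_one
  · rw [h]; exact Nat.Coprime.coprime_dvd_right (tori_dvd₂ m) coprime_four_sq_add_one

omit [Fintype F] in
theorem IsTor.eq_one_of_pow_four {U : Subgroup (Sz F m)} (hU : IsTor F m U) {u : Sz F m}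
    (hu : u ∈ U) (h4 : u ^ 4 = 1) : u = 1 :=
  eq_one_of_pow_coprime hU.coprime_four h4 (pow_card_eq_one_of_mem U hu)

omit [Fintype F] in
theorem IsTor.exists_ne_one (hm : 1 ≤ m) {U : Subgroup (Sz F m)} (hU : IsTor F m U) :
    ∃ u ∈ U, u ≠ 1 := by
  by_contra hcon
  push Not at hcon
  have hbot : U = ⊥ := (Subgroup.eq_bot_iff_forall U).2 hcon
  have h1 : Nat.card U = 1 := by rw [hbot]; exact Subgroup.card_bot
  obtain ⟨h8, h4, hlt⟩ := tor_sizes hm
  rcases hU.2 with h | h | h <;> omega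

theorem pow_four_eq {G : Type*} [Monoid G] (t : G) : t ^ 4 = (t * t) * (t * t) := by
  rw [show (4 : ℕ) = 2 + 2 from rfl, pow_add, pow_two]

theorem isCyclic_map_conj {G : Type*} [Group G] (U : Subgroup G) (hU : IsCyclic U) (c : G) :
    IsCyclic (U.map (MulAut.conj c).toMonoidHom) := by
  have := hU
  exact isCyclic_of_surjective (U.equivMapOfInjective _ (MulAut.conj c).injective).toMonoidHom
    (U.equivMapOfInjective _ (MulAut.conj c).injective).surjective

variable (hF : Fintype.card F = 2 ^ (2 * m + 1))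

include hF

theorem ss_cases (hm : 1 ≤ m) {g : Sz F m} (hg : g ^ 4 ≠ 1) : g ∈ TH F m ∨ g ∈ TX F m := by
  have h1 : g ≠ 1 := by rintro rfl; exact hg (one_pow 4)
  rcases pow_trichotomy hF hm g with h | h | h
  · exact absurd h hg
  · exact Or.inl ⟨h1, h⟩
  · exact Or.inr ⟨h1, h⟩

theorem TH_conj (hm : 1 ≤ m) {g : Sz F m} (hg : g ∈ TH F m) :
    ∃ (c : Sz F m) (s : Fˣ), s ≠ 1 ∧ g = c * HS hF s * c⁻¹ := by
  rw [TH_eq hF hm] at hg
  obtain ⟨c, a, ha, ha1, rfl⟩ := hg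
  obtain ⟨s, rfl⟩ := (mem_HSub_iff hF a).1 ha
  refine ⟨c, s, ?_, rfl⟩
  rintro rfl
  exact ha1 (HS_one hF)

theorem centralizer_HS (hm : 1 ≤ m) {s : Fˣ} (hs : s ≠ 1) :
    Subgroup.centralizer ({HS hF s} : Set (Sz F m)) = HSub hF := by
  ext c
  rw [Subgroup.mem_centralizer_iff, mem_HSub_iff]
  constructor
  · intro h
    exact centralizer_torus hF hm hs c (h _ rfl).symm
  · rintro ⟨t, rfl⟩ h (rfl : h = _)
    rw [← HS_mul, ← HS_mul, mul_comm]

theorem centralizer_TH (hm : 1 ≤ m) {g : Sz F m} (hg : g ∈ TH F m) :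
    ∃ c : Sz F m, Subgroup.centralizer ({g} : Set (Sz F m)) =
      (HSub hF).map (MulAut.conj c).toMonoidHom := by
  obtain ⟨c, s, hs, rfl⟩ := TH_conj hF hm hg
  exact ⟨c, by rw [centralizer_conj, centralizer_HS hF hm hs]⟩

theorem isCyclic_HSub : IsCyclic (HSub hF) := by
  have : IsCyclic Fˣ := inferInstance
  exact isCyclic_of_surjective (torusHom hF).rangeRestrict (torusHom hF).rangeRestrict_surjective

theorem isTor_of_TH (hm : 1 ≤ m) {g : Sz F m} (hg : g ∈ TH F m) :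
    IsTor F m (Subgroup.centralizer ({g} : Set (Sz F m))) ∧
      Nat.card (Subgroup.centralizer ({g} : Set (Sz F m))) = 2 ^ (2 * m + 1) - 1 := by
  obtain ⟨c, hc⟩ := centralizer_TH hF hm hg
  have hcard : Nat.card (Subgroup.centralizer ({g} : Set (Sz F m))) = 2 ^ (2 * m + 1) - 1 := by
    rw [hc, Subgroup.card_map_of_injective (MulAut.conj c).injective, card_HSub]
  refine ⟨⟨?_, Or.inl hcard⟩, hcard⟩
  rw [hc]
  exact isCyclic_map_conj _ (isCyclic_HSub hF) c

theorem isTor_of_TX (hm : 1 ≤ m) {g : Sz F m} (hg : g ∈ TX F m) :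
    IsTor F m (Subgroup.centralizer ({g} : Set (Sz F m))) :=
  ⟨TX_cyclic hF hg, Or.inr (card_centralizer_TX hF hm hg)⟩

theorem isTor_centralizer (hm : 1 ≤ m) {g : Sz F m} (hg : g ^ 4 ≠ 1) :
    IsTor F m (Subgroup.centralizer ({g} : Set (Sz F m))) := by
  rcases ss_cases hF hm hg with h | h
  · exact (isTor_of_TH hF hm h).1
  · exact isTor_of_TX hF hm h

theorem centralizer_eq_of_mem (hm : 1 ≤ m) {g u : Sz F m} (hg : g ^ 4 ≠ 1)
    (hu : u ∈ Subgroup.centralizer ({g} : Set (Sz F m))) (hu1 : u ≠ 1) :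
    Subgroup.centralizer ({u} : Set (Sz F m)) = Subgroup.centralizer ({g} : Set (Sz F m)) := by
  rcases ss_cases hF hm hg with h | h
  · obtain ⟨c, s, hs, rfl⟩ := TH_conj hF hm h
    rw [centralizer_conj, centralizer_HS hF hm hs] at hu ⊢
    obtain ⟨a, ha, rfl⟩ := hu
    obtain ⟨t, rfl⟩ := (mem_HSub_iff hF a).1 ha
    have ht : t ≠ 1 := by
      rintro rfl
      apply hu1
      rw [HS_one hF, map_one]
    have h2 : (MulAut.conj c).toMonoidHom (HS hF t) = c * HS hF t * c⁻¹ := rfl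
    rw [h2, centralizer_conj, centralizer_HS hF hm ht]
  · exact TX_centralizer_eq hF hm h hu1 ((Subgroup.mem_centralizer_iff.1 hu g rfl).symm)

theorem IsTor.eq_centralizer (hm : 1 ≤ m) {U : Subgroup (Sz F m)} (hU : IsTor F m U) {u : Sz F m}
    (hu : u ∈ U) (hu1 : u ≠ 1) :
    u ^ 4 ≠ 1 ∧ U = Subgroup.centralizer ({u} : Set (Sz F m)) := by
  have h4 : u ^ 4 ≠ 1 := fun h => hu1 (hU.eq_one_of_pow_four hu h)
  refine ⟨h4, ?_⟩
  have hle : U ≤ Subgroup.centralizer ({u} : Set (Sz F m)) := by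
    intro x hx
    rw [Subgroup.mem_centralizer_iff]
    rintro y (rfl : y = u)
    exact commute_of_mem_cyclic U hU.1 hu hx
  have hT := isTor_centralizer hF hm h4
  apply Subgroup.eq_of_le_of_card_ge hle
  have hdvd : Nat.card U ∣ Nat.card (Subgroup.centralizer ({u} : Set (Sz F m))) :=
    Subgroup.card_dvd_of_le hle
  exact (tor_card_eq hm hU.2 hT.2 hdvd).ge

theorem normalizer_HSub (hm : 1 ≤ m) :
    Subgroup.normalizer (HSub hF : Set (Sz F m)) = NSub hF := by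
  obtain ⟨s, hs⟩ := exists_ne_one hF hm
  ext n
  constructor
  · intro hn
    have h1 : n * HS hF s * n⁻¹ ∈ HSub hF :=
      (Subgroup.mem_normalizer_iff.1 hn (HS hF s)).1 ((mem_HSub_iff hF _).2 ⟨s, rfl⟩)
    obtain ⟨s', hs'⟩ := (mem_HSub_iff hF _).1 h1
    exact mem_NSub_of_conj hF hm hs n hs'
  · intro hn
    rw [Subgroup.mem_normalizer_iff]
    intro h
    constructor
    · intro hh; exact NSub_normalizes hF hn hh
    · intro hh
      have h3 := NSub_normalizes hF ((NSub hF).inv_mem hn) hh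
      have h4 : n⁻¹ * (n * h * n⁻¹) * n⁻¹⁻¹ = h := by group
      rwa [h4] at h3

/-- the normaliser of a torus has index `2` or `4` -/
theorem IsTor.card_normalizer (hm : 1 ≤ m) {U : Subgroup (Sz F m)} (hU : IsTor F m U) :
    (Nat.card U = 2 ^ (2 * m + 1) - 1 ∧
      Nat.card (Subgroup.normalizer (U : Set (Sz F m))) = 2 * Nat.card U) ∨
    (Nat.card U ≠ 2 ^ (2 * m + 1) - 1 ∧
      Nat.card (Subgroup.normalizer (U : Set (Sz F m))) = 4 * Nat.card U) := by
  obtain ⟨u, hu, hu1⟩ := hU.exists_ne_one hm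
  obtain ⟨h4, hUC⟩ := hU.eq_centralizer hF hm hu hu1
  rcases ss_cases hF hm h4 with h | h
  · left
    obtain ⟨c, hc⟩ := centralizer_TH hF hm h
    have hcard := (isTor_of_TH hF hm h).2
    refine ⟨by rw [hUC]; exact hcard, ?_⟩
    rw [hUC, hc, ← Subgroup.map_equiv_normalizer_eq,
      Subgroup.card_map_of_injective (MulAut.conj c).injective,
      Subgroup.card_map_of_injective (MulAut.conj c).injective, normalizer_HSub hF hm,
      card_NSub, card_HSub]
  · right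
    refine ⟨?_, by rw [hUC]; exact TX_normalizer_card_eq hF hm h⟩
    obtain ⟨h8, h4', hlt⟩ := tor_sizes hm
    rw [hUC]
    rcases card_centralizer_TX hF hm h with hc | hc <;> omega

/-- powers of an element of the normaliser of a torus -/
theorem IsTor.pow_mem (hm : 1 ≤ m) {U : Subgroup (Sz F m)} (hU : IsTor F m U) {g : Sz F m}
    (hg : g ∈ Subgroup.normalizer (U : Set (Sz F m))) :
    g ^ 4 ∈ U ∧ (Nat.card U = 2 ^ (2 * m + 1) - 1 → g ^ 2 ∈ U) := by
  have hle : U ≤ Subgroup.normalizer (U : Set (Sz F m)) := Subgroup.le_normalizer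
  have h1 : (⟨g, hg⟩ : Subgroup.normalizer (U : Set (Sz F m))) ^
      (U.subgroupOf (Subgroup.normalizer (U : Set (Sz F m)))).index ∈
      U.subgroupOf (Subgroup.normalizer (U : Set (Sz F m))) :=
    Subgroup.pow_index_mem _ _
  have h2 : g ^ (U.subgroupOf (Subgroup.normalizer (U : Set (Sz F m)))).index ∈ U := by
    have := Subgroup.mem_subgroupOf.1 h1
    simpa using this
  have h3 : Nat.card (U.subgroupOf (Subgroup.normalizer (U : Set (Sz F m)))) *
      (U.subgroupOf (Subgroup.normalizer (U : Set (Sz F m)))).index =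
      Nat.card (Subgroup.normalizer (U : Set (Sz F m))) := Subgroup.card_mul_index _
  have h4 : Nat.card (U.subgroupOf (Subgroup.normalizer (U : Set (Sz F m)))) = Nat.card U :=
    Nat.card_congr (Subgroup.subgroupOfEquivOfLe hle).toEquiv
  rw [h4] at h3
  obtain ⟨u, hu, hu1⟩ := hU.exists_ne_one hm
  have hpos : 0 < Nat.card U := Nat.card_pos
  rcases hU.card_normalizer hF hm with ⟨hc, hN⟩ | ⟨hc, hN⟩
  · have hi : (U.subgroupOf (Subgroup.normalizer (U : Set (Sz F m)))).index = 2 := by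
      rw [hN] at h3
      have : Nat.card U * (U.subgroupOf (Subgroup.normalizer (U : Set (Sz F m)))).index =
          Nat.card U * 2 := by rw [h3, mul_comm]
      exact Nat.eq_of_mul_eq_mul_left hpos this
    rw [hi] at h2
    refine ⟨?_, fun _ => h2⟩
    have : g ^ 4 = g ^ 2 * g ^ 2 := by rw [← pow_add]
    rw [this]
    exact U.mul_mem h2 h2
  · have hi : (U.subgroupOf (Subgroup.normalizer (U : Set (Sz F m)))).index = 4 := by
      rw [hN] at h3
      have : Nat.card U * (U.subgroupOf (Subgroup.normalizer (U : Set (Sz F m)))).index =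
          Nat.card U * 4 := by rw [h3, mul_comm]
      exact Nat.eq_of_mul_eq_mul_left hpos this
    rw [hi] at h2
    exact ⟨h2, fun h => absurd h hc⟩

theorem IsTor.mem_or_pow_four (hm : 1 ≤ m) {U : Subgroup (Sz F m)} (hU : IsTor F m U)
    {g : Sz F m} (hg : g ∈ Subgroup.normalizer (U : Set (Sz F m))) : g ∈ U ∨ g ^ 4 = 1 := by
  by_cases h4 : g ^ 4 = 1
  · exact Or.inr h4
  left
  have h4U := (hU.pow_mem hF hm hg).1
  have hcop : Nat.Coprime 4 (orderOf g) := by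
    rcases pow_trichotomy hF hm g with h | h | h
    · exact absurd h h4
    · exact Nat.Coprime.coprime_dvd_right (orderOf_dvd_of_pow_eq_one h) coprime_four_sub_one
    · exact Nat.Coprime.coprime_dvd_right (orderOf_dvd_of_pow_eq_one h) coprime_four_sq_add_one
  have h5 : g ∈ Subgroup.zpowers (g ^ 4) := mem_zpowers_pow_iff.2 hcop
  exact (Subgroup.zpowers_le.2 h4U) h5

theorem IsTor.mem_or_sq (hm : 1 ≤ m) {U : Subgroup (Sz F m)} (hU : IsTor F m U)
    (hc : Nat.card U = 2 ^ (2 * m + 1) - 1) {g : Sz F m}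
    (hg : g ∈ Subgroup.normalizer (U : Set (Sz F m))) : g ∈ U ∨ g ^ 2 = 1 := by
  rcases hU.mem_or_pow_four hF hm hg with h | h
  · exact Or.inl h
  · right
    have h2 := (hU.pow_mem hF hm hg).2 hc
    apply hU.eq_one_of_pow_four h2
    rw [← pow_mul]
    have : g ^ (2 * 4) = (g ^ 4) ^ 2 := by rw [← pow_mul]
    rw [this, h, one_pow]

/-- an involution normalising a torus inverts it -/
theorem IsTor.conj_invol (hm : 1 ≤ m) {U : Subgroup (Sz F m)} (hU : IsTor F m U) {t : Sz F m}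
    (ht : t ∈ Subgroup.normalizer (U : Set (Sz F m))) (ht2 : t * t = 1) (ht1 : t ≠ 1)
    {u : Sz F m} (hu : u ∈ U) : t * u * t⁻¹ = u⁻¹ := by
  have htinv : t⁻¹ = t := inv_eq_of_mul_eq_one_right ht2
  have hv : t * u * t⁻¹ ∈ U := (Subgroup.mem_normalizer_iff.1 ht u).1 hu
  by_contra hne
  have hv1 : u * (t * u * t⁻¹) ≠ 1 := fun h => hne (eq_inv_of_mul_eq_one_right h)
  have hvU : u * (t * u * t⁻¹) ∈ U := U.mul_mem hu hv
  obtain ⟨_, hUC⟩ := hU.eq_centralizer hF hm hvU hv1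
  have hc := commute_of_mem_cyclic U hU.1 hu hv
  rw [htinv] at hc hUC
  have htC : t ∈ Subgroup.centralizer ({u * (t * u * t)} : Set (Sz F m)) := by
    rw [Subgroup.mem_centralizer_iff]
    rintro y (rfl : y = _)
    have h1 : t * (u * (t * u * t)) * t = u * (t * u * t) := by
      calc t * (u * (t * u * t)) * t = (t * u * t) * u * (t * t) := by simp only [mul_assoc]
        _ = (t * u * t) * u := by rw [ht2, mul_one]
        _ = u * (t * u * t) := hc.symm
    calc u * (t * u * t) * t = (t * (u * (t * u * t)) * t) * t := by rw [h1]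
      _ = t * (u * (t * u * t)) * (t * t) := by simp only [mul_assoc]
      _ = t * (u * (t * u * t)) := by rw [ht2, mul_one]
  rw [← hUC] at htC
  apply ht1
  apply hU.eq_one_of_pow_four htC
  rw [pow_four_eq, ht2, mul_one]

/-- the product of two involutions normalising a torus lies in the torus -/
theorem IsTor.mul_invol_mem (hm : 1 ≤ m) {U : Subgroup (Sz F m)} (hU : IsTor F m U)
    {t₁ t₂ : Sz F m} (h₁ : t₁ ∈ Subgroup.normalizer (U : Set (Sz F m)))
    (h₂ : t₂ ∈ Subgroup.normalizer (U : Set (Sz F m))) (e₁ : t₁ * t₁ = 1) (e₂ : t₂ * t₂ = 1)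
    (n₁ : t₁ ≠ 1) (n₂ : t₂ ≠ 1) : t₁ * t₂ ∈ U := by
  obtain ⟨u, hu, hu1⟩ := hU.exists_ne_one hm
  obtain ⟨_, hUC⟩ := hU.eq_centralizer hF hm hu hu1
  have c₂ := hU.conj_invol hF hm h₂ e₂ n₂ hu
  have c₁' := hU.conj_invol hF hm h₁ e₁ n₁ (U.inv_mem hu)
  rw [inv_inv] at c₁'
  rw [hUC, Subgroup.mem_centralizer_iff]
  rintro y (rfl : y = u)
  calc y * (t₁ * t₂) = (t₁ * y⁻¹ * t₁⁻¹) * (t₁ * t₂) := by rw [c₁']
    _ = t₁ * y⁻¹ * t₂ := by group
    _ = t₁ * (t₂ * y * t₂⁻¹) * t₂ := by rw [c₂]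
    _ = t₁ * t₂ * y := by group

end Cfsg.Agent.Lib.Helper45.SzSol
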