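import Cfsg.Agent.Lib.Helper45.SzSol1
import Cfsg.Agent.S2247

set_option autoImplicit false

namespace Cfsg.Agent.Lib.Helper45.SzSol

open Cfsg Matrix
open Cfsg.Agent.Lib.Helper8.Sz

variable {F : Type*} [Field F] [Fintype F] {m : ℕ}

/-- the structural property of proper subgroups used for the solubilizer count -/
def Struct (F : Type*) [Field F] (m : ℕ) : Prop :=
  ∀ M : Subgroup (Sz F m), M ≠ ⊤ →
    (∃ c : Sz F m, ∀ g ∈ M, c⁻¹ * g * c ∈ Bsub F m) ∨
    (∃ U : Subgroup (Sz F m), IsTor F m U ∧ M ≤ Subgroup.normalizer (U : Set (Sz F m)))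

/-- the subgroup theorem, as a hypothesis -/
def Hyp251 (F : Type*) [Field F] [Fintype F] (m : ℕ) : Prop :=
  ∀ M : Subgroup ↥(Cfsg.Sz F m), M ≠ ⊤ →
    (∃ P : Sylow 2 ↥(Cfsg.Sz F m), M ≤ Subgroup.normalizer
      ((P : Subgroup ↥(Cfsg.Sz F m)) : Set ↥(Cfsg.Sz F m))) ∨
    (∃ U : Subgroup ↥(Cfsg.Sz F m), IsCyclic ↥U ∧
      Nat.card ↥U ∈ ({2 ^ (2 * m + 1) - 1, 2 ^ (2 * m + 1) + 2 ^ (m + 1) + 1,
        2 ^ (2 * m + 1) - 2 ^ (m + 1) + 1} : Set ℕ) ∧
      M ≤ Subgroup.normalizer (U : Set ↥(Cfsg.Sz F m))) ∨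
    (∃ (K : Type) (_ : Field K) (_ : Fintype K) (k : ℕ), 1 ≤ k ∧ k < m ∧
      Fintype.card K = 2 ^ (2 * k + 1) ∧ 2 * k + 1 ∣ 2 * m + 1 ∧
      ∃ S : Subgroup ↥(Cfsg.Sz F m), Nonempty (↥S ≃* ↥(Cfsg.Sz K k)) ∧ M ≤ S)

theorem mem_normalizer_centralizer_of_inv {G : Type*} [Group G] {g h : G}
    (hgh : g * h * g⁻¹ = h⁻¹) :
    g ∈ Subgroup.normalizer (Subgroup.centralizer ({h} : Set G) : Set G) := by
  have e1 : Subgroup.centralizer ({h⁻¹} : Set G) = Subgroup.centralizer ({h} : Set G) := by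
    ext c
    rw [Subgroup.mem_centralizer_iff, Subgroup.mem_centralizer_iff]
    constructor
    · rintro hc y (rfl : y = h)
      have := hc y⁻¹ rfl
      calc y * c = y * (c * y⁻¹) * y := by group
        _ = y * (y⁻¹ * c) * y := by rw [this]
        _ = c * y := by group
    · rintro hc y (rfl : y = h⁻¹)
      have := hc h rfl
      calc h⁻¹ * c = h⁻¹ * (c * h) * h⁻¹ := by group
        _ = h⁻¹ * (h * c) * h⁻¹ := by rw [this]
        _ = c * h⁻¹ := by group
  have e2 : (Subgroup.centralizer ({h} : Set G)).map (MulAut.conj g).toMonoidHom =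
      Subgroup.centralizer ({h} : Set G) := by
    rw [← centralizer_conj, hgh, e1]
  rw [Subgroup.mem_normalizer_iff]
  intro c
  constructor
  · intro hc
    rw [← e2]
    exact ⟨c, hc, rfl⟩
  · intro hc
    rw [← e2] at hc
    obtain ⟨k, hk, hkc⟩ := hc
    have : k = c := by
      have h3 : g * k * g⁻¹ = g * c * g⁻¹ := hkc
      calc k = g⁻¹ * (g * k * g⁻¹) * g := by group
        _ = g⁻¹ * (g * c * g⁻¹) * g := by rw [h3]
        _ = c := by group
    rwa [← this]

theorem conj_mem_normalizer_centralizer {G : Type*} [Group G] (c g h : G) :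
    c * g * c⁻¹ ∈ Subgroup.normalizer (Subgroup.centralizer ({c * h * c⁻¹} : Set G) : Set G) ↔
      g ∈ Subgroup.normalizer (Subgroup.centralizer ({h} : Set G) : Set G) := by
  rw [centralizer_conj, ← Subgroup.map_equiv_normalizer_eq]
  constructor
  · rintro ⟨k, hk, hkc⟩
    have h3 : c * k * c⁻¹ = c * g * c⁻¹ := hkc
    have : k = g := by
      calc k = c⁻¹ * (c * k * c⁻¹) * c := by group
        _ = c⁻¹ * (c * g * c⁻¹) * c := by rw [h3]
        _ = g := by group
    rwa [← this]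
  · intro hg
    exact ⟨g, hg, rfl⟩

variable (hF : Fintype.card F = 2 ^ (2 * m + 1))

include hF

theorem struct_of_hyp (hm : 1 ≤ m) (hp : (2 * m + 1).Prime) (h : Hyp251 F m) : Struct F m := by
  intro M hM
  rcases h M hM with ⟨P, hP⟩ | ⟨U, hU, hc, hMU⟩ | ⟨K, _, _, k, hk1, hkm, _, hdvd, _⟩
  · obtain ⟨x, hx⟩ := Cfsg.Agent.Lib.Helper45.SzU.exists_conj_mem_U hm hF P
    exact Or.inl ⟨x, fun g hg =>
      (Cfsg.Agent.S2247.mem_normalizer_iff_fix hm hF P x hx g).1 (hP hg)⟩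
  · refine Or.inr ⟨U, ⟨hU, ?_⟩, hMU⟩
    simpa using hc
  · exfalso
    rcases (Nat.dvd_prime hp).1 hdvd with h1 | h1 <;> omega

theorem not_solvable (hm : 1 ≤ m) : ¬ Group.IsSolvable (Sz F m) := by
  intro h
  have := isSimpleGroup_Sz hF hm
  have h1 := Group.IsSolvable.commutator_lt_top_of_nontrivial (Sz F m)
  rw [commutator_eq_top hF hm] at h1
  exact lt_irrefl _ h1

theorem IsTor.index_subgroupOf (hm : 1 ≤ m) {U : Subgroup (Sz F m)} (hU : IsTor F m U) :
    (U.subgroupOf (Subgroup.normalizer (U : Set (Sz F m)))).index = 2 ∨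
      (U.subgroupOf (Subgroup.normalizer (U : Set (Sz F m)))).index = 4 := by
  have hle : U ≤ Subgroup.normalizer (U : Set (Sz F m)) := Subgroup.le_normalizer
  have h3 : Nat.card (U.subgroupOf (Subgroup.normalizer (U : Set (Sz F m)))) *
      (U.subgroupOf (Subgroup.normalizer (U : Set (Sz F m)))).index =
      Nat.card (Subgroup.normalizer (U : Set (Sz F m))) := Subgroup.card_mul_index _
  have h4 : Nat.card (U.subgroupOf (Subgroup.normalizer (U : Set (Sz F m)))) = Nat.card U :=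
    Nat.card_congr (Subgroup.subgroupOfEquivOfLe hle).toEquiv
  rw [h4] at h3
  have hpos : 0 < Nat.card U := Nat.card_pos
  rcases hU.card_normalizer hF hm with ⟨hc, hN⟩ | ⟨hc, hN⟩
  · left
    rw [hN] at h3
    have : Nat.card U * (U.subgroupOf (Subgroup.normalizer (U : Set (Sz F m)))).index =
        Nat.card U * 2 := by rw [h3, mul_comm]
    exact Nat.eq_of_mul_eq_mul_left hpos this
  · right
    rw [hN] at h3
    have : Nat.card U * (U.subgroupOf (Subgroup.normalizer (U : Set (Sz F m)))).index =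
        Nat.card U * 4 := by rw [h3, mul_comm]
    exact Nat.eq_of_mul_eq_mul_left hpos this

theorem solvable_normalizer_tor (hm : 1 ≤ m) {U : Subgroup (Sz F m)} (hU : IsTor F m U) :
    Group.IsSolvable (Subgroup.normalizer (U : Set (Sz F m))) := by
  have : Group.IsSolvable (U.subgroupOf (Subgroup.normalizer (U : Set (Sz F m)))) := by
    apply Group.isSolvable_of_comm
    intro a b
    apply Subtype.ext
    apply Subtype.ext
    exact commute_of_mem_cyclic U hU.1 (Subgroup.mem_subgroupOf.1 a.2)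
      (Subgroup.mem_subgroupOf.1 b.2)
  have : Group.IsSolvable (Subgroup.normalizer (U : Set (Sz F m)) ⧸
      U.subgroupOf (Subgroup.normalizer (U : Set (Sz F m)))) := by
    have hp : IsPGroup 2 (Subgroup.normalizer (U : Set (Sz F m)) ⧸
        U.subgroupOf (Subgroup.normalizer (U : Set (Sz F m)))) := by
      rcases hU.index_subgroupOf hF hm with h | h
      · exact IsPGroup.of_card (n := 1) (by rw [← Subgroup.index_eq_card, h]; norm_num)
      · exact IsPGroup.of_card (n := 2) (by rw [← Subgroup.index_eq_card, h]; norm_num)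
    have := hp.isNilpotent
    infer_instance
  exact Group.isSolvable_of_ker_le_range
    (U.subgroupOf (Subgroup.normalizer (U : Set (Sz F m)))).subtype
    (QuotientGroup.mk' (U.subgroupOf (Subgroup.normalizer (U : Set (Sz F m)))))
    (by rw [QuotientGroup.ker_mk', Subgroup.range_subtype])

theorem solvable_of_struct (hm : 1 ≤ m) (hS : Struct F m) (M : Subgroup (Sz F m)) (hM : M ≠ ⊤) :
    Group.IsSolvable M := by
  rcases hS M hM with ⟨c, hc⟩ | ⟨U, hU, hMU⟩
  · have := solvable_Bsub hF hm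
    have hmem : ∀ g : M, ((MulAut.conj c⁻¹).toMonoidHom.comp M.subtype) g ∈ Bsub F m := by
      intro g
      have := hc g.1 g.2
      simpa using this
    have hinj : Function.Injective
        (((MulAut.conj c⁻¹).toMonoidHom.comp M.subtype).codRestrict (Bsub F m) hmem) := by
      intro a b hab
      have h1 := congrArg Subtype.val hab
      have h2 : c⁻¹ * (a : Sz F m) * c⁻¹⁻¹ = c⁻¹ * (b : Sz F m) * c⁻¹⁻¹ := h1
      apply Subtype.ext
      calc (a : Sz F m) = c * (c⁻¹ * (a : Sz F m) * c⁻¹⁻¹) * c⁻¹ := by group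
        _ = c * (c⁻¹ * (b : Sz F m) * c⁻¹⁻¹) * c⁻¹ := by rw [h2]
        _ = b := by group
    exact Group.isSolvable_of_isSolvable_injective hinj
  · have := solvable_normalizer_tor hF hm hU
    exact Group.isSolvable_of_isSolvable_injective (Subgroup.inclusion_injective hMU)

theorem mem_QS_iff' (x : Sz F m) : x ∈ QS hF ↔ ∃ a b, x = TS hF a b := Iff.rfl

theorem pow_four_of_mem_QS {g : Sz F m} (hg : g ∈ QS hF) : g ^ 4 = 1 := by
  obtain ⟨a, b, rfl⟩ := hg
  exact TS_pow_four hF a b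

theorem QS_le_Bsub : QS hF ≤ Bsub F m := by
  rintro _ ⟨a, b, rfl⟩
  exact TS_mem_Bsub hF a b

theorem two_conj (hm : 1 ≤ m) {g : Sz F m} (hg1 : g ≠ 1) (hg4 : g ^ 4 = 1) :
    ∃ (c : Sz F m) (a b : F), ¬ (a = 0 ∧ b = 0) ∧ g = c * TS hF a b * c⁻¹ := by
  have h : g ∈ T2 F m := ⟨hg1, hg4⟩
  rw [T2_eq hF hm] at h
  obtain ⟨c, a', ha', ha1, rfl⟩ := h
  obtain ⟨a, b, rfl⟩ := ha'
  exact ⟨c, a, b, (TS_ne_one_iff hF).1 ha1, rfl⟩

/-- an element commuting with a non-identity translation fixes the point at infinity -/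
theorem mem_Bsub_of_comm {g y : Sz F m} (hg : g ∈ QS hF) (hg1 : g ≠ 1) (hc : y * g = g * y) :
    y ∈ Bsub F m := by
  obtain ⟨a, b, rfl⟩ := hg
  exact mem_Bsub_of_conj hF ((TS_ne_one_iff hF).1 hg1) y (by rw [hc, mul_inv_cancel_right])

theorem pow_TH (a b : F) (s : Fˣ) (n : ℕ) :
    ∃ a' b' : F, (TS hF a b * HS hF s) ^ n = TS hF a' b' * HS hF (s ^ n) := by
  induction n with
  | zero => exact ⟨0, 0, by rw [pow_zero, pow_zero, TS_zero, HS_one, one_mul]⟩
  | succ n ih =>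
    obtain ⟨a', b', h⟩ := ih
    have h2 : (TS hF a b * HS hF s) ^ (n + 1) =
        TS hF (a' + th m ((s ^ n : Fˣ) : F) * a)
          (b' + th m ((s ^ n : Fˣ) : F) * ((s ^ n : Fˣ) : F) ^ 2 * b +
            th m a' * (th m ((s ^ n : Fˣ) : F) * a)) * HS hF (s ^ (n + 1)) := by
      rw [pow_succ (TS hF a b * HS hF s), h, TH_mul, ← pow_succ]
    exact ⟨_, _, h2⟩

/-- a `2`-element fixing the point at infinity is a translation -/
theorem mem_QS_of_mem_Bsub (hm : 1 ≤ m) {g : Sz F m} (hg : g ∈ Bsub F m) (h4 : g ^ 4 = 1) :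
    g ∈ QS hF := by
  obtain ⟨a, b, s, rfl⟩ := fix_inf_decomp' hF hm g hg
  obtain ⟨a', b', h⟩ := pow_TH hF a b s 4
  rw [h4] at h
  have h1 : Tg m a' b' * Hg m (s ^ 4) = Tg m 0 0 * Hg m 1 := by
    have h2 := congrArg Subtype.val h
    rw [Tg_zero, Hg_one, one_mul]
    exact h2.symm
  have h3 := (decomp_unique hF h1).2.2
  have h5 : ((s : F) ^ 2) ^ 2 = 1 := by
    have := congrArg (fun u : Fˣ => (u : F)) h3
    simp only [Units.val_pow_eq_pow_val, Units.val_one] at this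
    rw [← pow_mul]; exact this
  have h6 : (s : F) = 1 := sq_eq_one hF (sq_eq_one hF h5)
  have h7 : s = 1 := Units.ext h6
  rw [h7, HS_one, mul_one]
  exact ⟨a, b, rfl⟩

theorem mem_Bsub_of_conj_mem (hm : 1 ≤ m) {x c : Sz F m} (hx : x ∈ QS hF) (hx1 : x ≠ 1)
    (h : c⁻¹ * x * c ∈ Bsub F m) : c ∈ Bsub F m := by
  have h4 : (c⁻¹ * x * c) ^ 4 = 1 := by
    have : c⁻¹ * x * c = c⁻¹ * x * c⁻¹⁻¹ := by rw [inv_inv]
    rw [this, conj_pow, pow_four_of_mem_QS hF hx]
    group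
  obtain ⟨a', b', h'⟩ := mem_QS_of_mem_Bsub hF hm h h4
  obtain ⟨a, b, rfl⟩ := hx
  have h2 : c⁻¹ * TS hF a b * c⁻¹⁻¹ = TS hF a' b' := by rw [inv_inv]; exact h'
  have := mem_Bsub_of_conj hF ((TS_ne_one_iff hF).1 hx1) c⁻¹ h2
  exact (Subgroup.inv_mem_iff _).1 this

/-- the centraliser of an involution is a `2`-group -/
theorem pow_four_of_comm_invol (hm : 1 ≤ m) {t y : Sz F m} (ht : t * t = 1) (ht1 : t ≠ 1)
    (hc : y * t = t * y) : y ^ 4 = 1 := by
  have ho : orderOf t = 2 := orderOf_eq_prime (by rw [pow_two]; exact ht) ht1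
  obtain ⟨k, a, b, _, _, hall⟩ := centralizer_two hF hm t ho
  obtain ⟨a', b', rfl⟩ := hall y hc
  rw [conj_pow, TS_pow_four, mul_one, mul_inv_cancel]

end Cfsg.Agent.Lib.Helper45.SzSol
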