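import Cfsg.Agent.Lib.Helper45.SzSol2

set_option autoImplicit false

namespace Cfsg.Agent.Lib.Helper45.SzSol

open Cfsg Matrix
open Cfsg.Agent.Lib.Helper8.Sz

variable {F : Type*} [Field F] [Fintype F] {m : ℕ}

/-- the elements generating a proper subgroup together with `x` -/
def Sol (x : Sz F m) : Set (Sz F m) := {y | Subgroup.closure ({x, y} : Set (Sz F m)) ≠ ⊤}

/-- the part of the normaliser of `U` commuting with `t` -/
def Dsub (t : Sz F m) (U : Subgroup (Sz F m)) : Subgroup (Sz F m) :=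
  Subgroup.centralizer ({t} : Set (Sz F m)) ⊓ Subgroup.normalizer (U : Set (Sz F m))

/-- the fibre over the involution `t` -/
def fiber (z t : Sz F m) : Set (Sz F m) :=
  insert (z * t) {y | y ≠ 1 ∧ y ∈ Dsub t (Subgroup.centralizer ({z * t} : Set (Sz F m)))}

theorem ncard_biUnion_const {α ι : Type*} [Finite α] (J : Set ι) (hJ : J.Finite)
    (fib : ι → Set α) (k : ℕ)
    (hdisj : ∀ t ∈ J, ∀ t' ∈ J, t ≠ t' → Disjoint (fib t) (fib t'))
    (hc : ∀ t ∈ J, (fib t).ncard = k) :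
    (⋃ t ∈ J, fib t).ncard = J.ncard * k := by
  induction J, hJ using Set.Finite.induction_on with
  | empty => simp
  | @insert a s ha hs ih =>
    rw [Set.biUnion_insert, Set.ncard_union_eq _ (Set.toFinite _) (Set.toFinite _),
      Set.ncard_insert_of_notMem ha hs,
      ih (fun t ht t' ht' => hdisj t (Set.mem_insert_of_mem _ ht) t' (Set.mem_insert_of_mem _ ht'))
        (fun t ht => hc t (Set.mem_insert_of_mem _ ht)), hc a (Set.mem_insert _ _)]
    · ring
    · rw [Set.disjoint_iUnion₂_right]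
      intro t ht
      exact hdisj a (Set.mem_insert _ _) t (Set.mem_insert_of_mem _ ht) (fun h => ha (h ▸ ht))

theorem z_mem_norm {G : Type*} [Group G] {z t : G} (hz2 : z * z = 1) (ht2 : t * t = 1) :
    z ∈ Subgroup.normalizer (Subgroup.centralizer ({z * t} : Set G) : Set G) := by
  apply mem_normalizer_centralizer_of_inv
  have hzinv : z⁻¹ = z := inv_eq_of_mul_eq_one_right hz2
  have htinv : t⁻¹ = t := inv_eq_of_mul_eq_one_right ht2
  calc z * (z * t) * z⁻¹ = (z * z) * t * z⁻¹ := by group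
    _ = t * z := by rw [hz2, one_mul, hzinv]
    _ = (z * t)⁻¹ := by rw [_root_.mul_inv_rev, htinv, hzinv]

theorem t_mem_norm {G : Type*} [Group G] {z t : G} (hz2 : z * z = 1) (ht2 : t * t = 1) :
    t ∈ Subgroup.normalizer (Subgroup.centralizer ({z * t} : Set G) : Set G) := by
  apply mem_normalizer_centralizer_of_inv
  have hzinv : z⁻¹ = z := inv_eq_of_mul_eq_one_right hz2
  have htinv : t⁻¹ = t := inv_eq_of_mul_eq_one_right ht2
  calc t * (z * t) * t⁻¹ = t * z * (t * t⁻¹) := by group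
    _ = t * z := by rw [mul_inv_cancel, mul_one]
    _ = (z * t)⁻¹ := by rw [_root_.mul_inv_rev, htinv, hzinv]

variable (hF : Fintype.card F = 2 ^ (2 * m + 1))

include hF

/-- the index set of the fibres -/
def Jset (z x : Sz F m) : Set (Sz F m) :=
  {t | t * t = 1 ∧ t ∉ QS hF ∧
    x ∈ Subgroup.normalizer (Subgroup.centralizer ({z * t} : Set (Sz F m)) : Set (Sz F m))}

theorem Bsub_ne_top : Bsub F m ≠ ⊤ := by
  intro h
  have h1 : wS hF ∈ Bsub F m := by rw [h]; trivial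
  rw [mem_Bsub_iff, wS_val, wg_smul_Pinf (m := m)] at h1
  exact Paff_ne_Pinf _ _ h1

theorem normalizer_tor_ne_top (hm : 1 ≤ m) {U : Subgroup (Sz F m)} (hU : IsTor F m U) :
    Subgroup.normalizer (U : Set (Sz F m)) ≠ ⊤ := by
  intro h
  have h1 : Nat.card (Subgroup.normalizer (U : Set (Sz F m))) = Nat.card (Sz F m) := by
    rw [h]; exact Subgroup.card_top
  rw [card_Sz hm hF] at h1
  obtain ⟨h8, h4, hlt⟩ := tor_sizes hm
  have hUle : Nat.card U ≤ 2 * 2 ^ (2 * m + 1) := by rcases hU.2 with h | h | h <;> omega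
  have hNle : Nat.card (Subgroup.normalizer (U : Set (Sz F m))) ≤ 8 * 2 ^ (2 * m + 1) := by
    rcases hU.card_normalizer hF hm with ⟨_, hN⟩ | ⟨_, hN⟩ <;> omega
  rw [h1] at hNle
  obtain ⟨k, hk⟩ : ∃ k, 2 ^ (2 * m + 1) = k + 8 := ⟨2 ^ (2 * m + 1) - 8, by omega⟩
  rw [hk] at hNle
  have e : k + 8 - 1 = k + 7 := by omega
  rw [e] at hNle
  have hA : 8 * (k + 8) < (k + 8) ^ 2 * 1 * 7 := by nlinarith [Nat.zero_le k]
  have hB : (k + 8) ^ 2 * 1 * 7 ≤ (k + 8) ^ 2 * ((k + 8) ^ 2 + 1) * (k + 7) :=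
    Nat.mul_le_mul (Nat.mul_le_mul_left _ (by omega)) (by omega)
  omega

theorem zt_pow_four (hm : 1 ≤ m) {z t : Sz F m} (hz : z ∈ QS hF) (hz2 : z * z = 1) (hz1 : z ≠ 1)
    (ht2 : t * t = 1) (htQ : t ∉ QS hF) : (z * t) ^ 4 ≠ 1 := by
  intro h4
  have hzinv : z⁻¹ = z := inv_eq_of_mul_eq_one_right hz2
  have htinv : t⁻¹ = t := inv_eq_of_mul_eq_one_right ht2
  have hw1 : z * t ≠ 1 := by
    intro h
    have : t = z := by
      calc t = z⁻¹ * (z * t) := by group
        _ = z := by rw [h, mul_one, hzinv]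
    exact htQ (this ▸ hz)
  obtain ⟨c, a, b, hab, hw⟩ := two_conj hF hm hw1 h4
  have hinvw : z * (z * t) * z⁻¹ = (z * t)⁻¹ := by
    calc z * (z * t) * z⁻¹ = (z * z) * t * z⁻¹ := by group
      _ = t * z := by rw [hz2, one_mul, hzinv]
      _ = (z * t)⁻¹ := by rw [_root_.mul_inv_rev, htinv, hzinv]
  have h1 : (c⁻¹ * z * c) * TS hF a b * (c⁻¹ * z * c)⁻¹ = TS hF a (b + th m a * a) := by
    rw [← TS_inv]
    have e : TS hF a b = c⁻¹ * (z * t) * c := by rw [hw]; group
    rw [e]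
    calc (c⁻¹ * z * c) * (c⁻¹ * (z * t) * c) * (c⁻¹ * z * c)⁻¹
        = c⁻¹ * (z * (z * t) * z⁻¹) * c := by group
      _ = c⁻¹ * (z * t)⁻¹ * c := by rw [hinvw]
      _ = (c⁻¹ * (z * t) * c)⁻¹ := by group
  have h2 := mem_Bsub_of_conj hF hab _ h1
  have hc := mem_Bsub_of_conj_mem hF hm hz hz1 h2
  have h3 : z * t ∈ QS hF := by
    rw [hw]
    exact Bsub_normalizes hF hm hc ⟨a, b, rfl⟩
  apply htQ
  have e2 : t = z * (z * t) := by rw [← mul_assoc, hz2, one_mul]
  rw [e2]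
  exact (QS hF).mul_mem hz h3

theorem Dsub_inf (hm : 1 ≤ m) {U : Subgroup (Sz F m)} (hU : IsTor F m U) {t : Sz F m}
    (ht2 : t * t = 1) (ht1 : t ≠ 1) {y : Sz F m} (hyU : y ∈ U) (hyD : y ∈ Dsub t U) : y = 1 := by
  by_contra hy1
  obtain ⟨_, hUC⟩ := hU.eq_centralizer hF hm hyU hy1
  have hyD' : y ∈ Subgroup.centralizer ({t} : Set (Sz F m)) := (Subgroup.mem_inf.1 hyD).1
  have htU : t ∈ U := by
    rw [hUC, Subgroup.mem_centralizer_iff]
    rintro w (rfl : w = y)
    exact ((Subgroup.mem_centralizer_iff.1 hyD') t rfl).symm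
  exact ht1 (hU.eq_one_of_pow_four htU (by rw [pow_four_eq, ht2, mul_one]))

theorem card_Dsub (hm : 1 ≤ m) {U : Subgroup (Sz F m)} (hU : IsTor F m U) {t : Sz F m}
    (ht : t ∈ Subgroup.normalizer (U : Set (Sz F m))) (ht2 : t * t = 1) (ht1 : t ≠ 1) :
    Nat.card (Dsub t U) * Nat.card U = Nat.card (Subgroup.normalizer (U : Set (Sz F m))) := by
  have hle : U ≤ Subgroup.normalizer (U : Set (Sz F m)) := Subgroup.le_normalizer
  have hub : Nat.card (Dsub t U) * Nat.card U ≤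
      Nat.card (Subgroup.normalizer (U : Set (Sz F m))) := by
    rw [← Nat.card_prod]
    apply Nat.card_le_card_of_injective (fun p : Dsub t U × U =>
      (⟨p.1.1 * p.2.1, Subgroup.mul_mem _ (Subgroup.mem_inf.1 p.1.2).2 (hle p.2.2)⟩ :
        Subgroup.normalizer (U : Set (Sz F m))))
    rintro ⟨d, u⟩ ⟨d', u'⟩ h
    have h1 : (d : Sz F m) * u = d' * u' := congrArg Subtype.val h
    have h2 : (d' : Sz F m)⁻¹ * d = u' * (u : Sz F m)⁻¹ := by
      calc (d' : Sz F m)⁻¹ * d = (d' : Sz F m)⁻¹ * (d * u) * (u : Sz F m)⁻¹ := by group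
        _ = (d' : Sz F m)⁻¹ * (d' * u') * (u : Sz F m)⁻¹ := by rw [h1]
        _ = u' * (u : Sz F m)⁻¹ := by group
    have h3 : (d' : Sz F m)⁻¹ * d = 1 :=
      Dsub_inf hF hm hU ht2 ht1 (h2 ▸ U.mul_mem u'.2 (U.inv_mem u.2))
        ((Dsub t U).mul_mem ((Dsub t U).inv_mem d'.2) d.2)
    have h4 : (d : Sz F m) = d' := by
      calc (d : Sz F m) = d' * ((d' : Sz F m)⁻¹ * d) := by group
        _ = d' := by rw [h3, mul_one]
    have h5 : (u : Sz F m) = u' := by
      rw [h4] at h1; exact mul_left_cancel h1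
    exact Prod.ext (Subtype.ext h4) (Subtype.ext h5)
  have hpos : 0 < Nat.card U := Nat.card_pos
  have htD : t ∈ Dsub t U :=
    Subgroup.mem_inf.2 ⟨Subgroup.mem_centralizer_iff.2 (by rintro h (rfl : h = t); rfl), ht⟩
  rcases hU.card_normalizer hF hm with ⟨hc, hN⟩ | ⟨hc, hN⟩
  · have h2 : 1 < Nat.card (Dsub t U) := by
      rw [Subgroup.one_lt_card_iff_ne_bot]
      intro hbot
      rw [hbot] at htD
      exact ht1 (Subgroup.mem_bot.1 htD)
    rw [hN] at hub ⊢
    have h3 : Nat.card (Dsub t U) ≤ 2 := Nat.le_of_mul_le_mul_right hub hpos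
    have h4 : Nat.card (Dsub t U) = 2 := by omega
    rw [h4]
  · have h4D : 4 ≤ Nat.card (Dsub t U) := by
      obtain ⟨N, hNdef⟩ : ∃ N, N = Subgroup.normalizer (U : Set (Sz F m)) := ⟨_, rfl⟩
      rw [← hNdef] at ht hN
      have hp : IsPGroup 2 (Subgroup.zpowers (⟨t, ht⟩ : N)) := by
        apply IsPGroup.of_card (n := 1)
        rw [Nat.card_zpowers, pow_one]
        apply orderOf_eq_prime
        · apply Subtype.ext
          simp [pow_two, ht2]
        · intro h; exact ht1 (congrArg Subtype.val h)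
      obtain ⟨P, hP⟩ := hp.exists_le_sylow
      have hPcard : Nat.card P = 4 := by
        rw [Sylow.card_eq_multiplicity, hN]
        have h2 : (4 * Nat.card U).factorization 2 = 2 := by
          have hnd : ¬ 2 ∣ Nat.card U := by
            intro hdvd
            have h5 : (2 : ℕ) ∣ Nat.gcd 4 (Nat.card U) := Nat.dvd_gcd (by norm_num) hdvd
            rw [hU.coprime_four] at h5
            omega
          rw [Nat.factorization_mul (by norm_num) hpos.ne', Finsupp.add_apply,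
            Nat.factorization_eq_zero_of_not_dvd hnd]
          have h6 : (4 : ℕ) = 2 ^ 2 := by norm_num
          rw [h6, Nat.Prime.factorization_pow Nat.prime_two]
          simp
        rw [h2]
        norm_num
      have hcomm := IsPGroup.commutative_of_card_eq_prime_sq (p := 2) (G := P)
        (by rw [hPcard]; norm_num)
      have hmap : (P : Subgroup N).map N.subtype ≤ Dsub t U := by
        rintro _ ⟨p, hp', rfl⟩
        refine Subgroup.mem_inf.2 ⟨?_, ?_⟩
        · rw [Subgroup.mem_centralizer_iff]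
          rintro h (rfl : h = t)
          have htP : (⟨h, ht⟩ : N) ∈ (P : Subgroup N) := hP (Subgroup.mem_zpowers _)
          have h7 := hcomm ⟨⟨h, ht⟩, htP⟩ ⟨p, hp'⟩
          exact congrArg (fun q : P => ((q : N) : Sz F m)) h7
        · rw [← hNdef]; exact p.2
      have hc4 : Nat.card ((P : Subgroup N).map N.subtype) = 4 := by
        rw [Subgroup.card_map_of_injective N.subtype_injective]; exact hPcard
      calc 4 = Nat.card ((P : Subgroup N).map N.subtype) := hc4.symm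
        _ ≤ Nat.card (Dsub t U) := Subgroup.card_le_of_le hmap
    rw [hN] at hub ⊢
    have h3 : Nat.card (Dsub t U) ≤ 4 := Nat.le_of_mul_le_mul_right hub hpos
    have h4 : Nat.card (Dsub t U) = 4 := by omega
    rw [h4]

theorem card_fiber (hm : 1 ≤ m) {z t : Sz F m} (hz : z ∈ QS hF) (hz2 : z * z = 1) (hz1 : z ≠ 1)
    (ht2 : t * t = 1) (htQ : t ∉ QS hF) :
    (z * t ∈ TH F m → (fiber z t).ncard = 2) ∧ (z * t ∈ TX F m → (fiber z t).ncard = 4) := by
  have h4 := zt_pow_four hF hm hz hz2 hz1 ht2 htQ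
  have hU := isTor_centralizer hF hm h4
  have ht1 : t ≠ 1 := by rintro rfl; exact htQ (QS hF).one_mem
  have htN : t ∈ Subgroup.normalizer (Subgroup.centralizer ({z * t} : Set (Sz F m)) :
      Set (Sz F m)) := t_mem_norm hz2 ht2
  have hD := card_Dsub hF hm hU htN ht2 ht1
  have hw1 : z * t ≠ 1 := by intro h; exact h4 (by rw [h, one_pow])
  have hwU : z * t ∈ Subgroup.centralizer ({z * t} : Set (Sz F m)) :=
    Subgroup.mem_centralizer_iff.2 (by rintro h (rfl : h = _); rfl)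
  have hnot : z * t ∉ {y | y ≠ 1 ∧ y ∈ Dsub t (Subgroup.centralizer ({z * t} :
      Set (Sz F m)))} := by
    rintro ⟨_, hyD⟩
    exact hw1 (Dsub_inf hF hm hU ht2 ht1 hwU hyD)
  have hset : {y | y ≠ 1 ∧ y ∈ Dsub t (Subgroup.centralizer ({z * t} : Set (Sz F m)))} =
      ((Dsub t (Subgroup.centralizer ({z * t} : Set (Sz F m))) : Subgroup (Sz F m)) :
        Set (Sz F m)) \ {1} := by
    ext y
    simp [and_comm]
  have hpos : 0 < Nat.card (Dsub t (Subgroup.centralizer ({z * t} : Set (Sz F m)))) :=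
    Nat.card_pos
  have hcard : (fiber z t).ncard =
      Nat.card (Dsub t (Subgroup.centralizer ({z * t} : Set (Sz F m)))) := by
    unfold fiber
    rw [Set.ncard_insert_of_notMem hnot (Set.toFinite _), hset,
      Set.ncard_sdiff_singleton_of_mem (Subgroup.one_mem _)]
    have e : ((Dsub t (Subgroup.centralizer ({z * t} : Set (Sz F m))) : Subgroup (Sz F m)) :
        Set (Sz F m)).ncard =
        Nat.card (Dsub t (Subgroup.centralizer ({z * t} : Set (Sz F m)))) :=
      (Nat.card_coe_set_eq _).symm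
    rw [e]
    omega
  obtain ⟨h8, h4', hlt⟩ := tor_sizes hm
  constructor
  · intro hTH
    rcases hU.card_normalizer hF hm with ⟨hc, hN⟩ | ⟨hc, hN⟩
    · rw [hcard]; rw [hN] at hD; exact Nat.eq_of_mul_eq_mul_right Nat.card_pos hD
    · exact absurd (isTor_of_TH hF hm hTH).2 hc
  · intro hTX
    rcases hU.card_normalizer hF hm with ⟨hc, hN⟩ | ⟨hc, hN⟩
    · exfalso
      rcases card_centralizer_TX hF hm hTX with h | h <;> omega
    · rw [hcard]; rw [hN] at hD; exact Nat.eq_of_mul_eq_mul_right Nat.card_pos hD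

theorem fiber_not_Bsub (hm : 1 ≤ m) {z t y : Sz F m} (hz : z ∈ QS hF)
    (ht2 : t * t = 1) (htQ : t ∉ QS hF) (hy : y ∈ fiber z t) : y ∉ Bsub F m := by
  intro hyB
  have ht1 : t ≠ 1 := by rintro rfl; exact htQ (QS hF).one_mem
  have ht4 : t ^ 4 = 1 := by rw [pow_four_eq, ht2, mul_one]
  rcases hy with rfl | ⟨hy1, hyD⟩
  · have h1 : t ∈ Bsub F m := by
      have h := (Bsub F m).mul_mem ((Bsub F m).inv_mem (QS_le_Bsub hF hz)) hyB
      rwa [inv_mul_cancel_left] at h
    exact htQ (mem_QS_of_mem_Bsub hF hm h1 ht4)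
  · have hyC : y * t = t * y := ((Subgroup.mem_centralizer_iff.1 (Subgroup.mem_inf.1 hyD).1) t rfl).symm
    have hy4 := pow_four_of_comm_invol hF hm ht2 ht1 hyC
    have hyQ := mem_QS_of_mem_Bsub hF hm hyB hy4
    have h1 : t ∈ Bsub F m := mem_Bsub_of_comm hF hyQ hy1 hyC.symm
    exact htQ (mem_QS_of_mem_Bsub hF hm h1 ht4)

theorem invol_unique (hm : 1 ≤ m) {U : Subgroup (Sz F m)} (hU : IsTor F m U) {s y : Sz F m}
    (hs : s ∈ Subgroup.normalizer (U : Set (Sz F m)))
    (hy : y ∈ Subgroup.normalizer (U : Set (Sz F m))) (hs2 : s * s = 1) (hy2 : y * y = 1)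
    (hs1 : s ≠ 1) (hy1 : y ≠ 1) (hc : y * s = s * y) : y = s := by
  have h0 := hU.mul_invol_mem hF hm hs hy hs2 hy2 hs1 hy1
  have h2 : (s * y) * (s * y) = 1 := by
    calc (s * y) * (s * y) = s * (y * s) * y := by group
      _ = s * (s * y) * y := by rw [hc]
      _ = (s * s) * (y * y) := by group
      _ = 1 := by rw [hs2, hy2, mul_one]
  have h1 := hU.eq_one_of_pow_four h0 (by rw [pow_four_eq, h2, mul_one])
  calc y = s⁻¹ * (s * y) := by group
    _ = s⁻¹ := by rw [h1, mul_one]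
    _ = s := inv_eq_of_mul_eq_one_right hs2

theorem invol_of_Dsub (hm : 1 ≤ m) {z s y : Sz F m} (hz : z ∈ QS hF) (hz2 : z * z = 1)
    (hz1 : z ≠ 1) (hs2 : s * s = 1) (hsQ : s ∉ QS hF) (hy1 : y ≠ 1)
    (hyD : y ∈ Dsub s (Subgroup.centralizer ({z * s} : Set (Sz F m)))) :
    (y * y = 1 → y = s) ∧ (y * y ≠ 1 → y * y = s) := by
  have h4 := zt_pow_four hF hm hz hz2 hz1 hs2 hsQ
  have hU := isTor_centralizer hF hm h4
  have hs1 : s ≠ 1 := by rintro rfl; exact hsQ (QS hF).one_mem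
  have hsN : s ∈ Subgroup.normalizer (Subgroup.centralizer ({z * s} : Set (Sz F m)) :
      Set (Sz F m)) := t_mem_norm hz2 hs2
  have hyC : y * s = s * y :=
    ((Subgroup.mem_centralizer_iff.1 (Subgroup.mem_inf.1 hyD).1) s rfl).symm
  have hyN := (Subgroup.mem_inf.1 hyD).2
  have hy4 := pow_four_of_comm_invol hF hm hs2 hs1 hyC
  constructor
  · intro hyy
    exact invol_unique hF hm hU hsN hyN hs2 hyy hs1 hy1 hyC
  · intro hyy
    refine invol_unique hF hm hU hsN (Subgroup.mul_mem _ hyN hyN) hs2 ?_ hs1 hyy ?_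
    · rw [← pow_four_eq, hy4]
    · calc y * y * s = y * (y * s) := by group
        _ = y * (s * y) := by rw [hyC]
        _ = (y * s) * y := by group
        _ = s * y * y := by rw [hyC]
        _ = s * (y * y) := by group

theorem fiber_disjoint (hm : 1 ≤ m) {z t t' : Sz F m} (hz : z ∈ QS hF) (hz2 : z * z = 1)
    (hz1 : z ≠ 1) (ht2 : t * t = 1) (htQ : t ∉ QS hF) (ht2' : t' * t' = 1) (htQ' : t' ∉ QS hF)
    (hne : t ≠ t') : Disjoint (fiber z t) (fiber z t') := by
  rw [Set.disjoint_left]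
  intro y hy hy'
  have ht1 : t ≠ 1 := by rintro rfl; exact htQ (QS hF).one_mem
  have ht1' : t' ≠ 1 := by rintro rfl; exact htQ' (QS hF).one_mem
  rcases hy with rfl | ⟨hy1, hyD⟩
  · rcases hy' with h | ⟨hy1', hyD'⟩
    · exact hne (mul_left_cancel h)
    · have hyC : (z * t) * t' = t' * (z * t) :=
        ((Subgroup.mem_centralizer_iff.1 (Subgroup.mem_inf.1 hyD').1) t' rfl).symm
      exact zt_pow_four hF hm hz hz2 hz1 ht2 htQ (pow_four_of_comm_invol hF hm ht2' ht1' hyC)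
  · rcases hy' with rfl | ⟨hy1', hyD'⟩
    · have hyC : (z * t') * t = t * (z * t') :=
        ((Subgroup.mem_centralizer_iff.1 (Subgroup.mem_inf.1 hyD).1) t rfl).symm
      exact zt_pow_four hF hm hz hz2 hz1 ht2' htQ' (pow_four_of_comm_invol hF hm ht2 ht1 hyC)
    · obtain ⟨k1, k2⟩ := invol_of_Dsub hF hm hz hz2 hz1 ht2 htQ hy1 hyD
      obtain ⟨k1', k2'⟩ := invol_of_Dsub hF hm hz hz2 hz1 ht2' htQ' hy1 hyD'
      by_cases hyy : y * y = 1
      · exact hne ((k1 hyy).symm.trans (k1' hyy))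
      · exact hne ((k2 hyy).symm.trans (k2' hyy))

theorem Sol_eq (hm : 1 ≤ m) (hS : Struct F m) {x z : Sz F m} (hx : x ∈ QS hF) (hx1 : x ≠ 1)
    (hz : z ∈ QS hF) (hz2 : z * z = 1) (hz1 : z ≠ 1) (hzx : z ∈ Subgroup.zpowers x) :
    Sol x = (Bsub F m : Set (Sz F m)) ∪ ⋃ t ∈ Jset hF z x, fiber z t := by
  have hzinv : z⁻¹ = z := inv_eq_of_mul_eq_one_right hz2
  ext y
  constructor
  · intro hy
    by_cases hyB : y ∈ Bsub F m
    · exact Or.inl hyB
    right
    rw [Set.mem_iUnion₂]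
    have hxM : x ∈ Subgroup.closure ({x, y} : Set (Sz F m)) :=
      Subgroup.subset_closure (Set.mem_insert _ _)
    have hyM : y ∈ Subgroup.closure ({x, y} : Set (Sz F m)) :=
      Subgroup.subset_closure (Set.mem_insert_of_mem _ rfl)
    have hzM : z ∈ Subgroup.closure ({x, y} : Set (Sz F m)) := (Subgroup.zpowers_le.2 hxM) hzx
    rcases hS _ hy with ⟨c, hc⟩ | ⟨U, hU, hMU⟩
    · exfalso
      have hcB := mem_Bsub_of_conj_mem hF hm hx hx1 (hc x hxM)
      apply hyB
      have e : y = c * (c⁻¹ * y * c) * c⁻¹ := by group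
      rw [e]
      exact (Bsub F m).mul_mem ((Bsub F m).mul_mem hcB (hc y hyM)) ((Bsub F m).inv_mem hcB)
    · have hxN := hMU hxM
      have hyN := hMU hyM
      have hzN := hMU hzM
      by_cases hyU : y ∈ U
      · have hy1 : y ≠ 1 := by rintro rfl; exact hyB (Bsub F m).one_mem
        have hinv := hU.conj_invol hF hm hzN hz2 hz1 hyU
        have ht2 : (z * y) * (z * y) = 1 := by
          calc (z * y) * (z * y) = (z * y * z) * y := by group
            _ = (z * y * z⁻¹) * y := by rw [hzinv]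
            _ = 1 := by rw [hinv, inv_mul_cancel]
        have hzt : z * (z * y) = y := by rw [← mul_assoc, hz2, one_mul]
        have htQ : z * y ∉ QS hF := by
          intro h
          apply hyB
          rw [← hzt]
          exact QS_le_Bsub hF ((QS hF).mul_mem hz h)
        have hUC := (hU.eq_centralizer hF hm hyU hy1).2
        refine ⟨z * y, ⟨ht2, htQ, ?_⟩, Or.inl hzt.symm⟩
        rw [hzt, ← hUC]; exact hxN
      · have hy4 : y ^ 4 = 1 := (hU.mem_or_pow_four hF hm hyN).resolve_left hyU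
        have hy1 : y ≠ 1 := by rintro rfl; exact hyU U.one_mem
        obtain ⟨t, ht2, ht1, htN, hty⟩ : ∃ t, t * t = 1 ∧ t ≠ 1 ∧
            t ∈ Subgroup.normalizer (U : Set (Sz F m)) ∧ y * t = t * y := by
          by_cases hyy : y * y = 1
          · exact ⟨y, hyy, hy1, hyN, rfl⟩
          · refine ⟨y * y, ?_, hyy, Subgroup.mul_mem _ hyN hyN, by group⟩
            rw [← pow_four_eq, hy4]
        have htQ : t ∉ QS hF := fun h => hyB (mem_Bsub_of_comm hF h ht1 hty)
        have hzt1 : z * t ≠ 1 := by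
          intro h
          have e : t = z := by
            calc t = z⁻¹ * (z * t) := by group
              _ = z := by rw [h, mul_one, hzinv]
          exact htQ (e ▸ hz)
        have hztU := hU.mul_invol_mem hF hm hzN htN hz2 ht2 hz1 ht1
        have hUC := (hU.eq_centralizer hF hm hztU hzt1).2
        refine ⟨t, ⟨ht2, htQ, hUC ▸ hxN⟩, Or.inr ⟨hy1, Subgroup.mem_inf.2 ⟨?_, hUC ▸ hyN⟩⟩⟩
        rw [Subgroup.mem_centralizer_iff]
        rintro h (rfl : h = t)
        exact hty.symm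
  · rintro (hyB | hy)
    · intro h
      apply Bsub_ne_top hF
      rw [eq_top_iff, ← h, Subgroup.closure_le]
      rintro w (rfl | rfl)
      · exact QS_le_Bsub hF hx
      · exact hyB
    · obtain ⟨t, ⟨ht2, htQ, hxN⟩, hyf⟩ := Set.mem_iUnion₂.1 hy
      have h4 := zt_pow_four hF hm hz hz2 hz1 ht2 htQ
      have hU := isTor_centralizer hF hm h4
      have hyN : y ∈ Subgroup.normalizer (Subgroup.centralizer ({z * t} : Set (Sz F m)) :
          Set (Sz F m)) := by
        rcases hyf with rfl | ⟨_, hyD⟩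
        · exact Subgroup.mul_mem _ (z_mem_norm hz2 ht2) (t_mem_norm hz2 ht2)
        · exact (Subgroup.mem_inf.1 hyD).2
      intro h
      apply normalizer_tor_ne_top hF hm hU
      rw [eq_top_iff, ← h, Subgroup.closure_le]
      rintro w (rfl | rfl)
      · exact hxN
      · exact hyN

/-- the cardinality of the solubilizer-type set of a non-identity `2`-element -/
theorem card_Sol (hm : 1 ≤ m) (hS : Struct F m) {x z : Sz F m} (hx : x ∈ QS hF) (hx1 : x ≠ 1)
    (hz : z ∈ QS hF) (hz2 : z * z = 1) (hz1 : z ≠ 1) (hzx : z ∈ Subgroup.zpowers x) :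
    (Sol x).ncard = (2 ^ (2 * m + 1)) ^ 2 * (2 ^ (2 * m + 1) - 1) +
      2 * {t | t ∈ Jset hF z x ∧ z * t ∈ TH F m}.ncard +
      4 * {t | t ∈ Jset hF z x ∧ z * t ∈ TX F m}.ncard := by
  have hsplit : (⋃ t ∈ Jset hF z x, fiber z t) =
      (⋃ t ∈ {t | t ∈ Jset hF z x ∧ z * t ∈ TH F m}, fiber z t) ∪
      (⋃ t ∈ {t | t ∈ Jset hF z x ∧ z * t ∈ TX F m}, fiber z t) := by
    ext y
    simp only [Set.mem_iUnion₂, Set.mem_union, Set.mem_ofPred_eq]
    constructor
    · rintro ⟨t, ht, hy⟩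
      rcases ss_cases hF hm (zt_pow_four hF hm hz hz2 hz1 ht.1 ht.2.1) with h | h
      · exact Or.inl ⟨t, ⟨ht, h⟩, hy⟩
      · exact Or.inr ⟨t, ⟨ht, h⟩, hy⟩
    · rintro (⟨t, ⟨ht, _⟩, hy⟩ | ⟨t, ⟨ht, _⟩, hy⟩)
      · exact ⟨t, ht, hy⟩
      · exact ⟨t, ht, hy⟩
  have hH : (⋃ t ∈ {t | t ∈ Jset hF z x ∧ z * t ∈ TH F m}, fiber z t).ncard =
      {t | t ∈ Jset hF z x ∧ z * t ∈ TH F m}.ncard * 2 := by
    apply ncard_biUnion_const _ (Set.toFinite _)
    · rintro t ⟨ht, _⟩ t' ⟨ht', _⟩ hne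
      exact fiber_disjoint hF hm hz hz2 hz1 ht.1 ht.2.1 ht'.1 ht'.2.1 hne
    · rintro t ⟨ht, hTH⟩
      exact (card_fiber hF hm hz hz2 hz1 ht.1 ht.2.1).1 hTH
  have hX : (⋃ t ∈ {t | t ∈ Jset hF z x ∧ z * t ∈ TX F m}, fiber z t).ncard =
      {t | t ∈ Jset hF z x ∧ z * t ∈ TX F m}.ncard * 4 := by
    apply ncard_biUnion_const _ (Set.toFinite _)
    · rintro t ⟨ht, _⟩ t' ⟨ht', _⟩ hne
      exact fiber_disjoint hF hm hz hz2 hz1 ht.1 ht.2.1 ht'.1 ht'.2.1 hne
    · rintro t ⟨ht, hTX⟩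
      exact (card_fiber hF hm hz hz2 hz1 ht.1 ht.2.1).2 hTX
  have hd1 : Disjoint (⋃ t ∈ {t | t ∈ Jset hF z x ∧ z * t ∈ TH F m}, fiber z t)
      (⋃ t ∈ {t | t ∈ Jset hF z x ∧ z * t ∈ TX F m}, fiber z t) := by
    rw [Set.disjoint_iUnion₂_left]
    rintro t ⟨ht, hTH⟩
    rw [Set.disjoint_iUnion₂_right]
    rintro t' ⟨ht', hTX⟩
    apply fiber_disjoint hF hm hz hz2 hz1 ht.1 ht.2.1 ht'.1 ht'.2.1
    rintro rfl
    exact TH_not_TX hTH hTX
  have hd2 : Disjoint (Bsub F m : Set (Sz F m)) (⋃ t ∈ Jset hF z x, fiber z t) := by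
    rw [Set.disjoint_iUnion₂_right]
    rintro t ht
    rw [Set.disjoint_left]
    intro y hyB hy
    exact fiber_not_Bsub hF hm hz ht.1 ht.2.1 hy hyB
  have hB : (Bsub F m : Set (Sz F m)).ncard =
      (2 ^ (2 * m + 1)) ^ 2 * (2 ^ (2 * m + 1) - 1) := by
    rw [← card_stab_inf hm hF]
    exact (Nat.card_coe_set_eq _).symm
  rw [Sol_eq hF hm hS hx hx1 hz hz2 hz1 hzx,
    Set.ncard_union_eq hd2 (Set.toFinite _) (Set.toFinite _), hsplit,
    Set.ncard_union_eq hd1 (Set.toFinite _) (Set.toFinite _), hH, hX, hB]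
  ring

end Cfsg.Agent.Lib.Helper45.SzSol
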