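import Cfsg.Agent.Lib.Helper45.SzSol3
import Cfsg.Agent.Lib.Helper8.Sz31

set_option autoImplicit false

namespace Cfsg.Agent.Lib.Helper45.SzSol

open Cfsg Matrix
open Cfsg.Agent.Lib.Helper8.Sz

variable {F : Type*} [Field F] [Fintype F] {m : ℕ}

/-- double counting, for `Set.ncard` -/
theorem ncard_double_count {α β : Type*} [Finite α] [Finite β] (S : Set α) (T : Set β)
    (r : α → β → Prop) (k n : ℕ)
    (h1 : ∀ a ∈ S, {b | b ∈ T ∧ r a b}.ncard = k)
    (h2 : ∀ b ∈ T, {a | a ∈ S ∧ r a b}.ncard = n) :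
    S.ncard * k = T.ncard * n := by
  classical
  let _ := Fintype.ofFinite α
  let _ := Fintype.ofFinite β
  have key := Finset.card_mul_eq_card_mul (s := S.toFinset) (t := T.toFinset) r (m := k) (n := n)
    ?_ ?_
  · rwa [← Set.ncard_eq_toFinset_card', ← Set.ncard_eq_toFinset_card'] at key
  · intro a ha
    rw [← h1 a (Set.mem_toFinset.1 ha), ← Set.ncard_coe_finset]
    congr 1
    ext b
    simp [Finset.bipartiteAbove]
  · intro b hb
    rw [← h2 b (Set.mem_toFinset.1 hb), ← Set.ncard_coe_finset]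
    congr 1
    ext a
    simp [Finset.bipartiteBelow]

/-- elements of `TH` inverted by `z` -/
def Wset (z : Sz F m) : Set (Sz F m) := {h | h ∈ TH F m ∧ z * h * z⁻¹ = h⁻¹}

omit [Fintype F] in
theorem TH_conj_iff (c h : Sz F m) : c * h * c⁻¹ ∈ TH F m ↔ h ∈ TH F m := by
  unfold TH
  simp only [Set.mem_ofPred_eq, conj_pow]
  constructor
  · rintro ⟨h1, h2⟩
    refine ⟨fun e => h1 (by rw [e]; group), ?_⟩
    calc h ^ (2 ^ (2 * m + 1) - 1) = c⁻¹ * (c * h ^ (2 ^ (2 * m + 1) - 1) * c⁻¹) * c := by group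
      _ = 1 := by rw [h2]; group
  · rintro ⟨h1, h2⟩
    refine ⟨fun e => h1 ?_, by rw [h2]; group⟩
    calc h = c⁻¹ * (c * h * c⁻¹) * c := by group
      _ = 1 := by rw [e]; group

omit [Fintype F] in
theorem TX_conj_iff (c h : Sz F m) : c * h * c⁻¹ ∈ TX F m ↔ h ∈ TX F m := by
  unfold TX
  simp only [Set.mem_ofPred_eq, conj_pow]
  constructor
  · rintro ⟨h1, h2⟩
    refine ⟨fun e => h1 (by rw [e]; group), ?_⟩
    calc h ^ ((2 ^ (2 * m + 1)) ^ 2 + 1)
        = c⁻¹ * (c * h ^ ((2 ^ (2 * m + 1)) ^ 2 + 1) * c⁻¹) * c := by group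
      _ = 1 := by rw [h2]; group
  · rintro ⟨h1, h2⟩
    refine ⟨fun e => h1 ?_, by rw [h2]; group⟩
    calc h = c⁻¹ * (c * h * c⁻¹) * c := by group
      _ = 1 := by rw [e]; group

omit [Fintype F] in
theorem Wset_conj (c z : Sz F m) :
    Wset (c * z * c⁻¹) = (fun h => c * h * c⁻¹) '' Wset z := by
  ext h'
  constructor
  · rintro ⟨hTH, hinv⟩
    refine ⟨c⁻¹ * h' * c, ⟨?_, ?_⟩, by group⟩
    · have e : c⁻¹ * h' * c = c⁻¹ * h' * c⁻¹⁻¹ := by rw [inv_inv]
      rw [e, TH_conj_iff]; exact hTH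
    · calc z * (c⁻¹ * h' * c) * z⁻¹ = c⁻¹ * ((c * z * c⁻¹) * h' * (c * z * c⁻¹)⁻¹) * c := by group
        _ = c⁻¹ * h'⁻¹ * c := by rw [hinv]
        _ = (c⁻¹ * h' * c)⁻¹ := by group
  · rintro ⟨h, ⟨hTH, hinv⟩, rfl⟩
    refine ⟨(TH_conj_iff c h).2 hTH, ?_⟩
    calc c * z * c⁻¹ * (c * h * c⁻¹) * (c * z * c⁻¹)⁻¹ = c * (z * h * z⁻¹) * c⁻¹ := by group
      _ = c * h⁻¹ * c⁻¹ := by rw [hinv]
      _ = (c * h * c⁻¹)⁻¹ := by group

theorem conj_injective {G : Type*} [Group G] (c : G) :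
    Function.Injective (fun h : G => c * h * c⁻¹) := by
  intro a b hab
  have h3 : c * a * c⁻¹ = c * b * c⁻¹ := hab
  calc a = c⁻¹ * (c * a * c⁻¹) * c := by group
    _ = c⁻¹ * (c * b * c⁻¹) * c := by rw [h3]
    _ = b := by group

variable (hF : Fintype.card F = 2 ^ (2 * m + 1))

include hF

/-- the centre of the translation group -/
def ZS : Subgroup (Sz F m) where
  carrier := {x | ∃ b, x = TS hF 0 b}
  mul_mem' := by
    rintro x y ⟨b, rfl⟩ ⟨b', rfl⟩
    exact ⟨b + b', by simp [TS_mul, th_zero]⟩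
  one_mem' := ⟨0, (TS_zero hF).symm⟩
  inv_mem' := by
    rintro x ⟨b, rfl⟩
    exact ⟨b, by simp [TS_inv, th_zero]⟩

theorem card_ZS : Nat.card (ZS hF) = 2 ^ (2 * m + 1) := by
  rw [← hF, ← Nat.card_eq_fintype_card]
  symm
  apply Nat.card_congr
  exact Equiv.ofBijective (fun b : F => (⟨TS hF 0 b, b, rfl⟩ : ZS hF))
    ⟨fun b b' h => (TS_inj hF (congrArg Subtype.val h)).2,
      fun ⟨x, b, hb⟩ => ⟨b, Subtype.ext hb.symm⟩⟩

theorem invol_eq_conjSet (hm : 1 ≤ m) :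
    {t : Sz F m | t ≠ 1 ∧ t * t = 1} = conjSet (ZS hF) := by
  ext t
  constructor
  · rintro ⟨h1, h2⟩
    obtain ⟨c, b, hb, rfl⟩ := involution_conj hF hm h1 h2
    exact ⟨c, TS hF 0 b, ⟨b, rfl⟩, (TS_ne_one_iff hF).2 (fun h => hb h.2), rfl⟩
  · rintro ⟨c, a, ⟨b, rfl⟩, ha1, rfl⟩
    constructor
    · intro h
      apply ha1
      calc TS hF 0 b = c⁻¹ * (c * TS hF 0 b * c⁻¹) * c := by group
        _ = 1 := by rw [h]; group
    · calc c * TS hF 0 b * c⁻¹ * (c * TS hF 0 b * c⁻¹)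
          = c * (TS hF 0 b * TS hF 0 b) * c⁻¹ := by group
        _ = 1 := by rw [TS_center_sq]; group

theorem card_invol (hm : 1 ≤ m) :
    {t : Sz F m | t ≠ 1 ∧ t * t = 1}.ncard =
      ((2 ^ (2 * m + 1)) ^ 2 + 1) * (2 ^ (2 * m + 1) - 1) := by
  rw [invol_eq_conjSet hF hm]
  have h := card_conjSet (ZS hF) (Bsub F m) ?_ ?_
  · rw [card_ZS, card_stab_inf hm hF, card_Sz hm hF] at h
    have h8 := q_ge hm
    have hpos : 0 < (2 ^ (2 * m + 1)) ^ 2 * (2 ^ (2 * m + 1) - 1) := by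
      apply Nat.mul_pos
      · positivity
      · omega
    apply Nat.eq_of_mul_eq_mul_right hpos
    rw [h]; ring
  · rintro n hn a ⟨b, rfl⟩
    obtain ⟨b', hb'⟩ := center_conj hF hm ((Bsub F m).inv_mem hn) b
    rw [inv_inv] at hb'
    exact ⟨b', hb'⟩
  · rintro c a ⟨b, rfl⟩ ha1 ⟨b', hb'⟩
    exact mem_Bsub_of_conj hF ((TS_ne_one_iff hF).1 ha1) c hb'

theorem card_Iprime (hm : 1 ≤ m) :
    {t : Sz F m | t * t = 1 ∧ t ∉ QS hF}.ncard =
      (2 ^ (2 * m + 1)) ^ 2 * (2 ^ (2 * m + 1) - 1) := by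
  have hunion : {t : Sz F m | t ≠ 1 ∧ t * t = 1} =
      {t : Sz F m | t * t = 1 ∧ t ∉ QS hF} ∪
        (((ZS hF : Subgroup (Sz F m)) : Set (Sz F m)) \ {1}) := by
    ext t
    constructor
    · rintro ⟨h1, h2⟩
      by_cases hQ : t ∈ QS hF
      · right
        obtain ⟨a, b, rfl⟩ := hQ
        rw [TS_sq, ← TS_zero hF] at h2
        have ha : a = 0 := by
          rcases mul_eq_zero.1 (TS_inj hF h2).2 with h | h
          · exact th_eq_zero h
          · exact h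
        subst ha
        exact ⟨⟨b, rfl⟩, h1⟩
      · exact Or.inl ⟨h2, hQ⟩
    · rintro (⟨h2, hQ⟩ | ⟨⟨b, rfl⟩, h1⟩)
      · exact ⟨fun h => hQ (h ▸ (QS hF).one_mem), h2⟩
      · exact ⟨h1, TS_center_sq hF b⟩
  have hdisj : Disjoint {t : Sz F m | t * t = 1 ∧ t ∉ QS hF}
      (((ZS hF : Subgroup (Sz F m)) : Set (Sz F m)) \ {1}) := by
    rw [Set.disjoint_left]
    rintro t ⟨_, hQ⟩ ⟨⟨b, rfl⟩, _⟩
    exact hQ ⟨0, b, rfl⟩
  have h1 := card_invol hF hm
  have e : ((ZS hF : Subgroup (Sz F m)) : Set (Sz F m)).ncard = 2 ^ (2 * m + 1) := by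
    rw [← card_ZS hF]; exact (Nat.card_coe_set_eq _).symm
  rw [hunion, Set.ncard_union_eq hdisj (Set.toFinite _) (Set.toFinite _),
    Set.ncard_sdiff_singleton_of_mem (Subgroup.one_mem _), e] at h1
  have e2 : ((2 ^ (2 * m + 1)) ^ 2 + 1) * (2 ^ (2 * m + 1) - 1) =
      (2 ^ (2 * m + 1)) ^ 2 * (2 ^ (2 * m + 1) - 1) + (2 ^ (2 * m + 1) - 1) := by ring
  omega

theorem card_Wset_eq (hm : 1 ≤ m) {z z' : Sz F m} (hz1 : z ≠ 1) (hz2 : z * z = 1)
    (hz1' : z' ≠ 1) (hz2' : z' * z' = 1) : (Wset z').ncard = (Wset z).ncard := by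
  obtain ⟨c, b, hb, rfl⟩ := involution_conj hF hm hz1 hz2
  obtain ⟨c', b', hb', rfl⟩ := involution_conj hF hm hz1' hz2'
  obtain ⟨s, hs⟩ := exists_chi_eq hF (d := b' / b) (div_ne_zero hb' hb)
  have h1 : HS hF s * TS hF 0 b * (HS hF s)⁻¹ = TS hF 0 b' := by
    rw [HS_conj_TS, mul_zero, hs, div_mul_cancel₀ _ hb]
  have h2 : c' * TS hF 0 b' * c'⁻¹ =
      (c' * HS hF s * c⁻¹) * (c * TS hF 0 b * c⁻¹) * (c' * HS hF s * c⁻¹)⁻¹ := by
    rw [← h1]; group
  rw [h2, Wset_conj, Set.ncard_image_of_injective _ (conj_injective _)]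

/-- the involutions inverting an element of `TH` -/
theorem card_inverting (hm : 1 ≤ m) {h : Sz F m} (hh : h ∈ TH F m) :
    {z : Sz F m | z ∈ {t : Sz F m | t ≠ 1 ∧ t * t = 1} ∧ z * h * z⁻¹ = h⁻¹}.ncard =
      2 ^ (2 * m + 1) - 1 := by
  obtain ⟨c, s, hs, rfl⟩ := TH_conj hF hm hh
  have hinvol : ∀ t : Fˣ, (wS hF * HS hF t) * (wS hF * HS hF t) = 1 := by
    intro t
    calc (wS hF * HS hF t) * (wS hF * HS hF t) = (wS hF * HS hF t * wS hF) * HS hF t := by group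
      _ = 1 := by rw [wS_mul_HS_mul_wS, ← HS_mul, inv_mul_cancel, HS_one]
  have hset : {z : Sz F m | z ∈ {t : Sz F m | t ≠ 1 ∧ t * t = 1} ∧
      z * (c * HS hF s * c⁻¹) * z⁻¹ = (c * HS hF s * c⁻¹)⁻¹} =
      Set.range (fun t : Fˣ => c * (wS hF * HS hF t) * c⁻¹) := by
    ext z
    constructor
    · rintro ⟨⟨hz1, hz2⟩, hinv⟩
      have h1 : (c⁻¹ * z * c) * HS hF s * (c⁻¹ * z * c)⁻¹ = HS hF s⁻¹ := by
        rw [← HS_inv]
        calc (c⁻¹ * z * c) * HS hF s * (c⁻¹ * z * c)⁻¹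
            = c⁻¹ * (z * (c * HS hF s * c⁻¹) * z⁻¹) * c := by group
          _ = c⁻¹ * (c * HS hF s * c⁻¹)⁻¹ * c := by rw [hinv]
          _ = (HS hF s)⁻¹ := by group
      obtain ⟨t, ht | ht⟩ := (mem_NSub_iff hF _).1 (mem_NSub_of_conj hF hm hs _ h1)
      · exfalso
        rw [ht, HS_inv hF t, ← HS_mul, ← HS_mul] at h1
        have h2 := torusHom_injective hF h1
        have h3 : s * s = 1 := by
          have : t * s * t⁻¹ = s := by rw [mul_comm t s, mul_inv_cancel_right]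
          rw [this] at h2
          calc s * s = s * s⁻¹ := by rw [← h2]
            _ = 1 := mul_inv_cancel s
        have h4 : ((s : F)) ^ 2 = 1 := by
          have := congrArg (fun u : Fˣ => (u : F)) h3
          simp only [Units.val_mul, Units.val_one] at this
          rw [pow_two]; exact this
        exact hs (Units.ext (sq_eq_one hF h4))
      · refine ⟨t, ?_⟩
        show c * (wS hF * HS hF t) * c⁻¹ = z
        rw [← ht]; group
    · rintro ⟨t, rfl⟩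
      refine ⟨⟨?_, ?_⟩, ?_⟩
      · intro h
        have h' : c * (wS hF * HS hF t) * c⁻¹ = 1 := h
        have h1 : wS hF * HS hF t = 1 := by
          calc wS hF * HS hF t = c⁻¹ * (c * (wS hF * HS hF t) * c⁻¹) * c := by group
            _ = 1 := by rw [h']; group
        exact HS_ne_wS_mul hF 1 t (by rw [HS_one, h1])
      · calc c * (wS hF * HS hF t) * c⁻¹ * (c * (wS hF * HS hF t) * c⁻¹)
            = c * ((wS hF * HS hF t) * (wS hF * HS hF t)) * c⁻¹ := by group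
          _ = 1 := by rw [hinvol]; group
      · have hinv' : (wS hF * HS hF t)⁻¹ = wS hF * HS hF t := inv_eq_of_mul_eq_one_right (hinvol t)
        have h5 : (wS hF * HS hF t) * HS hF s * (wS hF * HS hF t) = (HS hF s)⁻¹ := by
          calc (wS hF * HS hF t) * HS hF s * (wS hF * HS hF t)
              = (wS hF * (HS hF t * HS hF s) * wS hF) * HS hF t := by group
            _ = (HS hF s)⁻¹ := by
              rw [← HS_mul, wS_mul_HS_mul_wS, ← HS_mul, HS_inv]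
              congr 1
              rw [_root_.mul_inv_rev, inv_mul_cancel_right]
        calc c * (wS hF * HS hF t) * c⁻¹ * (c * HS hF s * c⁻¹) * (c * (wS hF * HS hF t) * c⁻¹)⁻¹
            = c * ((wS hF * HS hF t) * HS hF s * (wS hF * HS hF t)⁻¹) * c⁻¹ := by group
          _ = c * (HS hF s)⁻¹ * c⁻¹ := by rw [hinv', h5]
          _ = (c * HS hF s * c⁻¹)⁻¹ := by group
  rw [hset, Set.ncard_range_of_injective, Nat.card_units, Nat.card_eq_fintype_card, hF]
  intro t t' htt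
  have h3 : c * (wS hF * HS hF t) * c⁻¹ = c * (wS hF * HS hF t') * c⁻¹ := htt
  have h4 : wS hF * HS hF t = wS hF * HS hF t' := conj_injective c h3
  exact torusHom_injective hF (mul_left_cancel h4)

/-- the number of involutions `t` outside the translation group with `z t` of torus type -/
theorem card_IH (hm : 1 ≤ m) {z : Sz F m} (hz : z ∈ QS hF) (hz2 : z * z = 1) (hz1 : z ≠ 1) :
    2 * {t : Sz F m | t * t = 1 ∧ t ∉ QS hF ∧ z * t ∈ TH F m}.ncard =
      (2 ^ (2 * m + 1)) ^ 2 * (2 ^ (2 * m + 1) - 2) := by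
  have hzinv : z⁻¹ = z := inv_eq_of_mul_eq_one_right hz2
  have himg : Wset z = (fun t => z * t) '' {t : Sz F m | t * t = 1 ∧ t ∉ QS hF ∧ z * t ∈ TH F m} := by
    ext h
    constructor
    · rintro ⟨hTH, hinv⟩
      refine ⟨z * h, ⟨?_, ?_, ?_⟩, ?_⟩
      · calc z * h * (z * h) = (z * h * z) * h := by group
          _ = (z * h * z⁻¹) * h := by rw [hzinv]
          _ = 1 := by rw [hinv, inv_mul_cancel]
      · intro hQ
        have h1 : h ∈ QS hF := by
          have := (QS hF).mul_mem hz hQ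
          rwa [← mul_assoc, hz2, one_mul] at this
        exact TH_pow_four hTH (pow_four_of_mem_QS hF h1)
      · rw [← mul_assoc, hz2, one_mul]; exact hTH
      · show z * (z * h) = h
        rw [← mul_assoc, hz2, one_mul]
    · rintro ⟨t, ⟨ht2, htQ, hTH⟩, rfl⟩
      refine ⟨hTH, ?_⟩
      have htinv : t⁻¹ = t := inv_eq_of_mul_eq_one_right ht2
      calc z * (z * t) * z⁻¹ = (z * z) * t * z⁻¹ := by group
        _ = t * z := by rw [hz2, one_mul, hzinv]
        _ = (z * t)⁻¹ := by rw [_root_.mul_inv_rev, htinv, hzinv]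
  have hcard : {t : Sz F m | t * t = 1 ∧ t ∉ QS hF ∧ z * t ∈ TH F m}.ncard = (Wset z).ncard := by
    rw [himg, Set.ncard_image_of_injective _ (mul_right_injective z)]
  have hdc := ncard_double_count {t : Sz F m | t ≠ 1 ∧ t * t = 1} (TH F m)
    (fun z' h => z' * h * z'⁻¹ = h⁻¹) (Wset z).ncard (2 ^ (2 * m + 1) - 1) ?_ ?_
  · rw [card_invol hF hm] at hdc
    have hTH := card_TH hF hm
    rw [hcard]
    obtain ⟨h8, _, _⟩ := tor_sizes hm
    generalize (Wset z).ncard = w at *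
    generalize (TH F m).ncard = T at *
    obtain ⟨k, hk⟩ : ∃ k, 2 ^ (2 * m + 1) = k + 8 := ⟨2 ^ (2 * m + 1) - 8, by omega⟩
    rw [hk] at hdc hTH ⊢
    have e1 : k + 8 - 1 = k + 7 := by omega
    have e2 : k + 8 - 2 = k + 6 := by omega
    rw [e1] at hdc
    rw [e2] at hTH ⊢
    have hpos : 0 < ((k + 8) ^ 2 + 1) * (k + 7) := by positivity
    apply Nat.eq_of_mul_eq_mul_left hpos
    nlinarith
  · rintro z' ⟨h1, h2⟩
    exact card_Wset_eq hF hm hz1 hz2 h1 h2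
  · intro h hh
    exact card_inverting hF hm hh

end Cfsg.Agent.Lib.Helper45.SzSol
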