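import Cfsg.Agent.Lib.Helper45.SzSol4

set_option autoImplicit false

namespace Cfsg.Agent.Lib.Helper45.SzSol

open Cfsg Matrix
open Cfsg.Agent.Lib.Helper8.Sz

variable {F : Type*} [Field F] [Fintype F] {m : ℕ}

variable (hF : Fintype.card F = 2 ^ (2 * m + 1))

include hF

/-- `a ↦ th a * a` is injective -/
theorem thmul_inj {a a' : F} (h : th m a * a = th m a' * a') : a = a' := by
  by_cases ha' : a' = 0
  · subst ha'
    rw [th_zero, zero_mul] at h
    rcases mul_eq_zero.1 h with h1 | h1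
    · exact th_eq_zero h1
    · exact h1
  · have ha : a ≠ 0 := by
      rintro rfl
      rw [th_zero, zero_mul] at h
      rcases mul_eq_zero.1 h.symm with h1 | h1
      · exact ha' (th_eq_zero h1)
      · exact ha' h1
    have h1 : th m (a / a') * (a / a') = 1 := by
      rw [th_div, div_mul_div_comm, h, div_self (mul_ne_zero (th_ne_zero ha') ha')]
    have h2 : (a / a') ^ 2 * th m (a / a') = 1 := by
      have := congrArg (th m) h1
      rw [th_mul, th_th hF, th_one] at this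
      exact this
    have h3 : a / a' = 1 := by
      calc a / a' = (a / a') * (th m (a / a') * (a / a')) := by rw [h1, mul_one]
        _ = (a / a') ^ 2 * th m (a / a') := by ring
        _ = 1 := h2
    exact (div_eq_one_iff_eq ha').1 h3

/-- the additive map `w ↦ th w + w` -/
def wp : F →+ F where
  toFun w := th m w + w
  map_zero' := by rw [th_zero, add_zero]
  map_add' a b := by rw [th_add hF]; ring

theorem wp_apply (w : F) : wp hF w = th m w + w := rfl

theorem wp_eq_zero {w : F} (h : th m w + w = 0) : w = 0 ∨ w = 1 := by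
  have h1 : th m w = w := by
    have : th m w = -w := eq_neg_of_add_eq_zero_left h
    rw [this, neg_eq hF]
  have h2 : w ^ 2 = w := by
    rw [← th_th hF, h1, h1]
  have h3 : w * (w - 1) = 0 := by rw [mul_sub, mul_one, ← pow_two, h2, sub_self]
  rcases mul_eq_zero.1 h3 with h | h
  · exact Or.inl h
  · exact Or.inr (sub_eq_zero.1 h)

theorem one_not_mem_range : (1 : F) ∉ (wp hF).range := by
  rintro ⟨w, hw⟩
  have hw' : th m w + w = 1 := hw
  have h1 : w ^ 2 + th m w = 1 := by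
    have := congrArg (th m) hw'
    rw [th_add hF, th_th hF, th_one] at this
    exact this
  have h2 : w ^ 2 + w = 0 := by
    have h3 : (w ^ 2 + th m w) + (th m w + w) = 1 + 1 := by rw [h1, hw']
    have e : (w ^ 2 + th m w) + (th m w + w) = w ^ 2 + w + (th m w + th m w) := by ring
    rw [e, add_self hF, add_self hF, add_zero] at h3
    exact h3
  have h3 : w = 0 ∨ w = 1 := by
    have h4 : w * (w + 1) = 0 := by rw [mul_add, mul_one, ← pow_two]; exact h2
    rcases mul_eq_zero.1 h4 with h | h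
    · exact Or.inl h
    · right
      have : w = -1 := eq_neg_of_add_eq_zero_left h
      rw [this, neg_eq hF]
  rcases h3 with rfl | rfl
  · rw [th_zero, add_zero] at hw'; exact zero_ne_one hw'
  · rw [th_one, add_self hF] at hw'; exact zero_ne_one hw'

theorem wp_cover (γ : F) : ∃ w : F, γ = th m w + w ∨ γ = 1 + (th m w + w) := by
  have hker : Nat.card (wp hF).ker = 2 := by
    have h1 : ((wp hF).ker : Set F) = {0, 1} := by
      ext w
      constructor
      · intro hw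
        rcases wp_eq_zero hF ((AddMonoidHom.mem_ker).1 hw) with h | h
        · exact Or.inl h
        · exact Or.inr h
      · rintro (rfl | rfl)
        · exact (AddMonoidHom.mem_ker).2 (by rw [wp_apply, th_zero, add_zero])
        · exact (AddMonoidHom.mem_ker).2 (by rw [wp_apply, th_one, add_self hF])
    have h2 : Nat.card (wp hF).ker = ((wp hF).ker : Set F).ncard := Nat.card_coe_set_eq _
    rw [h2, h1, Set.ncard_pair zero_ne_one]
  have hcF : Nat.card F = 2 ^ (2 * m + 1) := by rw [Nat.card_eq_fintype_card, hF]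
  have h3 := AddSubgroup.card_mul_index (wp hF).ker
  rw [hker, AddSubgroup.index_ker, hcF] at h3
  have h4 := AddSubgroup.card_mul_index (wp hF).range
  rw [hcF, ← h3] at h4
  have hpos : 0 < Nat.card (wp hF).range := Nat.card_pos
  have hidx : (wp hF).range.index = 2 := by
    have h5 : Nat.card (wp hF).range * (wp hF).range.index = Nat.card (wp hF).range * 2 := by
      rw [h4, mul_comm]
    exact Nat.eq_of_mul_eq_mul_left hpos h5
  obtain ⟨a, ha, hall⟩ := AddSubgroup.index_eq_two_iff_exists_notMem_and.1 hidx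
  have h1a : 1 + a ∈ (wp hF).range := (hall 1).resolve_right (one_not_mem_range hF)
  rcases hall γ with h | h
  · have h6 : γ + 1 ∈ (wp hF).range := by
      have h7 := (wp hF).range.add_mem h h1a
      have e : γ + a + (1 + a) = γ + 1 + (a + a) := by ring
      rwa [e, add_self hF, add_zero] at h7
    obtain ⟨w, hw⟩ := h6
    refine ⟨w, Or.inr ?_⟩
    have hw' : th m w + w = γ + 1 := hw
    rw [hw']
    have e : (1 : F) + (γ + 1) = γ + (1 + 1) := by ring
    rw [e, add_self hF, add_zero]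
  · obtain ⟨w, hw⟩ := h
    exact ⟨w, Or.inl hw.symm⟩

theorem TS_conj_TS (u v a b : F) :
    TS hF u v * TS hF a b * (TS hF u v)⁻¹ = TS hF a (b + th m u * a + th m a * u) := by
  rw [TS_inv, TS_mul, TS_mul, th_add hF]
  have e1 : u + a + u = a := by rw [add_comm u a, add_assoc, add_self hF, add_zero]
  have e2 : v + b + th m u * a + (v + th m u * u) + (th m u + th m a) * u =
      b + th m u * a + th m a * u := by
    linear_combination add_self hF v + add_self hF (th m u * u)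
  rw [e1, e2]

theorem sqrt_conj {a b b' : F} (ha : a ≠ 0) :
    ∃ u v : F, TS hF a b' = TS hF u v * TS hF a b * (TS hF u v)⁻¹ ∨
      TS hF a b' = TS hF u v * (TS hF a b)⁻¹ * (TS hF u v)⁻¹ := by
  have hN : th m a * a ≠ 0 := mul_ne_zero (th_ne_zero ha) ha
  obtain ⟨w, hw | hw⟩ := wp_cover hF ((b' + b) / (th m a * a))
  · refine ⟨a * w, 0, Or.inl ?_⟩
    rw [TS_conj_TS, th_mul]
    have h1 : b' + b = (th m a * a) * (th m w + w) := by
      rw [← hw, mul_comm, div_mul_cancel₀ _ hN]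
    congr 1
    linear_combination h1 - add_self hF b
  · refine ⟨a * w, 0, Or.inr ?_⟩
    rw [TS_inv, TS_conj_TS, th_mul]
    have h1 : b' + b = (th m a * a) * (1 + (th m w + w)) := by
      rw [← hw, mul_comm, div_mul_cancel₀ _ hN]
    congr 1
    linear_combination h1 - add_self hF b

/-- the square roots of a central involution -/
theorem sqrt_form (hm : 1 ≤ m) {b₀ : F} (hb₀ : b₀ ≠ 0) :
    ∃ α₀ : F, α₀ ≠ 0 ∧ ∀ x' : Sz F m, x' * x' = TS hF 0 b₀ ↔ ∃ β, x' = TS hF α₀ β := by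
  obtain ⟨α₀, hα₀⟩ := exists_th_mul hF b₀
  have hα₀0 : α₀ ≠ 0 := by
    rintro rfl
    rw [mul_zero] at hα₀
    exact hb₀ hα₀.symm
  refine ⟨α₀, hα₀0, fun x' => ⟨fun h => ?_, ?_⟩⟩
  · have hz : TS hF 0 b₀ ∈ QS hF := ⟨0, b₀, rfl⟩
    have hz1 : TS hF 0 b₀ ≠ 1 := (TS_ne_one_iff hF).2 (fun h => hb₀ h.2)
    have hc : x' * TS hF 0 b₀ = TS hF 0 b₀ * x' := by rw [← h, mul_assoc]
    have hB := mem_Bsub_of_comm hF hz hz1 hc
    have h4 : x' ^ 4 = 1 := by rw [pow_four_eq, h, TS_center_sq]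
    obtain ⟨α, β, rfl⟩ := mem_QS_of_mem_Bsub hF hm hB h4
    rw [TS_sq] at h
    have h5 := (TS_inj hF h).2
    rw [← hα₀] at h5
    have h6 := thmul_inj hF h5
    exact ⟨β, by rw [h6]⟩
  · rintro ⟨β, rfl⟩
    rw [TS_sq, hα₀]

theorem card_sqrt (hm : 1 ≤ m) {z : Sz F m} (hz : z ∈ QS hF) (hz2 : z * z = 1) (hz1 : z ≠ 1) :
    {x' : Sz F m | x' * x' = z}.ncard = 2 ^ (2 * m + 1) := by
  obtain ⟨b₀, hb₀, rfl⟩ := involution_Bsub hF hm (QS_le_Bsub hF hz) hz1 hz2
  obtain ⟨α₀, _, hall⟩ := sqrt_form hF hm hb₀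
  have hset : {x' : Sz F m | x' * x' = TS hF 0 b₀} = Set.range (fun β : F => TS hF α₀ β) := by
    ext x'
    constructor
    · intro h
      obtain ⟨β, hβ⟩ := (hall x').1 h
      exact ⟨β, hβ.symm⟩
    · rintro ⟨β, rfl⟩
      exact (hall _).2 ⟨β, rfl⟩
  rw [hset, Set.ncard_range_of_injective, Nat.card_eq_fintype_card, hF]
  intro β β' h
  exact (TS_inj hF h).2

theorem JH_empty (hm : 1 ≤ m) {x z : Sz F m} (hxz : x * x = z) (hz1 : z ≠ 1) (hz2 : z * z = 1) :
    {t | t ∈ Jset hF z x ∧ z * t ∈ TH F m} = ∅ := by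
  ext t
  constructor
  · rintro ⟨⟨ht2, htQ, hxN⟩, hTH⟩
    exfalso
    have hU := isTor_of_TH hF hm hTH
    rcases hU.1.mem_or_sq hF hm hU.2 hxN with h | h
    · have hx4 : x ^ 4 = 1 := by rw [pow_four_eq, hxz, hz2]
      have h1 := hU.1.eq_one_of_pow_four h hx4
      rw [h1, mul_one] at hxz
      exact hz1 hxz.symm
    · rw [pow_two, hxz] at h
      exact hz1 h
  · intro h
    exact absurd h (Set.notMem_empty t)

theorem JX_conj_mem {z x c t : Sz F m} (hc : c ∈ QS hF) (hcz : c * z = z * c)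
    (ht : t ∈ Jset hF z x ∧ z * t ∈ TX F m) :
    c * t * c⁻¹ ∈ Jset hF z (c * x * c⁻¹) ∧ z * (c * t * c⁻¹) ∈ TX F m := by
  obtain ⟨⟨ht2, htQ, hxN⟩, hTX⟩ := ht
  have e : z * (c * t * c⁻¹) = c * (z * t) * c⁻¹ := by
    calc z * (c * t * c⁻¹) = (z * c) * t * c⁻¹ := by group
      _ = (c * z) * t * c⁻¹ := by rw [hcz]
      _ = c * (z * t) * c⁻¹ := by group
  refine ⟨⟨?_, ?_, ?_⟩, ?_⟩
  · calc c * t * c⁻¹ * (c * t * c⁻¹) = c * (t * t) * c⁻¹ := by group
      _ = 1 := by rw [ht2]; group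
  · intro h
    apply htQ
    have h1 := (QS hF).mul_mem ((QS hF).mul_mem ((QS hF).inv_mem hc) h) hc
    have e2 : c⁻¹ * (c * t * c⁻¹) * c = t := by group
    rwa [e2] at h1
  · rw [e, conj_mem_normalizer_centralizer]; exact hxN
  · rw [e, TX_conj_iff]; exact hTX

theorem JX_conj {z x c : Sz F m} (hc : c ∈ QS hF) (hcz : c * z = z * c) :
    {t | t ∈ Jset hF z (c * x * c⁻¹) ∧ z * t ∈ TX F m}.ncard =
      {t | t ∈ Jset hF z x ∧ z * t ∈ TX F m}.ncard := by
  have hset : {t | t ∈ Jset hF z (c * x * c⁻¹) ∧ z * t ∈ TX F m} =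
      (fun t => c * t * c⁻¹) '' {t | t ∈ Jset hF z x ∧ z * t ∈ TX F m} := by
    ext t'
    constructor
    · intro h
      have hc' : c⁻¹ ∈ QS hF := (QS hF).inv_mem hc
      have hcz' : c⁻¹ * z = z * c⁻¹ := by
        calc c⁻¹ * z = c⁻¹ * (z * c) * c⁻¹ := by group
          _ = c⁻¹ * (c * z) * c⁻¹ := by rw [hcz]
          _ = z * c⁻¹ := by group
      have h1 := JX_conj_mem hF hc' hcz' h
      have e1 : c⁻¹ * (c * x * c⁻¹) * c⁻¹⁻¹ = x := by group
      rw [e1] at h1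
      refine ⟨c⁻¹ * t' * c⁻¹⁻¹, h1, ?_⟩
      show c * (c⁻¹ * t' * c⁻¹⁻¹) * c⁻¹ = t'
      group
    · rintro ⟨t, ht, rfl⟩
      exact JX_conj_mem hF hc hcz ht
  rw [hset, Set.ncard_image_of_injective _ (conj_injective c)]

theorem JX_inv {z x : Sz F m} :
    {t | t ∈ Jset hF z x⁻¹ ∧ z * t ∈ TX F m} = {t | t ∈ Jset hF z x ∧ z * t ∈ TX F m} := by
  ext t
  constructor
  · rintro ⟨⟨h1, h2, h3⟩, h4⟩
    exact ⟨⟨h1, h2, (Subgroup.inv_mem_iff _).1 h3⟩, h4⟩
  · rintro ⟨⟨h1, h2, h3⟩, h4⟩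
    exact ⟨⟨h1, h2, (Subgroup.inv_mem_iff _).2 h3⟩, h4⟩

/-- the square roots of `z` in the normaliser of a torus of type `TX` inverted by `z` -/
theorem card_sqrt_norm (hm : 1 ≤ m) {z t : Sz F m} (hz : z ∈ QS hF) (hz2 : z * z = 1)
    (hz1 : z ≠ 1) (ht2 : t * t = 1) (htQ : t ∉ QS hF) (hTX : z * t ∈ TX F m) :
    {x' : Sz F m | x' ∈ {x' : Sz F m | x' * x' = z} ∧
      x' ∈ Subgroup.normalizer (Subgroup.centralizer ({z * t} : Set (Sz F m)) :
        Set (Sz F m))}.ncard = 2 := by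
  have hU := isTor_of_TX hF hm hTX
  have hzN : z ∈ Subgroup.normalizer (Subgroup.centralizer ({z * t} : Set (Sz F m)) :
      Set (Sz F m)) := z_mem_norm hz2 ht2
  have hD := card_Dsub hF hm hU hzN hz2 hz1
  obtain ⟨h8, h4', hlt⟩ := tor_sizes hm
  have hD4 : Nat.card (Dsub z (Subgroup.centralizer ({z * t} : Set (Sz F m)))) = 4 := by
    rcases hU.card_normalizer hF hm with ⟨hc, hN⟩ | ⟨hc, hN⟩
    · exfalso
      rcases card_centralizer_TX hF hm hTX with h | h <;> omega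
    · rw [hN] at hD; exact Nat.eq_of_mul_eq_mul_right Nat.card_pos hD
  have hzD : z ∈ Dsub z (Subgroup.centralizer ({z * t} : Set (Sz F m))) :=
    Subgroup.mem_inf.2 ⟨Subgroup.mem_centralizer_iff.2 (by rintro h (rfl : h = z); rfl), hzN⟩
  have hset : {x' : Sz F m | x' ∈ {x' : Sz F m | x' * x' = z} ∧
      x' ∈ Subgroup.normalizer (Subgroup.centralizer ({z * t} : Set (Sz F m)) :
        Set (Sz F m))} =
      ((Dsub z (Subgroup.centralizer ({z * t} : Set (Sz F m))) : Subgroup (Sz F m)) :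
        Set (Sz F m)) \ {1, z} := by
    ext x'
    constructor
    · rintro ⟨hx, hxN⟩
      have hx' : x' * x' = z := hx
      refine ⟨Subgroup.mem_inf.2 ⟨?_, hxN⟩, ?_⟩
      · rw [Subgroup.mem_centralizer_iff]
        rintro h (rfl : h = z)
        rw [← hx', mul_assoc]
      · rintro (rfl | rfl)
        · rw [mul_one] at hx'; exact hz1 hx'.symm
        · rw [hz2] at hx'; exact hz1 hx'.symm
    · rintro ⟨hxD, hne⟩
      have hx1 : x' ≠ 1 := fun h => hne (Or.inl h)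
      have hxz : x' ≠ z := fun h => hne (Or.inr h)
      have hxC : x' * z = z * x' :=
        ((Subgroup.mem_centralizer_iff.1 (Subgroup.mem_inf.1 hxD).1) z rfl).symm
      have hxN := (Subgroup.mem_inf.1 hxD).2
      have hx4 := pow_four_of_comm_invol hF hm hz2 hz1 hxC
      have hxx : x' * x' ≠ 1 := fun h => hxz (invol_unique hF hm hU hzN hxN hz2 h hz1 hx1 hxC)
      refine ⟨?_, hxN⟩
      show x' * x' = z
      refine invol_unique hF hm hU hzN (Subgroup.mul_mem _ hxN hxN) hz2 ?_ hz1 hxx ?_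
      · rw [← pow_four_eq, hx4]
      · calc x' * x' * z = x' * (x' * z) := by group
          _ = x' * (z * x') := by rw [hxC]
          _ = (x' * z) * x' := by group
          _ = z * x' * x' := by rw [hxC]
          _ = z * (x' * x') := by group
  have hsub : ({1, z} : Set (Sz F m)) ⊆
      ((Dsub z (Subgroup.centralizer ({z * t} : Set (Sz F m))) : Subgroup (Sz F m)) :
        Set (Sz F m)) := by
    rintro w (rfl | rfl)
    · exact Subgroup.one_mem _
    · exact hzD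
  have e : ((Dsub z (Subgroup.centralizer ({z * t} : Set (Sz F m))) : Subgroup (Sz F m)) :
      Set (Sz F m)).ncard = 4 := (Nat.card_coe_set_eq _).symm.trans hD4
  rw [hset, Set.ncard_sdiff hsub (Set.toFinite _), e, Set.ncard_pair (Ne.symm hz1)]

/-- the number of fibres for an element of order `4` -/
theorem card_JX (hm : 1 ≤ m) {x z : Sz F m} (hx : x ∈ QS hF) (hxz : x * x = z) (hz1 : z ≠ 1)
    (hz2 : z * z = 1) (hz : z ∈ QS hF) :
    {t | t ∈ Jset hF z x ∧ z * t ∈ TX F m}.ncard = (2 ^ (2 * m + 1)) ^ 2 := by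
  obtain ⟨b₀, hb₀, rfl⟩ := involution_Bsub hF hm (QS_le_Bsub hF hz) hz1 hz2
  obtain ⟨α₀, hα₀, hall⟩ := sqrt_form hF hm hb₀
  have hdc := ncard_double_count {x' : Sz F m | x' * x' = TS hF 0 b₀}
    {t : Sz F m | t * t = 1 ∧ t ∉ QS hF ∧ TS hF 0 b₀ * t ∈ TX F m}
    (fun x' t => x' ∈ Subgroup.normalizer (Subgroup.centralizer ({TS hF 0 b₀ * t} :
      Set (Sz F m)) : Set (Sz F m)))
    {t | t ∈ Jset hF (TS hF 0 b₀) x ∧ TS hF 0 b₀ * t ∈ TX F m}.ncard 2 ?_ ?_
  · rw [card_sqrt hF hm hz hz2 hz1] at hdc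
    have hI := card_Iprime hF hm
    have hH := card_IH hF hm hz hz2 hz1
    have hsplit : {t : Sz F m | t * t = 1 ∧ t ∉ QS hF} =
        {t : Sz F m | t * t = 1 ∧ t ∉ QS hF ∧ TS hF 0 b₀ * t ∈ TH F m} ∪
        {t : Sz F m | t * t = 1 ∧ t ∉ QS hF ∧ TS hF 0 b₀ * t ∈ TX F m} := by
      ext t
      constructor
      · rintro ⟨h1, h2⟩
        rcases ss_cases hF hm (zt_pow_four hF hm hz hz2 hz1 h1 h2) with h | h
        · exact Or.inl ⟨h1, h2, h⟩
        · exact Or.inr ⟨h1, h2, h⟩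
      · rintro (⟨h1, h2, _⟩ | ⟨h1, h2, _⟩)
        · exact ⟨h1, h2⟩
        · exact ⟨h1, h2⟩
    have hdisj : Disjoint {t : Sz F m | t * t = 1 ∧ t ∉ QS hF ∧ TS hF 0 b₀ * t ∈ TH F m}
        {t : Sz F m | t * t = 1 ∧ t ∉ QS hF ∧ TS hF 0 b₀ * t ∈ TX F m} := by
      rw [Set.disjoint_left]
      rintro t ⟨_, _, h⟩ ⟨_, _, h'⟩
      exact TH_not_TX h h'
    rw [hsplit, Set.ncard_union_eq hdisj (Set.toFinite _) (Set.toFinite _)] at hI
    obtain ⟨h8, _, _⟩ := tor_sizes hm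
    generalize {t | t ∈ Jset hF (TS hF 0 b₀) x ∧ TS hF 0 b₀ * t ∈ TX F m}.ncard = w at *
    generalize {t : Sz F m | t * t = 1 ∧ t ∉ QS hF ∧ TS hF 0 b₀ * t ∈ TX F m}.ncard = T at *
    generalize {t : Sz F m | t * t = 1 ∧ t ∉ QS hF ∧ TS hF 0 b₀ * t ∈ TH F m}.ncard = H at *
    obtain ⟨k, hk⟩ : ∃ k, 2 ^ (2 * m + 1) = k + 8 := ⟨2 ^ (2 * m + 1) - 8, by omega⟩
    rw [hk] at hdc hI hH ⊢
    have e1 : k + 8 - 1 = k + 7 := by omega
    have e2 : k + 8 - 2 = k + 6 := by omega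
    rw [e1] at hI
    rw [e2] at hH
    have hpos : 0 < k + 8 := by omega
    apply Nat.eq_of_mul_eq_mul_left hpos
    nlinarith
  · intro x' hx'
    have hset : {t | t ∈ {t : Sz F m | t * t = 1 ∧ t ∉ QS hF ∧ TS hF 0 b₀ * t ∈ TX F m} ∧
        x' ∈ Subgroup.normalizer (Subgroup.centralizer ({TS hF 0 b₀ * t} : Set (Sz F m)) :
          Set (Sz F m))} = {t | t ∈ Jset hF (TS hF 0 b₀) x' ∧ TS hF 0 b₀ * t ∈ TX F m} := by
      ext t
      constructor
      · rintro ⟨⟨h1, h2, h3⟩, h4⟩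
        exact ⟨⟨h1, h2, h4⟩, h3⟩
      · rintro ⟨⟨h1, h2, h4⟩, h3⟩
        exact ⟨⟨h1, h2, h3⟩, h4⟩
    rw [hset]
    obtain ⟨β', rfl⟩ := (hall x').1 hx'
    obtain ⟨β, rfl⟩ := (hall x).1 hxz
    obtain ⟨u, v, h | h⟩ := sqrt_conj hF (b := β) (b' := β') hα₀
    · rw [h]
      exact JX_conj hF ⟨u, v, rfl⟩ (TS_center_comm hF b₀ u v).symm
    · rw [h, JX_conj hF ⟨u, v, rfl⟩ (TS_center_comm hF b₀ u v).symm, JX_inv]
  · rintro t ⟨ht2, htQ, hTX⟩
    exact card_sqrt_norm hF hm hz hz2 hz1 ht2 htQ hTX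

end Cfsg.Agent.Lib.Helper45.SzSol
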