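import Cfsg.Agent.Lib.Helper45.SzSol5

set_option autoImplicit false

namespace Cfsg.Agent.Lib.Helper45.SzSol

open Cfsg Matrix
open Cfsg.Agent.Lib.Helper8.Sz

variable {F : Type*} [Field F] [Fintype F] {m : ℕ}

omit [Fintype F] in
theorem closure_conj (c x y : Sz F m) :
    Subgroup.closure ({c * x * c⁻¹, c * y * c⁻¹} : Set (Sz F m)) =
      (Subgroup.closure ({x, y} : Set (Sz F m))).map (MulAut.conj c).toMonoidHom := by
  rw [MonoidHom.map_closure, Set.image_pair]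
  rfl

omit [Fintype F] in
theorem closure_conj_eq_top_iff (c x y : Sz F m) :
    Subgroup.closure ({c * x * c⁻¹, c * y * c⁻¹} : Set (Sz F m)) = ⊤ ↔
      Subgroup.closure ({x, y} : Set (Sz F m)) = ⊤ := by
  rw [closure_conj]
  constructor
  · intro h
    apply Subgroup.map_injective (f := (MulAut.conj c).toMonoidHom) (MulAut.conj c).injective
    rw [h, Subgroup.map_top_of_surjective _ (MulAut.conj c).surjective]
  · intro h
    rw [h, Subgroup.map_top_of_surjective _ (MulAut.conj c).surjective]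

omit [Fintype F] in
theorem Sol_conj (c x : Sz F m) : Sol (c * x * c⁻¹) = (fun y => c * y * c⁻¹) '' Sol x := by
  ext y'
  constructor
  · intro h
    refine ⟨c⁻¹ * y' * c, ?_, by group⟩
    intro h2
    apply h
    have e : y' = c * (c⁻¹ * y' * c) * c⁻¹ := by group
    rw [e, closure_conj_eq_top_iff]
    exact h2
  · rintro ⟨y, hy, rfl⟩
    intro h2
    exact hy ((closure_conj_eq_top_iff c x y).1 h2)

omit [Fintype F] in
theorem card_Sol_conj (c x : Sz F m) : (Sol (c * x * c⁻¹)).ncard = (Sol x).ncard := by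
  rw [Sol_conj, Set.ncard_image_of_injective _ (conj_injective c)]

variable (hF : Fintype.card F = 2 ^ (2 * m + 1))

include hF

theorem card_IX (hm : 1 ≤ m) {z : Sz F m} (hz : z ∈ QS hF) (hz2 : z * z = 1) (hz1 : z ≠ 1) :
    2 * {t : Sz F m | t * t = 1 ∧ t ∉ QS hF ∧ z * t ∈ TX F m}.ncard =
      (2 ^ (2 * m + 1)) ^ 3 := by
  have hI := card_Iprime hF hm
  have hH := card_IH hF hm hz hz2 hz1
  have hsplit : {t : Sz F m | t * t = 1 ∧ t ∉ QS hF} =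
      {t : Sz F m | t * t = 1 ∧ t ∉ QS hF ∧ z * t ∈ TH F m} ∪
      {t : Sz F m | t * t = 1 ∧ t ∉ QS hF ∧ z * t ∈ TX F m} := by
    ext t
    constructor
    · rintro ⟨h1, h2⟩
      rcases ss_cases hF hm (zt_pow_four hF hm hz hz2 hz1 h1 h2) with h | h
      · exact Or.inl ⟨h1, h2, h⟩
      · exact Or.inr ⟨h1, h2, h⟩
    · rintro (⟨h1, h2, _⟩ | ⟨h1, h2, _⟩)
      · exact ⟨h1, h2⟩
      · exact ⟨h1, h2⟩
  have hdisj : Disjoint {t : Sz F m | t * t = 1 ∧ t ∉ QS hF ∧ z * t ∈ TH F m}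
      {t : Sz F m | t * t = 1 ∧ t ∉ QS hF ∧ z * t ∈ TX F m} := by
    rw [Set.disjoint_left]
    rintro t ⟨_, _, h⟩ ⟨_, _, h'⟩
    exact TH_not_TX h h'
  rw [hsplit, Set.ncard_union_eq hdisj (Set.toFinite _) (Set.toFinite _)] at hI
  obtain ⟨h8, _, _⟩ := tor_sizes hm
  generalize {t : Sz F m | t * t = 1 ∧ t ∉ QS hF ∧ z * t ∈ TX F m}.ncard = T at *
  generalize {t : Sz F m | t * t = 1 ∧ t ∉ QS hF ∧ z * t ∈ TH F m}.ncard = H at *
  obtain ⟨k, hk⟩ : ∃ k, 2 ^ (2 * m + 1) = k + 8 := ⟨2 ^ (2 * m + 1) - 8, by omega⟩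
  rw [hk] at hI hH ⊢
  have e1 : k + 8 - 1 = k + 7 := by omega
  have e2 : k + 8 - 2 = k + 6 := by omega
  rw [e1] at hI
  rw [e2] at hH
  nlinarith

/-- the solubilizer-type set of an involution -/
theorem card_Sol_invol (hm : 1 ≤ m) (hS : Struct F m) {x : Sz F m} (hx1 : x ≠ 1)
    (hx2 : x * x = 1) :
    (Sol x).ncard = (2 ^ (2 * m + 1)) ^ 2 * (4 * 2 ^ (2 * m + 1) - 3) := by
  obtain ⟨c, b, hb, rfl⟩ := involution_conj hF hm hx1 hx2
  rw [card_Sol_conj]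
  have hz : TS hF 0 b ∈ QS hF := ⟨0, b, rfl⟩
  have hz1 : TS hF 0 b ≠ 1 := (TS_ne_one_iff hF).2 (fun h => hb h.2)
  have hz2 : TS hF 0 b * TS hF 0 b = 1 := TS_center_sq hF b
  have hcs := card_Sol hF hm hS hz hz1 hz hz2 hz1 (Subgroup.mem_zpowers _)
  have hsetH : {t | t ∈ Jset hF (TS hF 0 b) (TS hF 0 b) ∧ TS hF 0 b * t ∈ TH F m} =
      {t : Sz F m | t * t = 1 ∧ t ∉ QS hF ∧ TS hF 0 b * t ∈ TH F m} := by
    ext t
    constructor
    · rintro ⟨⟨h1, h2, _⟩, h3⟩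
      exact ⟨h1, h2, h3⟩
    · rintro ⟨h1, h2, h3⟩
      exact ⟨⟨h1, h2, z_mem_norm hz2 h1⟩, h3⟩
  have hsetX : {t | t ∈ Jset hF (TS hF 0 b) (TS hF 0 b) ∧ TS hF 0 b * t ∈ TX F m} =
      {t : Sz F m | t * t = 1 ∧ t ∉ QS hF ∧ TS hF 0 b * t ∈ TX F m} := by
    ext t
    constructor
    · rintro ⟨⟨h1, h2, _⟩, h3⟩
      exact ⟨h1, h2, h3⟩
    · rintro ⟨h1, h2, h3⟩
      exact ⟨⟨h1, h2, z_mem_norm hz2 h1⟩, h3⟩
  rw [hsetH, hsetX] at hcs
  have hH := card_IH hF hm hz hz2 hz1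
  have hX := card_IX hF hm hz hz2 hz1
  rw [hcs]
  obtain ⟨h8, _, _⟩ := tor_sizes hm
  generalize {t : Sz F m | t * t = 1 ∧ t ∉ QS hF ∧ TS hF 0 b * t ∈ TX F m}.ncard = T at *
  generalize {t : Sz F m | t * t = 1 ∧ t ∉ QS hF ∧ TS hF 0 b * t ∈ TH F m}.ncard = H at *
  obtain ⟨k, hk⟩ : ∃ k, 2 ^ (2 * m + 1) = k + 8 := ⟨2 ^ (2 * m + 1) - 8, by omega⟩
  rw [hk] at hH hX ⊢
  have e1 : k + 8 - 1 = k + 7 := by omega
  have e2 : k + 8 - 2 = k + 6 := by omega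
  have e3 : 4 * (k + 8) - 3 = 4 * k + 29 := by omega
  rw [e2] at hH
  rw [e1, e3]
  nlinarith

/-- the solubilizer-type set of an element of order `4` -/
theorem card_Sol_four (hm : 1 ≤ m) (hS : Struct F m) {x : Sz F m} (hx4 : x ^ 4 = 1)
    (hx2 : x * x ≠ 1) :
    (Sol x).ncard = (2 ^ (2 * m + 1)) ^ 2 * (2 ^ (2 * m + 1) + 3) := by
  have hx1 : x ≠ 1 := by rintro rfl; exact hx2 (mul_one 1)
  obtain ⟨c, a, b, hab, rfl⟩ := two_conj hF hm hx1 hx4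
  rw [card_Sol_conj]
  have hx : TS hF a b ∈ QS hF := ⟨a, b, rfl⟩
  have hx1' : TS hF a b ≠ 1 := (TS_ne_one_iff hF).2 hab
  have hxx : TS hF a b * TS hF a b ≠ 1 := by
    intro h
    apply hx2
    calc c * TS hF a b * c⁻¹ * (c * TS hF a b * c⁻¹)
        = c * (TS hF a b * TS hF a b) * c⁻¹ := by group
      _ = 1 := by rw [h]; group
  have hz : TS hF a b * TS hF a b ∈ QS hF := (QS hF).mul_mem hx hx
  have hz2 : (TS hF a b * TS hF a b) * (TS hF a b * TS hF a b) = 1 := by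
    rw [← pow_four_eq, TS_pow_four]
  have hzx : TS hF a b * TS hF a b ∈ Subgroup.zpowers (TS hF a b) :=
    (Subgroup.zpowers _).mul_mem (Subgroup.mem_zpowers _) (Subgroup.mem_zpowers _)
  rw [card_Sol hF hm hS hx hx1' hz hz2 hxx hzx, JH_empty hF hm rfl hxx hz2,
    card_JX hF hm hx rfl hxx hz2 hz, Set.ncard_empty]
  obtain ⟨h8, _, _⟩ := tor_sizes hm
  obtain ⟨k, hk⟩ : ∃ k, 2 ^ (2 * m + 1) = k + 8 := ⟨2 ^ (2 * m + 1) - 8, by omega⟩
  rw [hk]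
  have e1 : k + 8 - 1 = k + 7 := by omega
  rw [e1]
  ring

end Cfsg.Agent.Lib.Helper45.SzSol
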