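import Cfsg.Agent.Lib.Helper45.SzSol6

set_option autoImplicit false

namespace Cfsg.Agent.Lib.Helper45.SzSol

open Cfsg Matrix
open Cfsg.Agent.Lib.Helper8.Sz

variable {F : Type*} [Field F] [Fintype F] {m : ℕ}

theorem coprime_Bsub_card (m : ℕ) :
    Nat.Coprime ((2 ^ (2 * m + 1)) ^ 2 * (2 ^ (2 * m + 1) - 1)) ((2 ^ (2 * m + 1)) ^ 2 + 1) := by
  apply Nat.Coprime.mul_left
  · simp
  · exact coprime_sub_one_sq_add_one

variable (hF : Fintype.card F = 2 ^ (2 * m + 1))

include hF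

/-- elements of `TX` lie in no conjugate of the point stabiliser -/
theorem TX_not_conj_Bsub (hm : 1 ≤ m) {x c : Sz F m} (hx : x ∈ TX F m) :
    c⁻¹ * x * c ∉ Bsub F m := by
  intro h
  have h1 : (c⁻¹ * x * c) ^ Nat.card (Bsub F m) = 1 := pow_card_eq_one_of_mem (Bsub F m) h
  rw [card_stab_inf hm hF] at h1
  have h2 : (c⁻¹ * x * c) ^ ((2 ^ (2 * m + 1)) ^ 2 + 1) = 1 := by
    have e : c⁻¹ * x * c = c⁻¹ * x * c⁻¹⁻¹ := by rw [inv_inv]
    rw [e, conj_pow, hx.2]; group
  have h3 := eq_one_of_pow_coprime (coprime_Bsub_card m) h1 h2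
  apply hx.1
  calc x = c * (c⁻¹ * x * c) * c⁻¹ := by group
    _ = 1 := by rw [h3]; group

theorem Sol_TX (hm : 1 ≤ m) (hS : Struct F m) {x : Sz F m} (hx : x ∈ TX F m) :
    Sol x = ((Subgroup.normalizer (Subgroup.centralizer ({x} : Set (Sz F m)) :
      Set (Sz F m)) : Subgroup (Sz F m)) : Set (Sz F m)) := by
  have hU := isTor_of_TX hF hm hx
  have hxU : x ∈ Subgroup.centralizer ({x} : Set (Sz F m)) :=
    Subgroup.mem_centralizer_iff.2 (by rintro h (rfl : h = x); rfl)
  ext y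
  constructor
  · intro hy
    have hxM : x ∈ Subgroup.closure ({x, y} : Set (Sz F m)) :=
      Subgroup.subset_closure (Set.mem_insert _ _)
    have hyM : y ∈ Subgroup.closure ({x, y} : Set (Sz F m)) :=
      Subgroup.subset_closure (Set.mem_insert_of_mem _ rfl)
    rcases hS _ hy with ⟨c, hc⟩ | ⟨U, hU', hMU⟩
    · exact absurd (hc x hxM) (TX_not_conj_Bsub hF hm hx)
    · have hxN := hMU hxM
      rcases hU'.mem_or_pow_four hF hm hxN with h | h
      · have hUC := (hU'.eq_centralizer hF hm h hx.1).2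
        rw [← hUC]; exact hMU hyM
      · exact absurd h (TX_pow_four hx)
  · intro hy h
    apply normalizer_tor_ne_top hF hm hU
    rw [eq_top_iff, ← h, Subgroup.closure_le]
    rintro w (rfl | rfl)
    · exact Subgroup.le_normalizer hxU
    · exact hy

/-- the solubilizer-type set of an element of order dividing `q ^ 2 + 1` -/
theorem card_Sol_TX (hm : 1 ≤ m) (hS : Struct F m) {x : Sz F m} (hx : x ∈ TX F m) :
    (Sol x).ncard = 4 * Nat.card (Subgroup.centralizer ({x} : Set (Sz F m))) := by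
  rw [Sol_TX hF hm hS hx, ← TX_normalizer_card_eq hF hm hx]
  exact (Nat.card_coe_set_eq _).symm

theorem HS_mem_TH {s : Fˣ} (hs : s ≠ 1) : HS hF s ∈ TH F m :=
  ⟨HS_ne_one hF hs, HS_pow_card hF s⟩

theorem wS_not_mem_Bsub : wS hF ∉ Bsub F m := by
  intro h1
  rw [mem_Bsub_iff, wS_val, wg_smul_Pinf (m := m)] at h1
  exact Paff_ne_Pinf _ _ h1

theorem Sol_TH (hm : 1 ≤ m) (hS : Struct F m) {s : Fˣ} (hs : s ≠ 1) :
    Sol (HS hF s) = ((Bsub F m : Set (Sz F m)) ∪
      (((Bsub F m).map (MulAut.conj (wS hF)).toMonoidHom : Subgroup (Sz F m)) :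
        Set (Sz F m))) ∪ (NSub hF : Set (Sz F m)) := by
  have hTH := HS_mem_TH hF hs
  have hC := centralizer_HS hF hm hs
  have hU : IsTor F m (HSub hF) := by rw [← hC]; exact (isTor_of_TH hF hm hTH).1
  ext y
  constructor
  · intro hy
    have hxM : HS hF s ∈ Subgroup.closure ({HS hF s, y} : Set (Sz F m)) :=
      Subgroup.subset_closure (Set.mem_insert _ _)
    have hyM : y ∈ Subgroup.closure ({HS hF s, y} : Set (Sz F m)) :=
      Subgroup.subset_closure (Set.mem_insert_of_mem _ rfl)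
    rcases hS _ hy with ⟨c, hc⟩ | ⟨U, hU', hMU⟩
    · left
      have h1 : (c⁻¹ * HS hF s * c) • Pinf F = Pinf F := hc _ hxM
      rw [mul_smul, mul_smul, inv_smul_eq_iff] at h1
      have hp : c • Pinf F ∈ suzukiOvoid F m := smul_mem_of_mem_Sz c.2 Pinf_mem
      have h2 : Hg m s • (c • Pinf F) = c • Pinf F := h1
      rcases HS_fix hF hm hs hp h2 with h | h
      · left
        have hcB : c ∈ Bsub F m := h
        have e : y = c * (c⁻¹ * y * c) * c⁻¹ := by group
        rw [e]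
        exact (Bsub F m).mul_mem ((Bsub F m).mul_mem hcB (hc y hyM)) ((Bsub F m).inv_mem hcB)
      · right
        have hb : (wS hF)⁻¹ * c ∈ Bsub F m := by
          show ((wS hF)⁻¹ * c) • Pinf F = Pinf F
          rw [mul_smul, h, wS_inv]
          exact wg_smul_zero
        refine ⟨(wS hF)⁻¹ * y * wS hF, ?_, ?_⟩
        · have e : (wS hF)⁻¹ * y * wS hF =
              ((wS hF)⁻¹ * c) * (c⁻¹ * y * c) * ((wS hF)⁻¹ * c)⁻¹ := by group
          rw [e]
          exact (Bsub F m).mul_mem ((Bsub F m).mul_mem hb (hc y hyM)) ((Bsub F m).inv_mem hb)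
        · show wS hF * ((wS hF)⁻¹ * y * wS hF) * (wS hF)⁻¹ = y
          group
    · right
      have hxN := hMU hxM
      rcases hU'.mem_or_pow_four hF hm hxN with h | h
      · have hUC := (hU'.eq_centralizer hF hm h hTH.1).2
        rw [hC] at hUC
        have hyN := hMU hyM
        rw [hUC, normalizer_HSub hF hm] at hyN
        exact hyN
      · exact absurd h (TH_pow_four hTH)
  · rintro ((hy | hy) | hy)
    · intro h
      apply Bsub_ne_top hF
      rw [eq_top_iff, ← h, Subgroup.closure_le]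
      rintro w (rfl | rfl)
      · exact HS_mem_Bsub hF s
      · exact hy
    · intro h
      have h1 : (Bsub F m).map (MulAut.conj (wS hF)).toMonoidHom = ⊤ := by
        rw [eq_top_iff, ← h, Subgroup.closure_le]
        rintro w (rfl | rfl)
        · refine ⟨HS hF s⁻¹, HS_mem_Bsub hF s⁻¹, ?_⟩
          show wS hF * HS hF s⁻¹ * (wS hF)⁻¹ = HS hF s
          rw [wS_inv, wS_mul_HS_mul_wS, inv_inv]
        · exact hy
      apply Bsub_ne_top hF
      apply Subgroup.map_injective (f := (MulAut.conj (wS hF)).toMonoidHom)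
        (MulAut.conj (wS hF)).injective
      rw [h1, Subgroup.map_top_of_surjective _ (MulAut.conj (wS hF)).surjective]
    · intro h
      have h1 := normalizer_tor_ne_top hF hm hU
      rw [normalizer_HSub hF hm] at h1
      apply h1
      rw [eq_top_iff, ← h, Subgroup.closure_le]
      rintro w (rfl | rfl)
      · exact (mem_NSub_iff hF _).2 ⟨s, Or.inl rfl⟩
      · exact hy

theorem card_Sol_HS (hm : 1 ≤ m) (hS : Struct F m) {s : Fˣ} (hs : s ≠ 1) :
    (Sol (HS hF s)).ncard = 2 * (2 ^ (2 * m + 1)) ^ 2 * (2 ^ (2 * m + 1) - 1) := by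
  rw [Sol_TH hF hm hS hs]
  have hA : (Bsub F m : Set (Sz F m)).ncard =
      (2 ^ (2 * m + 1)) ^ 2 * (2 ^ (2 * m + 1) - 1) := by
    rw [← card_stab_inf hm hF]
    exact (Nat.card_coe_set_eq _).symm
  have hB : (((Bsub F m).map (MulAut.conj (wS hF)).toMonoidHom : Subgroup (Sz F m)) :
      Set (Sz F m)).ncard = (2 ^ (2 * m + 1)) ^ 2 * (2 ^ (2 * m + 1) - 1) := by
    rw [← card_stab_inf hm hF, ← Subgroup.card_map_of_injective
      (f := (MulAut.conj (wS hF)).toMonoidHom) (K := Bsub F m) (MulAut.conj (wS hF)).injective]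
    exact (Nat.card_coe_set_eq _).symm
  have hCc : (NSub hF : Set (Sz F m)).ncard = 2 * (2 ^ (2 * m + 1) - 1) := by
    rw [← card_NSub hF]
    exact (Nat.card_coe_set_eq _).symm
  have hHc : (HSub hF : Set (Sz F m)).ncard = 2 ^ (2 * m + 1) - 1 := by
    rw [← card_HSub hF]
    exact (Nat.card_coe_set_eq _).symm
  have hAB : (Bsub F m : Set (Sz F m)) ∩
      (((Bsub F m).map (MulAut.conj (wS hF)).toMonoidHom : Subgroup (Sz F m)) :
        Set (Sz F m)) = (HSub hF : Set (Sz F m)) := by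
    ext g
    constructor
    · rintro ⟨hg, g', hg', hgg⟩
      have hgg' : wS hF * g' * (wS hF)⁻¹ = g := hgg
      have h0 : g • Paff m (0 : F) 0 = Paff m (0 : F) 0 := by
        have hw : wS hF • Pinf F = Paff m (0 : F) 0 := wg_smul_Pinf
        have hw' : (wS hF)⁻¹ • Paff m (0 : F) 0 = Pinf F := by
          rw [inv_smul_eq_iff, hw]
        have hg'' : g' • Pinf F = Pinf F := hg'
        rw [← hgg', mul_smul, mul_smul, hw', hg'', hw]
      have hinf : g.1 • Pinf F = Pinf F := hg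
      obtain ⟨t, ht⟩ := stab_two hm hF g.2 hinf h0
      exact (mem_HSub_iff hF g).2 ⟨t, Subtype.ext ht⟩
    · intro hg
      obtain ⟨t, rfl⟩ := (mem_HSub_iff hF g).1 hg
      refine ⟨HS_mem_Bsub hF t, HS hF t⁻¹, HS_mem_Bsub hF t⁻¹, ?_⟩
      show wS hF * HS hF t⁻¹ * (wS hF)⁻¹ = HS hF t
      rw [wS_inv, wS_mul_HS_mul_wS, inv_inv]
  have hCAB : (NSub hF : Set (Sz F m)) ∩ ((Bsub F m : Set (Sz F m)) ∪
      (((Bsub F m).map (MulAut.conj (wS hF)).toMonoidHom : Subgroup (Sz F m)) :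
        Set (Sz F m))) = (HSub hF : Set (Sz F m)) := by
    ext g
    constructor
    · rintro ⟨hgN, hgAB⟩
      obtain ⟨t, rfl | rfl⟩ := (mem_NSub_iff hF g).1 hgN
      · exact (mem_HSub_iff hF _).2 ⟨t, rfl⟩
      · exfalso
        rcases hgAB with h | ⟨g', hg', hgg⟩
        · apply wS_not_mem_Bsub hF
          have := (Bsub F m).mul_mem h ((Bsub F m).inv_mem (HS_mem_Bsub hF t))
          rwa [mul_inv_cancel_right] at this
        · have hgg' : wS hF * g' * (wS hF)⁻¹ = wS hF * HS hF t := hgg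
          have h2 : (wS hF)⁻¹ = g'⁻¹ * HS hF t := by
            have h3 : g' * (wS hF)⁻¹ = HS hF t := by
              apply mul_left_cancel (a := wS hF)
              rw [← mul_assoc]; exact hgg'
            rw [← h3]; group
          apply wS_not_mem_Bsub hF
          rw [← wS_inv, h2]
          exact (Bsub F m).mul_mem ((Bsub F m).inv_mem hg') (HS_mem_Bsub hF t)
    · intro hg
      obtain ⟨t, rfl⟩ := (mem_HSub_iff hF g).1 hg
      exact ⟨(mem_NSub_iff hF _).2 ⟨t, Or.inl rfl⟩, Or.inl (HS_mem_Bsub hF t)⟩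
  have e1 := Set.ncard_union_add_ncard_inter (Bsub F m : Set (Sz F m))
    (((Bsub F m).map (MulAut.conj (wS hF)).toMonoidHom : Subgroup (Sz F m)) : Set (Sz F m))
  have e2 := Set.ncard_union_add_ncard_inter ((Bsub F m : Set (Sz F m)) ∪
    (((Bsub F m).map (MulAut.conj (wS hF)).toMonoidHom : Subgroup (Sz F m)) : Set (Sz F m)))
    (NSub hF : Set (Sz F m))
  rw [Set.inter_comm, hCAB] at e2
  rw [hAB] at e1
  rw [hA, hB, hHc] at e1
  rw [hCc, hHc] at e2
  have h8 := q_ge hm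
  have hpos : 2 ^ (2 * m + 1) - 1 ≤ (2 ^ (2 * m + 1)) ^ 2 * (2 ^ (2 * m + 1) - 1) :=
    Nat.le_mul_of_pos_left _ (by positivity)
  have e3 : 2 * (2 ^ (2 * m + 1)) ^ 2 * (2 ^ (2 * m + 1) - 1) =
      (2 ^ (2 * m + 1)) ^ 2 * (2 ^ (2 * m + 1) - 1) +
        (2 ^ (2 * m + 1)) ^ 2 * (2 ^ (2 * m + 1) - 1) := by ring
  omega

/-- the solubilizer-type set of an element of order dividing `q - 1` -/
theorem card_Sol_TH (hm : 1 ≤ m) (hS : Struct F m) {x : Sz F m} (hx : x ∈ TH F m) :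
    (Sol x).ncard = 2 * (2 ^ (2 * m + 1)) ^ 2 * (2 ^ (2 * m + 1) - 1) := by
  obtain ⟨c, s, hs, rfl⟩ := TH_conj hF hm hx
  rw [card_Sol_conj, card_Sol_HS hF hm hS hs]

end Cfsg.Agent.Lib.Helper45.SzSol
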