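import Cfsg.Agent.Lib.Helper45.SzSol6

set_option autoImplicit false

namespace Cfsg.Agent.Lib.Helper45.SzSol

open Cfsg Matrix
open Cfsg.Agent.Lib.Helper8.Sz

/-- solvability is transported along isomorphisms of the ambient group -/
theorem solvable_closure_iff {G H : Type*} [Group G] [Group H] (e : G ≃* H) (x y : G) :
    Group.IsSolvable ↥(Subgroup.closure ({e x, e y} : Set H)) ↔
      Group.IsSolvable ↥(Subgroup.closure ({x, y} : Set G)) := by
  have hcl : Subgroup.closure ({e x, e y} : Set H) =
      (Subgroup.closure ({x, y} : Set G)).map (e : G →* H) := by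
    rw [MonoidHom.map_closure, Set.image_pair]
    rfl
  rw [hcl]
  constructor
  · intro h
    exact Group.isSolvable_of_isSolvable_injective
      (f := (e.subgroupMap (Subgroup.closure ({x, y} : Set G))).toMonoidHom)
      (e.subgroupMap (Subgroup.closure ({x, y} : Set G))).injective
  · intro h
    exact Group.isSolvable_of_isSolvable_injective
      (f := (e.subgroupMap (Subgroup.closure ({x, y} : Set G))).symm.toMonoidHom)
      (e.subgroupMap (Subgroup.closure ({x, y} : Set G))).symm.injective

theorem card_solv_equiv {G H : Type*} [Group G] [Group H] (e : G ≃* H) (x : G) :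
    Nat.card {y' : H // Group.IsSolvable ↥(Subgroup.closure ({e x, y'} : Set H))} =
      Nat.card {y : G // Group.IsSolvable ↥(Subgroup.closure ({x, y} : Set G))} := by
  symm
  apply Nat.card_congr
  exact Equiv.subtypeEquiv e.toEquiv (fun y => (solvable_closure_iff e x y).symm)

variable {F : Type*} [Field F] [Fintype F] {m : ℕ}

variable (hF : Fintype.card F = 2 ^ (2 * m + 1))

include hF

theorem solv_eq_Sol (hm : 1 ≤ m) (hS : Struct F m) (x : Sz F m) :
    Nat.card {y : Sz F m // Group.IsSolvable ↥(Subgroup.closure ({x, y} : Set (Sz F m)))} =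
      (Sol x).ncard := by
  have hset : {y : Sz F m | Group.IsSolvable ↥(Subgroup.closure ({x, y} : Set (Sz F m)))} =
      Sol x := by
    ext y
    constructor
    · intro h htop
      have h1 : Group.IsSolvable ↥(Subgroup.closure ({x, y} : Set (Sz F m))) := h
      rw [htop] at h1
      exact not_solvable hF hm
        (Group.isSolvable_of_isSolvable_injective
          (f := (Subgroup.topEquiv (G := Sz F m)).symm.toMonoidHom)
          Subgroup.topEquiv.symm.injective)
    · intro h
      exact solvable_of_struct hF hm hS _ h
  rw [← hset]
  rfl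

end Cfsg.Agent.Lib.Helper45.SzSol
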