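import Mathlib
import Cfsg.Agent.S2247

set_option autoImplicit false
set_option linter.style.haveILetI false
set_option linter.unusedSectionVars false

namespace Cfsg.Agent.Lib.Helper45.SzSub

open Cfsg Matrix Cfsg.Agent.Lib.Helper8.Sz Cfsg.Agent.Lib.Helper45.SzU Cfsg.Agent.S2247

variable {F : Type*} [Field F] [Fintype F] {m : ℕ}
variable {K : Type*} [Field K] [Fintype K] {k : ℕ}

/-! ### field facts -/

theorem exists_emb (hF : Fintype.card F = 2 ^ (2 * m + 1)) (hK : Fintype.card K = 2 ^ (2 * k + 1))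
    (hdiv : 2 * k + 1 ∣ 2 * m + 1) : Nonempty (K →+* F) := by
  haveI := charP_two hF
  haveI := charP_two hK
  letI := ZMod.algebra F 2
  letI := ZMod.algebra K 2
  have hfr : Module.finrank (ZMod 2) F = 2 * m + 1 := by
    have := FiniteField.pow_finrank_eq_card 2 F
    rw [hF] at this
    exact Nat.pow_right_injective (le_refl 2) this
  have hfrK : Module.finrank (ZMod 2) K = 2 * k + 1 := by
    have := FiniteField.pow_finrank_eq_card 2 K
    rw [hK] at this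
    exact Nat.pow_right_injective (le_refl 2) this
  obtain ⟨f⟩ := FiniteField.nonempty_algHom_of_finrank_dvd (F := ZMod 2) (K := K) (L := F)
    (by rw [hfr, hfrK]; exact hdiv)
  exact ⟨f.toRingHom⟩

theorem pow_two_pow_add (hK : Fintype.card K = 2 ^ (2 * k + 1)) (x : K) (i j : ℕ) :
    x ^ (2 ^ (i + j * (2 * k + 1))) = x ^ (2 ^ i) := by
  induction j with
  | zero => simp
  | succ j ih =>
    have h1 : 2 ^ (i + (j + 1) * (2 * k + 1)) = 2 ^ (2 * k + 1) * 2 ^ (i + j * (2 * k + 1)) := by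
      rw [← pow_add]; congr 1; ring
    rw [h1, pow_mul, ← hK, FiniteField.pow_card, ih]

theorem th_compat (hK : Fintype.card K = 2 ^ (2 * k + 1)) (hdiv : 2 * k + 1 ∣ 2 * m + 1)
    (φ : K →+* F) (x : K) : th m (φ x) = φ (th k x) := by
  obtain ⟨t, ht⟩ := hdiv
  obtain ⟨j, hj⟩ : ∃ j, t = 2 * j + 1 := by
    rcases Nat.even_or_odd t with ⟨r, hr⟩ | ⟨r, hr⟩
    · exfalso
      subst hr
      have : 2 * m + 1 = 2 * ((2 * k + 1) * r) := by rw [ht]; ring
      omega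
    · exact ⟨r, hr⟩
  subst hj
  have hmk : m = k + j * (2 * k + 1) := by
    have : 2 * m + 1 = 2 * (k + j * (2 * k + 1)) + 1 := by rw [ht]; ring
    omega
  rw [th_def, th_def, ← map_pow]
  congr 1
  have : m + 1 = (k + 1) + j * (2 * k + 1) := by rw [hmk]; ring
  rw [this, pow_two_pow_add hK]

/-- membership in the subfield of order `2^(2k+1)` -/
def inK (k : ℕ) (x : F) : Prop := x ^ (2 ^ (2 * k + 1)) = x

theorem inK_zero : inK k (0 : F) := by
  unfold inK
  exact zero_pow (by positivity)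

theorem inK_one : inK k (1 : F) := by
  unfold inK
  exact one_pow _

theorem inK_add (hF : Fintype.card F = 2 ^ (2 * m + 1)) {x y : F} (hx : inK k x) (hy : inK k y) :
    inK k (x + y) := by
  have := charP_two hF
  have : Fact (Nat.Prime 2) := ⟨Nat.prime_two⟩
  unfold inK at *
  rw [add_pow_char_pow x y 2 (2 * k + 1), hx, hy]

theorem inK_mul {x y : F} (hx : inK k x) (hy : inK k y) : inK k (x * y) := by
  unfold inK at *
  rw [mul_pow, hx, hy]

theorem inK_inv {x : F} (hx : inK k x) : inK k x⁻¹ := by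
  unfold inK at *
  rw [inv_pow, hx]

theorem inK_div {x y : F} (hx : inK k x) (hy : inK k y) : inK k (x / y) := by
  rw [div_eq_mul_inv]
  exact inK_mul hx (inK_inv hy)

theorem inK_pow {x : F} (hx : inK k x) (n : ℕ) : inK k (x ^ n) := by
  unfold inK at *
  rw [← pow_mul, mul_comm, pow_mul, hx]

theorem inK_th {x : F} (hx : inK k x) : inK k (th m x) := by
  rw [th_def]
  exact inK_pow hx _

theorem inK_of_th (hF : Fintype.card F = 2 ^ (2 * m + 1)) {x : F} (hx : inK k (th m x)) :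
    inK k x := by
  unfold inK at *
  apply th_inj hF
  rw [th_pow, hx]

theorem inK_of_unit_pow {x : Fˣ} (hx : x ^ (2 ^ (2 * k + 1) - 1) = 1) : inK k (x : F) := by
  unfold inK
  have h1 : 1 ≤ 2 ^ (2 * k + 1) := Nat.one_le_two_pow
  have h2 : 2 ^ (2 * k + 1) = (2 ^ (2 * k + 1) - 1) + 1 := by omega
  rw [h2, pow_succ, ← Units.val_pow_eq_pow_val, hx, Units.val_one, one_mul]

theorem inK_phi (hK : Fintype.card K = 2 ^ (2 * k + 1)) (φ : K →+* F) (a : K) : inK k (φ a) := by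
  unfold inK
  rw [← map_pow, ← hK, FiniteField.pow_card]

theorem exists_of_inK (hK : Fintype.card K = 2 ^ (2 * k + 1)) (φ : K →+* F) (x : F)
    (hx : inK k x) : ∃ a : K, φ a = x := by
  classical
  obtain ⟨s, hs⟩ : ∃ s, s = 2 ^ (2 * k + 1) := ⟨_, rfl⟩
  have hs1 : 1 < s := by
    rw [hs]
    exact Nat.one_lt_two_pow (by omega)
  obtain ⟨p, hp⟩ : ∃ p : Polynomial F, p = Polynomial.X ^ s - Polynomial.X := ⟨_, rfl⟩
  have hp0 : p ≠ 0 := hp ▸ FiniteField.X_pow_card_sub_X_ne_zero F hs1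
  have hdeg : p.natDegree = s := hp ▸ FiniteField.X_pow_card_sub_X_natDegree_eq F hs1
  have hroots : p.roots.toFinset.card ≤ s := by
    calc p.roots.toFinset.card ≤ Multiset.card p.roots := Multiset.toFinset_card_le _
      _ ≤ p.natDegree := Polynomial.card_roots' p
      _ = s := hdeg
  have hmem : ∀ y : F, y ^ s = y → y ∈ p.roots.toFinset := by
    intro y hy
    rw [Multiset.mem_toFinset, Polynomial.mem_roots hp0, hp, Polynomial.IsRoot,
      Polynomial.eval_sub, Polynomial.eval_pow, Polynomial.eval_X, hy, sub_self]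
  have himg : (Finset.univ.image φ) ⊆ p.roots.toFinset := by
    intro y hy
    obtain ⟨a, -, rfl⟩ := Finset.mem_image.mp hy
    apply hmem
    rw [hs]
    exact inK_phi hK φ a
  have hcard : (Finset.univ.image φ).card = s := by
    rw [Finset.card_image_of_injective _ φ.injective, Finset.card_univ, hK, hs]
  have heq := Finset.eq_of_subset_of_card_le himg (by rw [hcard]; exact hroots)
  have hxmem : x ∈ p.roots.toFinset := hmem x (by rw [hs]; exact hx)
  rw [← heq] at hxmem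
  obtain ⟨a, -, ha⟩ := Finset.mem_image.mp hxmem
  exact ⟨a, ha⟩

/-! ### relations among the generators -/

theorem tg_mul (hF : Fintype.card F = 2 ^ (2 * m + 1)) (a b a' b' : F) :
    tg hF a b * tg hF a' b' = tg hF (a + a') (b + b' + th m a * a') :=
  Subtype.ext (Tg_mul hF a b a' b')

theorem tg_zero (hF : Fintype.card F = 2 ^ (2 * m + 1)) : tg hF 0 0 = 1 :=
  Subtype.ext Tg_zero

theorem tg_inj (hF : Fintype.card F = 2 ^ (2 * m + 1)) {a b a' b' : F}
    (h : tg hF a b = tg hF a' b') : a = a' ∧ b = b' :=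
  Tg_inj (congrArg Subtype.val h)

theorem tg_sq (hF : Fintype.card F = 2 ^ (2 * m + 1)) (a b : F) :
    tg hF a b * tg hF a b = tg hF 0 (th m a * a) := by
  rw [tg_mul]
  congr 1
  · exact add_self hF a
  · rw [add_self hF b, zero_add]

theorem tg_pow_four (hF : Fintype.card F = 2 ^ (2 * m + 1)) (a b : F) :
    tg hF a b ^ 4 = 1 := by
  have h4 : ∀ g : ↥(Cfsg.Sz F m), g ^ 4 = (g * g) * (g * g) := by
    intro g
    rw [pow_succ, pow_succ, pow_succ, pow_one, mul_assoc]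
  rw [h4, tg_sq, tg_sq, th_zero, zero_mul, tg_zero]

theorem hgS_mul (hF : Fintype.card F = 2 ^ (2 * m + 1)) (s s' : Fˣ) :
    hgS hF (s * s') = hgS hF s * hgS hF s' :=
  Subtype.ext (Hg_mul s s')

theorem hgS_one (hF : Fintype.card F = 2 ^ (2 * m + 1)) : hgS hF 1 = 1 :=
  Subtype.ext Hg_one

theorem hgS_inj (hF : Fintype.card F = 2 ^ (2 * m + 1)) {s s' : Fˣ}
    (h : hgS hF s = hgS hF s') : s = s' :=
  Hg_inj (congrArg Subtype.val h)

theorem hgS_pow (hF : Fintype.card F = 2 ^ (2 * m + 1)) (s : Fˣ) (n : ℕ) :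
    hgS hF (s ^ n) = hgS hF s ^ n := by
  induction n with
  | zero => rw [pow_zero, pow_zero, hgS_one]
  | succ n ih => rw [pow_succ, pow_succ, hgS_mul, ih]

theorem hgS_inv (hF : Fintype.card F = 2 ^ (2 * m + 1)) (s : Fˣ) :
    hgS hF s⁻¹ = (hgS hF s)⁻¹ := by
  apply eq_inv_of_mul_eq_one_left
  rw [← hgS_mul, inv_mul_cancel, hgS_one]

theorem hgS_mul_tg (hF : Fintype.card F = 2 ^ (2 * m + 1)) (s : Fˣ) (a b : F) :
    hgS hF s * tg hF a b = tg hF (th m (s : F) * a) (th m (s : F) * s ^ 2 * b) * hgS hF s :=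
  Subtype.ext (Hg_mul_Tg hF s a b)

theorem hgS_conj_tg (hF : Fintype.card F = 2 ^ (2 * m + 1)) (s : Fˣ) (a b : F) :
    hgS hF s * tg hF a b * (hgS hF s)⁻¹ = tg hF (th m (s : F) * a) (th m (s : F) * s ^ 2 * b) := by
  rw [hgS_mul_tg, mul_inv_cancel_right]

theorem wS_hgS_wS (hF : Fintype.card F = 2 ^ (2 * m + 1)) (s : Fˣ) :
    wS hF * hgS hF s * wS hF = hgS hF s⁻¹ :=
  Subtype.ext (wg_mul_Hg_mul_wg s)

/-- Bruhat decomposition -/
theorem bruhat (hm : 1 ≤ m) (hF : Fintype.card F = 2 ^ (2 * m + 1)) (y : ↥(Cfsg.Sz F m)) :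
    (∃ (a b : F) (s : Fˣ), y = tg hF a b * hgS hF s) ∨
      (∃ (x y' c d : F) (s : Fˣ), y = tg hF x y' * (wS hF * (tg hF c d * hgS hF s)) ∧
        (y : SpecialLinearGroup (Fin 4) F) • Pinf F = Paff m x y') := by
  rcases smul_Pinf_cases y with h | ⟨x, y', hxy⟩
  · exact Or.inl (fix_form hm hF y h)
  · right
    obtain ⟨c, d, s, hdec⟩ := norm_form hm hF y x y' hxy
    refine ⟨x, y', c, d, s, ?_, hxy⟩
    rw [← hdec, ← mul_assoc (wS hF), wS_mul_wS, one_mul]
    group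

/-! ### the subfield embedding -/

theorem map_Tg (hK : Fintype.card K = 2 ^ (2 * k + 1)) (hdiv : 2 * k + 1 ∣ 2 * m + 1)
    (φ : K →+* F) (a b : K) :
    SpecialLinearGroup.map φ (Tg k a b) = Tg m (φ a) (φ b) := by
  apply Subtype.ext
  have h1 := th_compat (m := m) hK hdiv φ a
  have h2 := th_compat (m := m) hK hdiv φ b
  show φ.mapMatrix (Tm k a b) = Tm m (φ a) (φ b)
  ext i j
  rw [RingHom.mapMatrix_apply, Matrix.map_apply]
  fin_cases i <;> fin_cases j <;> simp [Tm, h1, h2]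

theorem map_Hg (hK : Fintype.card K = 2 ^ (2 * k + 1)) (hdiv : 2 * k + 1 ∣ 2 * m + 1)
    (φ : K →+* F) (z : Kˣ) :
    SpecialLinearGroup.map φ (Hg k z) = Hg m (Units.map (φ : K →* F) z) := by
  apply Subtype.ext
  have h1 := th_compat (m := m) hK hdiv φ (z : K)
  show φ.mapMatrix (Hm k z) = Hm m (Units.map (φ : K →* F) z)
  ext i j
  rw [RingHom.mapMatrix_apply, Matrix.map_apply]
  fin_cases i <;> fin_cases j <;> simp [Hm, h1, Matrix.diagonal]

theorem map_wg (φ : K →+* F) : SpecialLinearGroup.map φ (wg K) = wg F := by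
  apply Subtype.ext
  show φ.mapMatrix (wm K) = wm F
  ext i j
  rw [RingHom.mapMatrix_apply, Matrix.map_apply]
  fin_cases i <;> fin_cases j <;> simp [wm]

theorem map_mem (hk : 1 ≤ k) (hK : Fintype.card K = 2 ^ (2 * k + 1))
    (hF : Fintype.card F = 2 ^ (2 * m + 1)) (hdiv : 2 * k + 1 ∣ 2 * m + 1)
    (φ : K →+* F) (y : SpecialLinearGroup (Fin 4) K) (hy : y ∈ Cfsg.Sz K k) :
    SpecialLinearGroup.map φ y ∈ Cfsg.Sz F m := by
  rcases bruhat hk hK ⟨y, hy⟩ with ⟨a, b, s, h⟩ | ⟨x, y', c, d, s, h, -⟩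
  · have h' : y = Tg k a b * Hg k s := congrArg Subtype.val h
    rw [h', map_mul, map_Tg hK hdiv, map_Hg hK hdiv]
    exact Subgroup.mul_mem _ (Tg_mem hF _ _) (Hg_mem hF _)
  · have h' : y = Tg k x y' * (wg K * (Tg k c d * Hg k s)) := congrArg Subtype.val h
    rw [h', map_mul, map_mul, map_mul, map_Tg hK hdiv, map_Tg hK hdiv, map_Hg hK hdiv, map_wg]
    exact Subgroup.mul_mem _ (Tg_mem hF _ _) (Subgroup.mul_mem _ (wg_mem hF)
      (Subgroup.mul_mem _ (Tg_mem hF _ _) (Hg_mem hF _)))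

/-- the subfield embedding of Suzuki groups -/
def iota (hk : 1 ≤ k) (hK : Fintype.card K = 2 ^ (2 * k + 1))
    (hF : Fintype.card F = 2 ^ (2 * m + 1)) (hdiv : 2 * k + 1 ∣ 2 * m + 1)
    (φ : K →+* F) : ↥(Cfsg.Sz K k) →* ↥(Cfsg.Sz F m) :=
  ((SpecialLinearGroup.map φ).comp (Cfsg.Sz K k).subtype).codRestrict (Cfsg.Sz F m)
    (fun y => map_mem hk hK hF hdiv φ y.1 y.2)

theorem iota_coe (hk : 1 ≤ k) (hK : Fintype.card K = 2 ^ (2 * k + 1))
    (hF : Fintype.card F = 2 ^ (2 * m + 1)) (hdiv : 2 * k + 1 ∣ 2 * m + 1)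
    (φ : K →+* F) (y : ↥(Cfsg.Sz K k)) :
    ((iota hk hK hF hdiv φ y : ↥(Cfsg.Sz F m)) : SpecialLinearGroup (Fin 4) F) =
      SpecialLinearGroup.map φ (y : SpecialLinearGroup (Fin 4) K) := rfl

theorem iota_inj (hk : 1 ≤ k) (hK : Fintype.card K = 2 ^ (2 * k + 1))
    (hF : Fintype.card F = 2 ^ (2 * m + 1)) (hdiv : 2 * k + 1 ∣ 2 * m + 1)
    (φ : K →+* F) : Function.Injective (iota hk hK hF hdiv φ) := by
  intro y y' h
  have h1 := congrArg (fun g : ↥(Cfsg.Sz F m) => (g : SpecialLinearGroup (Fin 4) F)) h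
  simp only [iota_coe] at h1
  apply Subtype.ext
  apply Subtype.ext
  ext i j
  have h2 := congrArg (fun g : SpecialLinearGroup (Fin 4) F => (g : Matrix (Fin 4) (Fin 4) F) i j) h1
  simp only [SpecialLinearGroup.map_apply_coe, RingHom.mapMatrix_apply, Matrix.map_apply] at h2
  exact φ.injective h2

theorem iota_tg (hk : 1 ≤ k) (hK : Fintype.card K = 2 ^ (2 * k + 1))
    (hF : Fintype.card F = 2 ^ (2 * m + 1)) (hdiv : 2 * k + 1 ∣ 2 * m + 1)
    (φ : K →+* F) (a b : K) :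
    iota hk hK hF hdiv φ (tg hK a b) = tg hF (φ a) (φ b) :=
  Subtype.ext (map_Tg hK hdiv φ a b)

theorem iota_hgS (hk : 1 ≤ k) (hK : Fintype.card K = 2 ^ (2 * k + 1))
    (hF : Fintype.card F = 2 ^ (2 * m + 1)) (hdiv : 2 * k + 1 ∣ 2 * m + 1)
    (φ : K →+* F) (z : Kˣ) :
    iota hk hK hF hdiv φ (hgS hK z) = hgS hF (Units.map (φ : K →* F) z) :=
  Subtype.ext (map_Hg hK hdiv φ z)

theorem iota_wS (hk : 1 ≤ k) (hK : Fintype.card K = 2 ^ (2 * k + 1))
    (hF : Fintype.card F = 2 ^ (2 * m + 1)) (hdiv : 2 * k + 1 ∣ 2 * m + 1)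
    (φ : K →+* F) :
    iota hk hK hF hdiv φ (wS hK) = wS hF :=
  Subtype.ext (map_wg φ)

/-- translations with coordinates in the subfield are in the range -/
theorem tg_mem_range (hk : 1 ≤ k) (hK : Fintype.card K = 2 ^ (2 * k + 1))
    (hF : Fintype.card F = 2 ^ (2 * m + 1)) (hdiv : 2 * k + 1 ∣ 2 * m + 1)
    (φ : K →+* F) (x y : F) (hx : inK k x) (hy : inK k y) :
    tg hF x y ∈ (iota hk hK hF hdiv φ).range := by
  obtain ⟨a, rfl⟩ := exists_of_inK hK φ x hx
  obtain ⟨b, rfl⟩ := exists_of_inK hK φ y hy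
  exact ⟨tg hK a b, iota_tg hk hK hF hdiv φ a b⟩

theorem hgS_mem_range (hk : 1 ≤ k) (hK : Fintype.card K = 2 ^ (2 * k + 1))
    (hF : Fintype.card F = 2 ^ (2 * m + 1)) (hdiv : 2 * k + 1 ∣ 2 * m + 1)
    (φ : K →+* F) (t : Fˣ) (ht : inK k (t : F)) :
    hgS hF t ∈ (iota hk hK hF hdiv φ).range := by
  obtain ⟨a, ha⟩ := exists_of_inK hK φ (t : F) ht
  have ha0 : a ≠ 0 := by
    rintro rfl
    rw [map_zero] at ha
    exact t.ne_zero ha.symm
  refine ⟨hgS hK (Units.mk0 a ha0), ?_⟩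
  rw [iota_hgS]
  congr 1
  apply Units.ext
  rw [Units.coe_map]
  exact ha

theorem wS_mem_range (hk : 1 ≤ k) (hK : Fintype.card K = 2 ^ (2 * k + 1))
    (hF : Fintype.card F = 2 ^ (2 * m + 1)) (hdiv : 2 * k + 1 ∣ 2 * m + 1)
    (φ : K →+* F) :
    wS hF ∈ (iota hk hK hF hdiv φ).range :=
  ⟨wS hK, iota_wS hk hK hF hdiv φ⟩

end Cfsg.Agent.Lib.Helper45.SzSub
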