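import Mathlib
import Cfsg.Agent.Lib.Helper45.SzSub1

set_option autoImplicit false
set_option linter.style.haveILetI false
set_option linter.unusedSectionVars false

namespace Cfsg.Agent.Lib.Helper45.SzSub

open Cfsg Matrix Cfsg.Agent.Lib.Helper8.Sz Cfsg.Agent.Lib.Helper45.SzU Cfsg.Agent.S2247

variable {F : Type*} [Field F] [Fintype F] {m : ℕ}
variable {K : Type*} [Field K] [Fintype K] {k : ℕ}

theorem th_ne_one (hF : Fintype.card F = 2 ^ (2 * m + 1)) {t : F} (ht : t ≠ 1) : th m t ≠ 1 := by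
  intro h
  exact ht (th_inj hF (h.trans th_one.symm))

theorem th_mul_sq_ne_one (hF : Fintype.card F = 2 ^ (2 * m + 1)) {t : F} (ht : t ≠ 1) :
    th m t * t ^ 2 ≠ 1 := by
  intro h
  have h1 := congrArg (th m) h
  rw [th_mul, th_th hF, th_pow, th_one] at h1
  have h2 : (t * th m t) ^ 2 = 1 := by rw [mul_pow]; exact h1
  have h3 := sq_eq_one hF h2
  apply ht
  calc t = t * (t * th m t) := by rw [h3, mul_one]
    _ = th m t * t ^ 2 := by ring
    _ = 1 := h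

theorem one_add_ne_zero (hF : Fintype.card F = 2 ^ (2 * m + 1)) {x : F} (hx : x ≠ 1) :
    1 + x ≠ 0 := by
  intro h
  apply hx
  have := add_self hF (1 : F)
  linear_combination h - this

/-- a nontrivial torus element fixes only the two standard points of the ovoid -/
theorem Hg_fix (hF : Fintype.card F = 2 ^ (2 * m + 1)) (t : Fˣ) (ht : t ≠ 1)
    (p : PP F) (hp : p ∈ suzukiOvoid F m) (hfix : Hg m t • p = p) :
    p = Pinf F ∨ p = Paff m 0 0 := by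
  rcases (mem_ovoid_iff p).1 hp with h | ⟨x, y, rfl⟩
  · exact Or.inl h
  · right
    rw [Hg_smul_Paff hF] at hfix
    obtain ⟨h1, h2⟩ := Paff_inj hfix
    have ht' : (t : F) ≠ 1 := fun h => ht (Units.ext h)
    have hx : x = 0 := by
      by_contra hx
      have : th m (t : F) * x = 1 * x := by rw [h1, one_mul]
      exact th_ne_one hF ht' (mul_right_cancel₀ hx this)
    have hy : y = 0 := by
      by_contra hy
      have : th m (t : F) * (t : F) ^ 2 * y = 1 * y := by rw [h2, one_mul]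
      exact th_mul_sq_ne_one hF ht' (mul_right_cancel₀ hy this)
    rw [hx, hy]

/-- Step A: conjugate the image of the unipotent subgroup into `U` -/
theorem exists_conj_tg_mem_U (hm : 1 ≤ m) (hF : Fintype.card F = 2 ^ (2 * m + 1))
    (hK : Fintype.card K = 2 ^ (2 * k + 1)) (ρ : ↥(Cfsg.Sz K k) →* ↥(Cfsg.Sz F m)) :
    ∃ x : ↥(Cfsg.Sz F m), ∀ a b : K, x * ρ (tg hK a b) * x⁻¹ ∈ U hF := by
  haveI := finite_Sz hm hF
  have hQ : IsPGroup 2 ((U hK).map ρ) := (U_isPGroup hK).map ρ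
  obtain ⟨P, hP⟩ := hQ.exists_le_sylow
  obtain ⟨x, hx⟩ := exists_conj_mem_U hm hF P
  refine ⟨x⁻¹, fun a b => ?_⟩
  rw [inv_inv]
  exact (hx _).mp (hP (Subgroup.mem_map_of_mem ρ (tg_mem_U hK a b)))

/-- Step B: the image of the torus fixes infinity -/
theorem rho_hgS_fix (hF : Fintype.card F = 2 ^ (2 * m + 1))
    (hK : Fintype.card K = 2 ^ (2 * k + 1)) (ρ : ↥(Cfsg.Sz K k) →* ↥(Cfsg.Sz F m))
    (hρ : Function.Injective ρ) (hU : ∀ a b : K, ρ (tg hK a b) ∈ U hF) (z : Kˣ) :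
    ((ρ (hgS hK z) : ↥(Cfsg.Sz F m)) : SpecialLinearGroup (Fin 4) F) • Pinf F = Pinf F := by
  obtain ⟨α, β, hαβ⟩ := hU (th k (z : K) * 1) (th k (z : K) * (z : K) ^ 2 * 0)
  obtain ⟨α₀, β₀, h₀⟩ := hU 1 0
  obtain ⟨h, hh⟩ : ∃ h, h = ρ (hgS hK z) := ⟨_, rfl⟩
  rw [← hh]
  have hconj : h * ρ (tg hK 1 0) * h⁻¹ =
      ρ (tg hK (th k (z : K) * 1) (th k (z : K) * (z : K) ^ 2 * 0)) := by
    rw [hh, ← map_inv, ← map_mul, ← map_mul, hgS_conj_tg]
  have hne : ¬ (α = 0 ∧ β = 0) := by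
    rintro ⟨rfl, rfl⟩
    have h1 : ρ (tg hK (th k (z : K) * 1) (th k (z : K) * (z : K) ^ 2 * 0)) = 1 :=
      Subtype.ext (hαβ.trans Tg_zero)
    have h2 := hρ (h1.trans (map_one ρ).symm)
    rw [← tg_zero hK] at h2
    have h3 := (tg_inj hK h2).1
    rw [mul_one] at h3
    exact th_ne_zero z.ne_zero h3
  apply Tg_fix hF α β hne _ (smul_mem_of_mem_Sz h.2 Pinf_mem)
  have h4 : Tg m α β = (h : SpecialLinearGroup (Fin 4) F) * Tg m α₀ β₀ *
      (h : SpecialLinearGroup (Fin 4) F)⁻¹ := by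
    rw [← hαβ, ← hconj, ← h₀]
    rfl
  rw [h4, mul_smul, mul_smul, inv_smul_smul, Tg_smul_Pinf]

theorem exists_unit_ne_one (hk : 1 ≤ k) (hK : Fintype.card K = 2 ^ (2 * k + 1)) :
    ∃ z : Kˣ, z ≠ 1 := by
  classical
  apply Fintype.exists_ne_of_one_lt_card
  rw [Fintype.card_units, hK]
  have : 2 ^ 3 ≤ 2 ^ (2 * k + 1) := Nat.pow_le_pow_right (by norm_num) (by omega)
  omega

/-- Step C: conjugate the image of the torus into the standard torus -/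
theorem exists_conj_hgS (hm : 1 ≤ m) (hF : Fintype.card F = 2 ^ (2 * m + 1)) (hk : 1 ≤ k)
    (hK : Fintype.card K = 2 ^ (2 * k + 1)) (ρ : ↥(Cfsg.Sz K k) →* ↥(Cfsg.Sz F m))
    (hρ : Function.Injective ρ) (hU : ∀ a b : K, ρ (tg hK a b) ∈ U hF) :
    ∃ u : ↥(Cfsg.Sz F m), u ∈ U hF ∧ ∀ z : Kˣ, ∃ t : Fˣ, u * ρ (hgS hK z) * u⁻¹ = hgS hF t := by
  have h2F := two_eq_zero hF
  obtain ⟨z₀, hz₀⟩ := exists_unit_ne_one hk hK
  obtain ⟨a, b, t, habt⟩ := fix_form hm hF (ρ (hgS hK z₀)) (rho_hgS_fix hF hK ρ hρ hU z₀)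
  have ht : t ≠ 1 := by
    rintro rfl
    rw [hgS_one, mul_one] at habt
    have h1 : ρ (hgS hK z₀) ^ 4 = 1 := by rw [habt, tg_pow_four]
    rw [← map_pow, ← hgS_pow] at h1
    have h2 := hgS_inj hK (hρ (h1.trans ((map_one ρ).symm.trans (congrArg ρ (hgS_one hK).symm))))
    apply hz₀
    apply Units.ext
    have h3 : ((z₀ : K) ^ 2) ^ 2 = 1 := by
      rw [← pow_mul]
      have := congrArg (fun u : Kˣ => (u : K)) h2
      simpa using this
    rw [Units.val_one]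
    exact sq_eq_one hK (sq_eq_one hK h3)
  have ht' : (t : F) ≠ 1 := fun h => ht (Units.ext h)
  have hD1 : 1 + th m (t : F) ≠ 0 := one_add_ne_zero hF (th_ne_one hF ht')
  have hD2 : 1 + th m (t : F) * (t : F) ^ 2 ≠ 0 := one_add_ne_zero hF (th_mul_sq_ne_one hF ht')
  obtain ⟨x₀, hx₀⟩ : ∃ x₀ : F, x₀ * (1 + th m (t : F)) = a := ⟨a / (1 + th m (t : F)), by field_simp⟩
  obtain ⟨y₀, hy₀⟩ : ∃ y₀ : F, y₀ * (1 + th m (t : F) * (t : F) ^ 2) =
      b + th m a * (th m (t : F) * x₀) :=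
    ⟨(b + th m a * (th m (t : F) * x₀)) / (1 + th m (t : F) * (t : F) ^ 2), by field_simp⟩
  have hfixp : ((ρ (hgS hK z₀) : ↥(Cfsg.Sz F m)) : SpecialLinearGroup (Fin 4) F) • Paff m x₀ y₀ =
      Paff m x₀ y₀ := by
    rw [habt]
    show (Tg m a b * Hg m t) • Paff m x₀ y₀ = Paff m x₀ y₀
    rw [mul_smul, Hg_smul_Paff hF, Tg_smul_Paff hF]
    congr 1
    · linear_combination (-1 : F) * hx₀ + (th m (t : F) * x₀) * h2F
    · linear_combination (-1 : F) * hy₀ + (th m (t : F) * (t : F) ^ 2 * y₀) * h2F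
  obtain ⟨u, hu⟩ : ∃ u, u = (tg hF x₀ y₀)⁻¹ := ⟨_, rfl⟩
  have huU : u ∈ U hF := hu ▸ (U hF).inv_mem (tg_mem_U hF x₀ y₀)
  have hucoe : (u : SpecialLinearGroup (Fin 4) F) = (Tg m x₀ y₀)⁻¹ := by rw [hu]; rfl
  have hu_inf : (u : SpecialLinearGroup (Fin 4) F) • Pinf F = Pinf F := by
    rw [hucoe, inv_smul_eq_iff, Tg_smul_Pinf]
  have hu_inf' : (u : SpecialLinearGroup (Fin 4) F)⁻¹ • Pinf F = Pinf F := by
    rw [inv_smul_eq_iff, hu_inf]
  have hu_zero : (u : SpecialLinearGroup (Fin 4) F)⁻¹ • Paff m (0 : F) 0 = Paff m x₀ y₀ := by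
    rw [hucoe, inv_inv, Tg_smul_zero hF]
  have hu_p : (u : SpecialLinearGroup (Fin 4) F) • Paff m x₀ y₀ = Paff m (0 : F) 0 := by
    rw [← hu_zero, smul_inv_smul]
  -- the conjugated image of z₀
  have hfix_inf : ∀ z : Kˣ, ((u * ρ (hgS hK z) * u⁻¹ : ↥(Cfsg.Sz F m)) :
      SpecialLinearGroup (Fin 4) F) • Pinf F = Pinf F := by
    intro z
    show ((u : SpecialLinearGroup (Fin 4) F) * (ρ (hgS hK z) : SpecialLinearGroup (Fin 4) F) *
      (u : SpecialLinearGroup (Fin 4) F)⁻¹) • Pinf F = Pinf F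
    rw [mul_smul, mul_smul, hu_inf', rho_hgS_fix hF hK ρ hρ hU z, hu_inf]
  have hfix0 : ((u * ρ (hgS hK z₀) * u⁻¹ : ↥(Cfsg.Sz F m)) :
      SpecialLinearGroup (Fin 4) F) • Paff m (0 : F) 0 = Paff m (0 : F) 0 := by
    show ((u : SpecialLinearGroup (Fin 4) F) * (ρ (hgS hK z₀) : SpecialLinearGroup (Fin 4) F) *
      (u : SpecialLinearGroup (Fin 4) F)⁻¹) • Paff m (0 : F) 0 = Paff m (0 : F) 0
    rw [mul_smul, mul_smul, hu_zero, hfixp, hu_p]
  obtain ⟨t₀, ht₀⟩ := stab_two hm hF (u * ρ (hgS hK z₀) * u⁻¹).2 (hfix_inf z₀) hfix0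
  have ht₀' : u * ρ (hgS hK z₀) * u⁻¹ = hgS hF t₀ := Subtype.ext ht₀
  have ht₀1 : t₀ ≠ 1 := by
    rintro rfl
    rw [hgS_one] at ht₀'
    have h1 : ρ (hgS hK z₀) = 1 := by
      have : ρ (hgS hK z₀) = u⁻¹ * (u * ρ (hgS hK z₀) * u⁻¹) * u := by group
      rw [this, ht₀']; group
    have h2 := hgS_inj hK (hρ (h1.trans ((map_one ρ).symm.trans (congrArg ρ (hgS_one hK).symm))))
    exact hz₀ h2
  refine ⟨u, huU, fun z => ?_⟩
  obtain ⟨h', hh'⟩ : ∃ h', h' = u * ρ (hgS hK z) * u⁻¹ := ⟨_, rfl⟩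
  rw [← hh']
  have hcomm : hgS hF t₀ * h' = h' * hgS hF t₀ := by
    rw [← ht₀', hh']
    have h1 : ρ (hgS hK z₀) * ρ (hgS hK z) = ρ (hgS hK z) * ρ (hgS hK z₀) := by
      rw [← map_mul, ← map_mul, ← hgS_mul, ← hgS_mul, mul_comm]
    have e1 : u * ρ (hgS hK z₀) * u⁻¹ * (u * ρ (hgS hK z) * u⁻¹) =
        u * (ρ (hgS hK z₀) * ρ (hgS hK z)) * u⁻¹ := by group
    have e2 : u * ρ (hgS hK z) * u⁻¹ * (u * ρ (hgS hK z₀) * u⁻¹) =
        u * (ρ (hgS hK z) * ρ (hgS hK z₀)) * u⁻¹ := by group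
    rw [e1, e2, h1]
  have hinf : (h' : SpecialLinearGroup (Fin 4) F) • Pinf F = Pinf F := by
    rw [hh']; exact hfix_inf z
  have hzero : (h' : SpecialLinearGroup (Fin 4) F) • Paff m (0 : F) 0 = Paff m (0 : F) 0 := by
    have hmem : (h' : SpecialLinearGroup (Fin 4) F) • Paff m (0 : F) 0 ∈ suzukiOvoid F m :=
      smul_mem_of_mem_Sz h'.2 (Paff_mem 0 0)
    have hfix : Hg m t₀ • ((h' : SpecialLinearGroup (Fin 4) F) • Paff m (0 : F) 0) =
        (h' : SpecialLinearGroup (Fin 4) F) • Paff m (0 : F) 0 := by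
      have h1 := congrArg (fun g : ↥(Cfsg.Sz F m) => (g : SpecialLinearGroup (Fin 4) F)) hcomm
      have h2 : Hg m t₀ * (h' : SpecialLinearGroup (Fin 4) F) =
          (h' : SpecialLinearGroup (Fin 4) F) * Hg m t₀ := h1
      rw [← mul_smul, h2, mul_smul, Hg_smul_zero hF]
    rcases Hg_fix hF t₀ ht₀1 _ hmem hfix with h | h
    · exfalso
      rw [← hinf] at h
      exact Paff_ne_Pinf _ _ (smul_left_cancel _ h)
    · exact h
  obtain ⟨t, ht⟩ := stab_two hm hF h'.2 hinf hzero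
  exact ⟨t, Subtype.ext ht⟩

end Cfsg.Agent.Lib.Helper45.SzSub
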