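import Mathlib
import Cfsg.Agent.Lib.Helper45.SzSub2

set_option autoImplicit false
set_option linter.style.haveILetI false
set_option linter.unusedSectionVars false

namespace Cfsg.Agent.Lib.Helper45.SzSub

open Cfsg Matrix Cfsg.Agent.Lib.Helper8.Sz Cfsg.Agent.Lib.Helper45.SzU Cfsg.Agent.S2247

variable {F : Type*} [Field F] [Fintype F] {m : ℕ}
variable {K : Type*} [Field K] [Fintype K] {k : ℕ}

theorem th_mul_self_inj (hF : Fintype.card F = 2 ^ (2 * m + 1)) {x y : F}
    (h : th m x * x = th m y * y) : x = y := by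
  have h1 := congrArg (th m) h
  rw [th_mul, th_mul, th_th hF, th_th hF] at h1
  by_cases hx : x = 0
  · subst hx
    rw [th_zero, zero_mul] at h
    rcases mul_eq_zero.mp h.symm with h2 | h2
    · exact (th_eq_zero h2).symm
    · exact h2.symm
  · have hc : th m x * x ≠ 0 := mul_ne_zero (th_ne_zero hx) hx
    have h2 : x * (th m x * x) = y * (th m x * x) := by
      have e1 : x * (th m x * x) = x ^ 2 * th m x := by ring
      have e2 : y * (th m x * x) = y ^ 2 * th m y := by rw [h]; ring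
      rw [e1, e2, h1]
    exact mul_right_cancel₀ hc h2

theorem th_mul_self_surj (hF : Fintype.card F = 2 ^ (2 * m + 1)) (b : F) :
    ∃ a : F, th m a * a = b := by
  have hinj : Function.Injective (fun a : F => th m a * a) := fun x y h => th_mul_self_inj hF h
  exact (Finite.injective_iff_surjective.mp hinj) b

theorem unit_pow_card_sub_one (hK : Fintype.card K = 2 ^ (2 * k + 1)) (z : Kˣ) :
    z ^ (2 ^ (2 * k + 1) - 1) = 1 := by
  apply Units.ext
  rw [Units.val_pow_eq_pow_val, Units.val_one, ← hK]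
  exact FiniteField.pow_card_sub_one_eq_one (z : K) z.ne_zero

/-- Step D (normalised form): coordinates of the image of the unipotent subgroup lie in the
subfield -/
theorem coords_inK (hF : Fintype.card F = 2 ^ (2 * m + 1)) (hk : 1 ≤ k)
    (hK : Fintype.card K = 2 ^ (2 * k + 1)) (ρ : ↥(Cfsg.Sz K k) →* ↥(Cfsg.Sz F m))
    (hρ : Function.Injective ρ) (hU : ∀ a b : K, ρ (tg hK a b) ∈ U hF)
    (hH : ∀ z : Kˣ, ∃ t : Fˣ, ρ (hgS hK z) = hgS hF t)
    (h1 : ∃ β : F, ρ (tg hK 1 0) = tg hF 1 β) :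
    ∀ a b : K, ∃ x y : F, inK k x ∧ inK k y ∧ ρ (tg hK a b) = tg hF x y := by
  have h2F := two_eq_zero hF
  have h2K := two_eq_zero hK
  have hU' : ∀ a b : K, ∃ α β : F, ρ (tg hK a b) = tg hF α β := fun a b => by
    obtain ⟨α, β, h⟩ := hU a b
    exact ⟨α, β, Subtype.ext h⟩
  choose A B hAB using hU'
  choose τ hτ using hH
  -- multiplicativity
  have f1 : ∀ a b a' b' : K, A (a + a') (b + b' + th k a * a') = A a b + A a' b' ∧
      B (a + a') (b + b' + th k a * a') = B a b + B a' b' + th m (A a b) * A a' b' := by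
    intro a b a' b'
    have h := congrArg ρ (tg_mul hK a b a' b')
    rw [map_mul, hAB, hAB, hAB, tg_mul] at h
    obtain ⟨e1, e2⟩ := tg_inj hF h
    exact ⟨e1.symm, e2.symm⟩
  have f2 : ∀ (z : Kˣ) (a b : K), A (th k (z : K) * a) (th k (z : K) * (z : K) ^ 2 * b) =
      th m (τ z : F) * A a b ∧
      B (th k (z : K) * a) (th k (z : K) * (z : K) ^ 2 * b) =
        th m (τ z : F) * (τ z : F) ^ 2 * B a b := by
    intro z a b
    have h := congrArg ρ (hgS_conj_tg hK z a b)
    rw [map_mul, map_mul, map_inv, hAB, hAB, hτ, hgS_conj_tg] at h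
    obtain ⟨e1, e2⟩ := tg_inj hF h
    exact ⟨e1.symm, e2.symm⟩
  have f3 : A 0 0 = 0 ∧ B 0 0 = 0 := by
    have h := hAB 0 0
    rw [tg_zero, map_one, ← tg_zero hF] at h
    obtain ⟨e1, e2⟩ := tg_inj hF h
    exact ⟨e1.symm, e2.symm⟩
  have hτmul : ∀ z z' : Kˣ, τ (z * z') = τ z * τ z' := by
    intro z z'
    have h := congrArg ρ (hgS_mul hK z z')
    rw [map_mul, hτ, hτ, hτ, ← hgS_mul] at h
    exact hgS_inj hF h
  have hτone : τ 1 = 1 := by
    have h := hτ 1
    rw [hgS_one, map_one, ← hgS_one hF] at h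
    exact (hgS_inj hF h).symm
  have hτinj : ∀ z : Kˣ, τ z = 1 → z = 1 := by
    intro z hz
    have h := hτ z
    rw [hz, hgS_one, ← map_one ρ] at h
    have h' := hρ h
    rw [← hgS_one hK] at h'
    exact hgS_inj hK h'
  have hτpow : ∀ (z : Kˣ) (n : ℕ), τ (z ^ n) = τ z ^ n := by
    intro z n
    induction n with
    | zero => rw [pow_zero, pow_zero, hτone]
    | succ n ih => rw [pow_succ, pow_succ, hτmul, ih]
  have hτK : ∀ z : Kˣ, inK k (τ z : F) := by
    intro z
    apply inK_of_unit_pow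
    rw [← hτpow, unit_pow_card_sub_one hK, hτone]
  -- Step 1
  have s1 : ∀ a : K, A 0 (th k a * a) = 0 ∧ B 0 (th k a * a) = th m (A a 0) * A a 0 := by
    intro a
    obtain ⟨e1, e2⟩ := f1 a 0 a 0
    have ha : a + a = 0 := add_self hK a
    rw [ha, add_zero, zero_add] at e1 e2
    refine ⟨?_, ?_⟩
    · rw [e1]; exact add_self hF _
    · rw [e2, add_self hF, zero_add]
  have s1' : ∀ b : K, A 0 b = 0 := by
    intro b
    obtain ⟨a, rfl⟩ := th_mul_self_surj hK b
    exact (s1 a).1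
  -- Step 2
  have s2 : ∀ a b : K, A a b = A a 0 ∧ B a b = B a 0 + B 0 b := by
    intro a b
    obtain ⟨e1, e2⟩ := f1 a 0 0 b
    rw [add_zero, zero_add, mul_zero, add_zero] at e1 e2
    rw [s1' b] at e1 e2
    rw [add_zero] at e1
    rw [mul_zero, add_zero] at e2
    exact ⟨e1, e2⟩
  -- Step 3
  have s3 : ∀ a a' : K, A (a + a') 0 = A a 0 + A a' 0 ∧
      B (a + a') 0 + B 0 (th k a * a') = B a 0 + B a' 0 + th m (A a 0) * A a' 0 := by
    intro a a'
    obtain ⟨e1, e2⟩ := f1 a 0 a' 0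
    rw [add_zero, zero_add] at e1 e2
    rw [(s2 _ _).1] at e1
    rw [(s2 _ _).2] at e2
    exact ⟨e1, e2⟩
  -- Step 4
  have s4 : ∀ (z : Kˣ) (a : K), A (th k (z : K) * a) 0 = th m (τ z : F) * A a 0 ∧
      B (th k (z : K) * a) 0 = th m (τ z : F) * (τ z : F) ^ 2 * B a 0 := by
    intro z a
    have h := f2 z a 0
    rw [mul_zero] at h
    exact h
  -- normalisation
  have hα1 : A 1 0 = 1 := by
    obtain ⟨β, hβ⟩ := h1
    rw [hAB] at hβ
    exact (tg_inj hF hβ).1
  -- every nonzero element of K is θ of a unit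
  have hθsurj : ∀ a : K, a ≠ 0 → ∃ z : Kˣ, th k (z : K) = a := by
    intro a ha
    obtain ⟨z, hz⟩ := exists_th hK a
    have hz0 : z ≠ 0 := by
      rintro rfl
      rw [th_zero] at hz
      exact ha hz.symm
    exact ⟨Units.mk0 z hz0, hz⟩
  -- Step 6
  have s6 : ∀ a : K, inK k (A a 0) := by
    intro a
    by_cases ha : a = 0
    · rw [ha, f3.1]; exact inK_zero
    · obtain ⟨z, hz⟩ := hθsurj a ha
      have h := (s4 z 1).1
      rw [mul_one, hz, hα1, mul_one] at h
      rw [h]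
      exact inK_th (hτK z)
  -- Step 7
  have s7 : ∀ b : K, inK k (B 0 b) := by
    intro b
    obtain ⟨a, rfl⟩ := th_mul_self_surj hK b
    rw [(s1 a).2]
    exact inK_mul (inK_th (s6 a)) (s6 a)
  -- Step 8
  obtain ⟨z₁, hz₁⟩ := exists_unit_ne_one hk hK
  have hz₁' : (z₁ : K) ≠ 1 := fun h => hz₁ (Units.ext h)
  have hl1 : th k (z₁ : K) ≠ 1 := th_ne_one hK hz₁'
  have hl2 : th k (z₁ : K) + 1 ≠ 0 := by
    rw [add_comm]; exact one_add_ne_zero hK hl1
  obtain ⟨z₂, hz₂⟩ := hθsurj _ hl2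
  have hν : A (th k (z₁ : K)) 0 = th m (τ z₁ : F) := by
    have h := (s4 z₁ 1).1
    rw [mul_one, hα1, mul_one] at h
    exact h
  have hν2 : th m (τ z₂ : F) = th m (τ z₁ : F) + 1 := by
    have h := (s4 z₂ 1).1
    rw [mul_one, hα1, mul_one, hz₂, (s3 _ _).1, hα1, hν] at h
    exact h.symm
  have hγ1 : B (th k (z₁ : K)) 0 = th m (τ z₁ : F) * (τ z₁ : F) ^ 2 * B 1 0 := by
    have h := (s4 z₁ 1).2
    rw [mul_one] at h
    exact h
  have hγ2 : B (th k (z₁ : K) + 1) 0 = th m (τ z₂ : F) * (τ z₂ : F) ^ 2 * B 1 0 := by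
    have h := (s4 z₂ 1).2
    rw [mul_one, hz₂] at h
    exact h
  have hsq1 : (τ z₁ : F) ^ 2 = th m (th m (τ z₁ : F)) := (th_th hF _).symm
  have hsq2 : (τ z₂ : F) ^ 2 = th m (th m (τ z₁ : F)) + 1 := by
    rw [← th_th hF, hν2, th_add hF, th_one]
  have hrel := (s3 (th k (z₁ : K)) 1).2
  rw [hγ1, hγ2, hα1, hν, mul_one, mul_one, hν2, hsq1, hsq2] at hrel
  obtain ⟨ν, hνdef⟩ : ∃ ν : F, ν = th m (τ z₁ : F) := ⟨_, rfl⟩
  rw [← hνdef] at hrel
  have hνK : inK k ν := hνdef ▸ inK_th (hτK z₁)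
  have hν0 : ν ≠ 0 := hνdef ▸ th_ne_zero (τ z₁).ne_zero
  have hν1 : ν ≠ 1 := by
    rw [hνdef]
    apply th_ne_one hF
    intro h
    exact hz₁ (hτinj z₁ (Units.ext h))
  have hden : ν + th m ν ≠ 0 := by
    intro h
    have h3 : th m ν = ν := by
      have := add_self hF ν
      linear_combination h - this
    have h4 : ν ^ 2 = ν := by
      rw [← th_th hF, h3, h3]
    have h5 : ν * (ν - 1) = 0 := by linear_combination h4
    rcases mul_eq_zero.mp h5 with h6 | h6
    · exact hν0 h6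
    · exact hν1 (sub_eq_zero.mp h6)
  have hc : (ν + th m ν) * B 1 0 = B 0 (th k (th k (z₁ : K))) + th m ν := by
    linear_combination hrel - (B 0 (th k (th k (z₁ : K)))) * h2F
  have hcK : inK k (B 1 0) := by
    have : B 1 0 = (B 0 (th k (th k (z₁ : K))) + th m ν) / (ν + th m ν) := by
      field_simp
      linear_combination hc
    rw [this]
    exact inK_div (inK_add hF (s7 _) (inK_th hνK)) (inK_add hF hνK (inK_th hνK))
  have s8 : ∀ a : K, inK k (B a 0) := by
    intro a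
    by_cases ha : a = 0
    · rw [ha, f3.2]; exact inK_zero
    · obtain ⟨z, hz⟩ := hθsurj a ha
      have h := (s4 z 1).2
      rw [mul_one, hz] at h
      rw [h]
      exact inK_mul (inK_mul (inK_th (hτK z)) (inK_pow (hτK z) 2)) hcK
  intro a b
  refine ⟨A a b, B a b, ?_, ?_, hAB a b⟩
  · rw [(s2 a b).1]; exact s6 a
  · rw [(s2 a b).2]; exact inK_add hF (s8 a) (s7 b)

end Cfsg.Agent.Lib.Helper45.SzSub
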