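import Mathlib
import Cfsg.Agent.Lib.Helper45.SzSub3

set_option autoImplicit false
set_option linter.style.haveILetI false
set_option linter.unusedSectionVars false

namespace Cfsg.Agent.Lib.Helper45.SzSub

open Cfsg Matrix Cfsg.Agent.Lib.Helper8.Sz Cfsg.Agent.Lib.Helper45.SzU Cfsg.Agent.S2247

variable {F : Type*} [Field F] [Fintype F] {m : ℕ}
variable {K : Type*} [Field K] [Fintype K] {k : ℕ}

/-- the first coordinate of the image of `tg 1 0` is nonzero -/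
theorem first_coord_ne_zero (hF : Fintype.card F = 2 ^ (2 * m + 1))
    (hK : Fintype.card K = 2 ^ (2 * k + 1)) (ρ : ↥(Cfsg.Sz K k) →* ↥(Cfsg.Sz F m))
    (hρ : Function.Injective ρ) (d β : F) (hdβ : ρ (tg hK 1 0) = tg hF d β) : d ≠ 0 := by
  rintro rfl
  have h1 : ρ (tg hK 1 0 * tg hK 1 0) = 1 := by
    rw [map_mul, hdβ, tg_sq, th_zero, zero_mul, tg_zero]
  rw [tg_sq, ← map_one ρ] at h1
  have h2 := hρ h1
  rw [← tg_zero hK] at h2
  have h3 := (tg_inj hK h2).2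
  rw [th_one, one_mul] at h3
  exact one_ne_zero h3

/-- Step D: conjugate by a torus element so that the coordinates lie in the subfield -/
theorem exists_conj_coords (hF : Fintype.card F = 2 ^ (2 * m + 1)) (hk : 1 ≤ k)
    (hK : Fintype.card K = 2 ^ (2 * k + 1)) (ρ : ↥(Cfsg.Sz K k) →* ↥(Cfsg.Sz F m))
    (hρ : Function.Injective ρ) (hU : ∀ a b : K, ρ (tg hK a b) ∈ U hF)
    (hH : ∀ z : Kˣ, ∃ t : Fˣ, ρ (hgS hK z) = hgS hF t) :
    ∃ e : Fˣ, ∀ a b : K, ∃ x y : F, inK k x ∧ inK k y ∧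
      hgS hF e * ρ (tg hK a b) * (hgS hF e)⁻¹ = tg hF x y := by
  obtain ⟨d, β, hdβ⟩ : ∃ d β : F, ρ (tg hK 1 0) = tg hF d β := by
    obtain ⟨α, β, h⟩ := hU 1 0
    exact ⟨α, β, Subtype.ext h⟩
  have hd : d ≠ 0 := first_coord_ne_zero hF hK ρ hρ d β hdβ
  obtain ⟨e, he⟩ := exists_th hF d⁻¹
  have he0 : e ≠ 0 := by
    rintro rfl
    rw [th_zero] at he
    exact inv_ne_zero hd he.symm
  obtain ⟨ρ', hρ'def⟩ : ∃ ρ' : ↥(Cfsg.Sz K k) →* ↥(Cfsg.Sz F m),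
      ρ' = (MulAut.conj (hgS hF (Units.mk0 e he0))).toMonoidHom.comp ρ := ⟨_, rfl⟩
  have hρ'apply : ∀ y, ρ' y = hgS hF (Units.mk0 e he0) * ρ y * (hgS hF (Units.mk0 e he0))⁻¹ := by
    intro y
    rw [hρ'def]
    rfl
  have hρ' : Function.Injective ρ' := by
    rw [hρ'def]
    exact (MulAut.conj _).injective.comp hρ
  have hU' : ∀ a b : K, ρ' (tg hK a b) ∈ U hF := by
    intro a b
    obtain ⟨α, β, h⟩ := hU a b
    have h' : ρ (tg hK a b) = tg hF α β := Subtype.ext h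
    rw [hρ'apply, h', hgS_conj_tg]
    exact tg_mem_U hF _ _
  have hH' : ∀ z : Kˣ, ∃ t : Fˣ, ρ' (hgS hK z) = hgS hF t := by
    intro z
    obtain ⟨t, ht⟩ := hH z
    refine ⟨t, ?_⟩
    rw [hρ'apply, ht, ← hgS_mul, mul_comm, hgS_mul, mul_inv_cancel_right]
  have h1' : ∃ β' : F, ρ' (tg hK 1 0) = tg hF 1 β' := by
    refine ⟨th m e * e ^ 2 * β, ?_⟩
    rw [hρ'apply, hdβ, hgS_conj_tg]
    congr 1
    show th m e * d = 1
    rw [he, inv_mul_cancel₀ hd]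
  refine ⟨Units.mk0 e he0, fun a b => ?_⟩
  have := coords_inK hF hk hK ρ' hρ' hU' hH' h1' a b
  rw [hρ'apply] at this
  exact this

/-- Steps E, F: a normalised embedding has image in the standard subfield subgroup -/
theorem range_le (hm : 1 ≤ m) (hF : Fintype.card F = 2 ^ (2 * m + 1)) (hk : 1 ≤ k)
    (hK : Fintype.card K = 2 ^ (2 * k + 1)) (hdiv : 2 * k + 1 ∣ 2 * m + 1) (φ : K →+* F)
    (ρ : ↥(Cfsg.Sz K k) →* ↥(Cfsg.Sz F m)) (hρ : Function.Injective ρ)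
    (hU : ∀ a b : K, ∃ x y : F, inK k x ∧ inK k y ∧ ρ (tg hK a b) = tg hF x y)
    (hH : ∀ z : Kˣ, ∃ t : Fˣ, ρ (hgS hK z) = hgS hF t) (y : ↥(Cfsg.Sz K k)) :
    ρ y ∈ (iota hk hK hF hdiv φ).range := by
  -- torus parameters lie in the subfield
  have hHK : ∀ z : Kˣ, ∃ t : Fˣ, inK k (t : F) ∧ ρ (hgS hK z) = hgS hF t := by
    intro z
    obtain ⟨t, ht⟩ := hH z
    refine ⟨t, ?_, ht⟩
    apply inK_of_unit_pow
    have h1 : hgS hF (t ^ (2 ^ (2 * k + 1) - 1)) = 1 := by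
      rw [hgS_pow, ← ht, ← map_pow, ← hgS_pow, unit_pow_card_sub_one hK, hgS_one, map_one]
    rw [← hgS_one hF] at h1
    exact hgS_inj hF h1
  have hUr : ∀ a b : K, ρ (tg hK a b) ∈ (iota hk hK hF hdiv φ).range := by
    intro a b
    obtain ⟨x, y, hx, hy, h⟩ := hU a b
    rw [h]
    exact tg_mem_range hk hK hF hdiv φ x y hx hy
  have hHr : ∀ z : Kˣ, ρ (hgS hK z) ∈ (iota hk hK hF hdiv φ).range := by
    intro z
    obtain ⟨t, ht, h⟩ := hHK z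
    rw [h]
    exact hgS_mem_range hk hK hF hdiv φ t ht
  -- the image of the Weyl element
  obtain ⟨n, hn⟩ : ∃ n, n = ρ (wS hK) := ⟨_, rfl⟩
  have hnn : n * n = 1 := by
    rw [hn, ← map_mul, wS_mul_wS, map_one]
  obtain ⟨z₀, hz₀⟩ := exists_unit_ne_one hk hK
  obtain ⟨t₀, ht₀⟩ := hH z₀
  have ht₀1 : t₀ ≠ 1 := by
    rintro rfl
    rw [hgS_one, ← map_one ρ] at ht₀
    have h' := hρ ht₀
    rw [← hgS_one hK] at h'
    exact hz₀ (hgS_inj hK h')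
  have hconj : n * hgS hF t₀ * n = hgS hF t₀⁻¹ := by
    rw [hn, ← ht₀, ← map_mul, ← map_mul, wS_hgS_wS, hgS_inv, map_inv, ht₀, hgS_inv]
  have hcomm : hgS hF t₀ * n = n * hgS hF t₀⁻¹ := by
    rw [← hconj, ← mul_assoc, ← mul_assoc, hnn, one_mul]
  have hcomm' : Hg m t₀ * (n : SpecialLinearGroup (Fin 4) F) =
      (n : SpecialLinearGroup (Fin 4) F) * Hg m t₀⁻¹ :=
    congrArg (fun g : ↥(Cfsg.Sz F m) => (g : SpecialLinearGroup (Fin 4) F)) hcomm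
  have hp1 : Hg m t₀ • ((n : SpecialLinearGroup (Fin 4) F) • Pinf F) =
      (n : SpecialLinearGroup (Fin 4) F) • Pinf F := by
    rw [← mul_smul, hcomm', mul_smul, Hg_smul_Pinf]
  have hp2 : Hg m t₀ • ((n : SpecialLinearGroup (Fin 4) F) • Paff m (0 : F) 0) =
      (n : SpecialLinearGroup (Fin 4) F) • Paff m (0 : F) 0 := by
    rw [← mul_smul, hcomm', mul_smul, Hg_smul_zero hF]
  have hnn' : (n : SpecialLinearGroup (Fin 4) F) * (n : SpecialLinearGroup (Fin 4) F) = 1 :=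
    congrArg (fun g : ↥(Cfsg.Sz F m) => (g : SpecialLinearGroup (Fin 4) F)) hnn
  have hninf : (n : SpecialLinearGroup (Fin 4) F) • Pinf F = Paff m (0 : F) 0 := by
    rcases Hg_fix hF t₀ ht₀1 _ (smul_mem_of_mem_Sz n.2 Pinf_mem) hp1 with h | h
    · exfalso
      have h0 : (n : SpecialLinearGroup (Fin 4) F) • Paff m (0 : F) 0 = Paff m (0 : F) 0 := by
        rcases Hg_fix hF t₀ ht₀1 _ (smul_mem_of_mem_Sz n.2 (Paff_mem 0 0)) hp2 with h' | h'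
        · exfalso
          rw [← h] at h'
          exact Paff_ne_Pinf _ _ (smul_left_cancel _ h')
        · exact h'
      obtain ⟨t', ht'⟩ := stab_two hm hF n.2 h h0
      have hn' : n = hgS hF t' := Subtype.ext ht'
      rw [hn', ← hgS_mul, ← hgS_mul] at hconj
      have h3 := hgS_inj hF hconj
      have h5 : t' * t' = 1 := by
        have := hnn
        rw [hn', ← hgS_mul, ← hgS_one hF] at this
        exact hgS_inj hF this
      have h4 : t₀ * t₀ = 1 := by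
        have h6 : t' * t₀ * t' = t₀ := by rw [mul_comm t' t₀, mul_assoc, h5, mul_one]
        rw [h6] at h3
        calc t₀ * t₀ = t₀ * t₀⁻¹ := by rw [← h3]
          _ = 1 := mul_inv_cancel t₀
      apply ht₀1
      apply Units.ext
      rw [Units.val_one]
      apply sq_eq_one hF
      rw [sq, ← Units.val_mul, h4, Units.val_one]
    · exact h
  have hnzero : (n : SpecialLinearGroup (Fin 4) F) • Paff m (0 : F) 0 = Pinf F := by
    rw [← hninf, ← mul_smul, hnn', one_smul]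
  obtain ⟨t, ht⟩ := stab_two hm hF (wS hF * n).2
    (by
      show (wg F * (n : SpecialLinearGroup (Fin 4) F)) • Pinf F = Pinf F
      rw [mul_smul, hninf, wg_smul_zero])
    (by
      show (wg F * (n : SpecialLinearGroup (Fin 4) F)) • Paff m (0 : F) 0 = Paff m (0 : F) 0
      rw [mul_smul, hnzero, wg_smul_Pinf])
  have hnt : n = wS hF * hgS hF t := by
    have h1 : wS hF * n = hgS hF t := Subtype.ext ht
    rw [← h1, ← mul_assoc, wS_mul_wS, one_mul]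
  -- the parameter t lies in the subfield
  have htK : inK k (t : F) := by
    obtain ⟨X₁, Y₁, hX₁, hY₁, h₁⟩ := hU 1 0
    have hX₁0 : X₁ ≠ 0 := first_coord_ne_zero hF hK ρ hρ X₁ Y₁ h₁
    obtain ⟨β₁, hβ₁⟩ : ∃ β₁ : F, β₁ = th m X₁ * X₁ := ⟨_, rfl⟩
    have hβ₁K : inK k β₁ := hβ₁ ▸ inK_mul (inK_th hX₁) hX₁
    have hβ₁0 : β₁ ≠ 0 := hβ₁ ▸ mul_ne_zero (th_ne_zero hX₁0) hX₁0
    have hsq : ρ (tg hK 1 0 * tg hK 1 0) = tg hF 0 β₁ := by
      rw [map_mul, h₁, tg_sq, hβ₁]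
    obtain ⟨y₀, hy₀⟩ : ∃ y₀, y₀ = wS hK * (tg hK 1 0 * tg hK 1 0) * wS hK := ⟨_, rfl⟩
    have hρy₀ : ρ y₀ = n * tg hF 0 β₁ * n := by
      rw [hy₀, map_mul, map_mul, hsq, hn]
    have ht0 : (t : F) ≠ 0 := t.ne_zero
    have hθt0 : th m (t : F) ≠ 0 := th_ne_zero ht0
    obtain ⟨y'', hy''⟩ : ∃ y'' : F, y'' = th m (t : F) * (t : F) ^ 2 * β₁ := ⟨_, rfl⟩
    have hy''0 : y'' ≠ 0 := hy'' ▸ mul_ne_zero (mul_ne_zero hθt0 (pow_ne_zero 2 ht0)) hβ₁0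
    have hf : fS m (0 : F) y'' = th m y'' := by
      rw [fS_def, th_zero]; ring
    have hf0 : fS m (0 : F) y'' ≠ 0 := by
      rw [hf]; exact th_ne_zero hy''0
    have himg : ((ρ y₀ : ↥(Cfsg.Sz F m)) : SpecialLinearGroup (Fin 4) F) • Pinf F =
        Paff m (y'' / fS m 0 y'') (0 / fS m 0 y'') := by
      rw [hρy₀]
      show ((n : SpecialLinearGroup (Fin 4) F) * Tg m 0 β₁ * (n : SpecialLinearGroup (Fin 4) F)) •
        Pinf F = _
      rw [mul_smul, mul_smul, hninf, Tg_smul_zero hF, hnt]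
      show (wg F * Hg m t) • Paff m 0 β₁ = _
      rw [mul_smul, Hg_smul_Paff hF, mul_zero, ← hy'', wg_smul_Paff hF 0 y'' hf0]
    have hXK : inK k (y'' / fS m 0 y'') := by
      rcases bruhat hk hK y₀ with ⟨a, b, s, h⟩ | ⟨x, y', c, d, s, h, -⟩
      · exfalso
        obtain ⟨X, Y, -, -, hXY⟩ := hU a b
        obtain ⟨T, hT⟩ := hH s
        have h' : ((ρ y₀ : ↥(Cfsg.Sz F m)) : SpecialLinearGroup (Fin 4) F) • Pinf F = Pinf F := by
          rw [h, map_mul, hXY, hT]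
          show (Tg m X Y * Hg m T) • Pinf F = Pinf F
          rw [mul_smul, Hg_smul_Pinf, Tg_smul_Pinf]
        rw [himg] at h'
        exact Paff_ne_Pinf _ _ h'
      · obtain ⟨X, Y, hX, hY, hXY⟩ := hU x y'
        obtain ⟨C, D, -, -, hCD⟩ := hU c d
        obtain ⟨T, hT⟩ := hH s
        have h' : ((ρ y₀ : ↥(Cfsg.Sz F m)) : SpecialLinearGroup (Fin 4) F) • Pinf F =
            Paff m X Y := by
          rw [h, map_mul, map_mul, map_mul, hXY, hCD, hT, ← hn]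
          show (Tg m X Y * ((n : SpecialLinearGroup (Fin 4) F) * (Tg m C D * Hg m T))) • Pinf F = _
          rw [mul_smul, mul_smul, mul_smul, Hg_smul_Pinf, Tg_smul_Pinf, hninf, Tg_smul_zero hF]
        rw [himg] at h'
        rw [(Paff_inj h').1]
        exact hX
    obtain ⟨X, hXdef⟩ : ∃ X : F, X = y'' / fS m 0 y'' := ⟨_, rfl⟩
    rw [← hXdef] at hXK
    have hX0 : X ≠ 0 := hXdef ▸ div_ne_zero hy''0 hf0
    have hXeq : X * th m y'' = y'' := by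
      rw [hXdef, hf]
      exact div_mul_cancel₀ _ (th_ne_zero hy''0)
    have hthy : th m y'' = (t : F) ^ 2 * th m (t : F) ^ 2 * th m β₁ := by
      rw [hy'', th_mul, th_mul, th_th hF, th_pow]
    have hθβ0 : th m β₁ ≠ 0 := th_ne_zero hβ₁0
    have hθt : th m (t : F) = β₁ / (X * th m β₁) := by
      rw [eq_div_iff (mul_ne_zero hX0 hθβ0)]
      have h1 : (th m (t : F) * (X * th m β₁)) * ((t : F) ^ 2 * th m (t : F)) =
          β₁ * ((t : F) ^ 2 * th m (t : F)) := by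
        rw [hthy, hy''] at hXeq
        linear_combination hXeq
      exact mul_right_cancel₀ (mul_ne_zero (pow_ne_zero 2 ht0) hθt0) h1
    apply inK_of_th hF
    rw [hθt]
    exact inK_div hβ₁K (inK_mul hXK (inK_th hβ₁K))
  have hnr : n ∈ (iota hk hK hF hdiv φ).range := by
    rw [hnt]
    exact Subgroup.mul_mem _ (wS_mem_range hk hK hF hdiv φ) (hgS_mem_range hk hK hF hdiv φ t htK)
  rcases bruhat hk hK y with ⟨a, b, s, h⟩ | ⟨x, y', c, d, s, h, -⟩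
  · rw [h, map_mul]
    exact Subgroup.mul_mem _ (hUr a b) (hHr s)
  · rw [h, map_mul, map_mul, map_mul, ← hn]
    exact Subgroup.mul_mem _ (hUr x y') (Subgroup.mul_mem _ hnr
      (Subgroup.mul_mem _ (hUr c d) (hHr s)))

/-- every embedding of `Sz K k` into `Sz F m` is conjugate into the standard subfield subgroup -/
theorem exists_conj_mem_range (hm : 1 ≤ m) (hF : Fintype.card F = 2 ^ (2 * m + 1)) (hk : 1 ≤ k)
    (hK : Fintype.card K = 2 ^ (2 * k + 1)) (hdiv : 2 * k + 1 ∣ 2 * m + 1) (φ : K →+* F)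
    (ρ : ↥(Cfsg.Sz K k) →* ↥(Cfsg.Sz F m)) (hρ : Function.Injective ρ) :
    ∃ g : ↥(Cfsg.Sz F m), ∀ y, g * ρ y * g⁻¹ ∈ (iota hk hK hF hdiv φ).range := by
  obtain ⟨x, hx⟩ := exists_conj_tg_mem_U hm hF hK ρ
  obtain ⟨ρ₁, hρ₁def⟩ : ∃ ρ₁ : ↥(Cfsg.Sz K k) →* ↥(Cfsg.Sz F m),
      ρ₁ = (MulAut.conj x).toMonoidHom.comp ρ := ⟨_, rfl⟩
  have hρ₁apply : ∀ y, ρ₁ y = x * ρ y * x⁻¹ := by
    intro y; rw [hρ₁def]; rfl
  have hρ₁ : Function.Injective ρ₁ := by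
    rw [hρ₁def]; exact (MulAut.conj x).injective.comp hρ
  have hU₁ : ∀ a b : K, ρ₁ (tg hK a b) ∈ U hF := by
    intro a b; rw [hρ₁apply]; exact hx a b
  obtain ⟨u, huU, hu⟩ := exists_conj_hgS hm hF hk hK ρ₁ hρ₁ hU₁
  obtain ⟨ρ₂, hρ₂def⟩ : ∃ ρ₂ : ↥(Cfsg.Sz K k) →* ↥(Cfsg.Sz F m),
      ρ₂ = (MulAut.conj u).toMonoidHom.comp ρ₁ := ⟨_, rfl⟩
  have hρ₂apply : ∀ y, ρ₂ y = u * ρ₁ y * u⁻¹ := by
    intro y; rw [hρ₂def]; rfl
  have hρ₂ : Function.Injective ρ₂ := by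
    rw [hρ₂def]; exact (MulAut.conj u).injective.comp hρ₁
  have hU₂ : ∀ a b : K, ρ₂ (tg hK a b) ∈ U hF := by
    intro a b
    rw [hρ₂apply]
    exact (U hF).mul_mem ((U hF).mul_mem huU (hU₁ a b)) ((U hF).inv_mem huU)
  have hH₂ : ∀ z : Kˣ, ∃ t : Fˣ, ρ₂ (hgS hK z) = hgS hF t := by
    intro z
    obtain ⟨t, ht⟩ := hu z
    exact ⟨t, by rw [hρ₂apply]; exact ht⟩
  obtain ⟨e, he⟩ := exists_conj_coords hF hk hK ρ₂ hρ₂ hU₂ hH₂
  obtain ⟨ρ₃, hρ₃def⟩ : ∃ ρ₃ : ↥(Cfsg.Sz K k) →* ↥(Cfsg.Sz F m),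
      ρ₃ = (MulAut.conj (hgS hF e)).toMonoidHom.comp ρ₂ := ⟨_, rfl⟩
  have hρ₃apply : ∀ y, ρ₃ y = hgS hF e * ρ₂ y * (hgS hF e)⁻¹ := by
    intro y; rw [hρ₃def]; rfl
  have hρ₃ : Function.Injective ρ₃ := by
    rw [hρ₃def]; exact (MulAut.conj _).injective.comp hρ₂
  have hU₃ : ∀ a b : K, ∃ x y : F, inK k x ∧ inK k y ∧ ρ₃ (tg hK a b) = tg hF x y := by
    intro a b
    obtain ⟨x', y', hx', hy', h⟩ := he a b
    exact ⟨x', y', hx', hy', by rw [hρ₃apply]; exact h⟩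
  have hH₃ : ∀ z : Kˣ, ∃ t : Fˣ, ρ₃ (hgS hK z) = hgS hF t := by
    intro z
    obtain ⟨t, ht⟩ := hH₂ z
    refine ⟨t, ?_⟩
    rw [hρ₃apply, ht, ← hgS_mul, mul_comm, hgS_mul, mul_inv_cancel_right]
  refine ⟨hgS hF e * u * x, fun y => ?_⟩
  have h := range_le hm hF hk hK hdiv φ ρ₃ hρ₃ hU₃ hH₃ y
  have e1 : ρ₃ y = hgS hF e * u * x * ρ y * (hgS hF e * u * x)⁻¹ := by
    rw [hρ₃apply, hρ₂apply, hρ₁apply]
    group
  rwa [e1] at h

end Cfsg.Agent.Lib.Helper45.SzSub
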